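import Cfsg.Agent.Lib.H19.Hopf

/-! Projective representations and the Hopf cover (helper19). -/

set_option autoImplicit false
set_option linter.style.haveILetI false

namespace Cfsg.Agent.H19.Hopf

open scoped commutatorElement

universe u v w

/-- The standard presentation of `Q`. -/
noncomputable def canon (Q : Type u) [Group Q] : FreeGroup Q →* Q := FreeGroup.lift id

theorem canon_surjective (Q : Type u) [Group Q] : Function.Surjective (canon Q) :=
  fun q => ⟨FreeGroup.of q, by simp [canon]⟩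

theorem exists_hom_extension {E Z T : Type*} [CommGroup E] [CommGroup Z] [CommGroup T]
    (hdiv : ∀ (z : Z) (n : ℕ), n ≠ 0 → ∃ y : Z, y ^ n = z) (i : T →* E) (hi : Function.Injective i)
    (f : T →* Z) : ∃ χ : E →* Z, ∀ t, χ (i t) = f t := by
  haveI : DivisibleBy (Additive Z) ℕ := by
    apply divisibleByOfSMulRightSurj
    intro n hn z
    obtain ⟨y, hy⟩ := hdiv z.toMul n hn
    exact ⟨Additive.ofMul y, by
      show Additive.ofMul (y ^ n) = z
      rw [hy]
      rfl⟩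
  haveI : DivisibleBy (Additive Z) ℤ := AddGroup.divisibleByIntOfDivisibleByNat _
  have hB := Module.Baer.of_divisible (Additive Z)
  obtain ⟨h, hh⟩ := hB.extension_property_addMonoidHom (MonoidHom.toAdditive i) hi
    (MonoidHom.toAdditive f)
  refine ⟨AddMonoidHom.toMultiplicativeLeft h |>.comp (MulEquiv.refl E).toMonoidHom, ?_⟩
  intro t
  exact DFunLike.congr_fun hh (Additive.ofMul t)

theorem center_GL_div (n : ℕ) (z : Subgroup.center (GL (Fin n) ℂ)) (k : ℕ) (hk : k ≠ 0) :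
    ∃ y : Subgroup.center (GL (Fin n) ℂ), y ^ k = z := by
  obtain ⟨z, hz⟩ := z
  have hz' := hz
  rw [Matrix.GeneralLinearGroup.center_eq_range_scalar] at hz'
  obtain ⟨a, rfl⟩ := hz'
  obtain ⟨b, hb⟩ := IsAlgClosed.exists_pow_nat_eq (a : ℂ) (Nat.pos_of_ne_zero hk)
  have hb0 : b ≠ 0 := by
    intro h
    rw [h, zero_pow hk] at hb
    exact a.ne_zero hb.symm
  let u : ℂˣ := Units.mk0 b hb0
  have hu : u ^ k = a := by
    ext
    simpa [u] using hb
  refine ⟨⟨Matrix.GeneralLinearGroup.scalar (Fin n) u, ?_⟩, ?_⟩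
  · rw [Matrix.GeneralLinearGroup.center_eq_range_scalar]
    exact ⟨u, rfl⟩
  · apply Subtype.ext
    show (Matrix.GeneralLinearGroup.scalar (Fin n) u) ^ k = _
    rw [← map_pow, hu]

/-- Central extensions over a target. -/
theorem exists_cov_lift' {F : Type u} [Group F] [IsFreeGroup F] {Q : Type v} [Group Q] (ε : F →* Q)
    {X : Type w} {Y : Type*} [Group X] [Group Y] (ξ : X →* Y) (hξ : Function.Surjective ξ)
    (hcen : ξ.ker ≤ Subgroup.center X) (g : Q →* Y) :
    ∃ θ : Cov ε →* X, ξ.comp θ = g.comp (covMap ε) := by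
  obtain ⟨f, hf⟩ := exists_free_lift (g.comp ε) ξ hξ
  have hker : relC ε ≤ f.ker := by
    rw [Subgroup.commutator_le]
    intro x hx y _
    rw [MonoidHom.mem_ker, map_commutatorElement, commutatorElement_eq_one_iff_commute]
    have h1 : f x ∈ ξ.ker := by
      rw [MonoidHom.mem_ker]
      have := DFunLike.congr_fun hf x
      simp only [MonoidHom.comp_apply] at this
      rw [this]
      have hx' : ε x = 1 := hx
      rw [hx', map_one]
    exact ((Subgroup.mem_center_iff.mp (hcen h1)) (f y)).symm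
  refine ⟨QuotientGroup.lift (relC ε) f (fun x hx => hker hx), ?_⟩
  ext x
  exact DFunLike.congr_fun hf x

/-- For a stem extension whose kernel has the order of the multiplier, the lift from the Hopf cover is
injective on the multiplier. -/
theorem lift_injective_on_covM {F : Type u} [Group F] [IsFreeGroup F] [Group.FG F] {Q : Type u} [Group Q]
    [Finite Q] (ε : F →* Q) (hε : Function.Surjective ε) {A : Type v} [CommGroup A]
    (hA : Cfsg.HasSchurMultiplier Q A) {Γ : Type w} [Group Γ] (σ : Γ →* Q) (hσ : Cfsg.IsStemExtension σ)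
    (hk : Nonempty (σ.ker ≃* A)) (θ : Cov ε →* Γ) (hθ : σ.comp θ = covMap ε) {m : Cov ε}
    (hm : m ∈ covM ε) (hθm : θ m = 1) : m = 1 := by
  obtain ⟨e1⟩ := nonempty_equiv_covM ε hε hA
  obtain ⟨e2⟩ := hk
  let f : covM ε →* σ.ker :=
    (θ.comp (covM ε).subtype).codRestrict σ.ker (fun x => (image_covM_mem ε σ θ hθ x.2).1)
  have hf : Function.Surjective f := by
    rintro ⟨y, hy⟩
    obtain ⟨w, hw, hwy⟩ := mem_image_covM ε σ hσ.2.1 θ hθ hε hσ.1 hy (hσ.2.2 hy)
    exact ⟨⟨w, hw⟩, Subtype.ext hwy⟩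
  have hcard : Nat.card (covM ε) = Nat.card σ.ker := by
    rw [Nat.card_congr e2.toEquiv, Nat.card_congr e1.toEquiv]
  have hb : Function.Bijective f := (Nat.bijective_iff_surjective_and_card f).mpr ⟨hf, hcard⟩
  have h1 : f ⟨m, hm⟩ = 1 := Subtype.ext hθm
  have h2 : (⟨m, hm⟩ : covM ε) = 1 := hb.1 (h1.trans (map_one f).symm)
  exact congrArg Subtype.val h2

/-- A projective representation lifts to any Schur cover (S3955). -/
theorem lift_proj {Q : Type u} [Group Q] [Finite Q] {A : Type v} [CommGroup A]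
    (hA : Cfsg.HasSchurMultiplier Q A) {Γ : Type w} [Group Γ] (σ : Γ →* Q)
    (hσ : Cfsg.IsStemExtension σ) (hk : Nonempty (σ.ker ≃* A)) (n : ℕ)
    (γ : Q →* (GL (Fin n) ℂ ⧸ Subgroup.center (GL (Fin n) ℂ))) :
    ∃ ρ : Γ →* GL (Fin n) ℂ, (QuotientGroup.mk' (Subgroup.center (GL (Fin n) ℂ))).comp ρ = γ.comp σ := by
  classical
  let ε := canon Q
  have hε : Function.Surjective ε := canon_surjective Q
  obtain ⟨θ, hθ⟩ := exists_cov_lift ε σ hσ.1 hσ.2.1
  have hθs : Function.Surjective θ := stem_lift_surjective ε hε σ hσ θ hθ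
  have hinj : ∀ m ∈ covM ε, θ m = 1 → m = 1 :=
    fun m hm h => lift_injective_on_covM ε hε hA σ hσ hk θ hθ hm h
  let proj := QuotientGroup.mk' (Subgroup.center (GL (Fin n) ℂ))
  have hproj : Function.Surjective proj := QuotientGroup.mk'_surjective _
  have hprojker : proj.ker ≤ Subgroup.center (GL (Fin n) ℂ) := by
    rw [QuotientGroup.ker_mk']
  obtain ⟨φ, hφ⟩ := exists_cov_lift' ε proj hproj hprojker γ
  have hφ' : ∀ w, proj (φ w) = γ (covMap ε w) := fun w => DFunLike.congr_fun hφ w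
  have hTle : θ.ker ≤ covKer ε := by
    intro t ht
    show covMap ε t = 1
    have : σ (θ t) = covMap ε t := DFunLike.congr_fun hθ t
    rw [← this, (MonoidHom.mem_ker.mp ht), map_one]
  letI : CommGroup θ.ker :=
    { (inferInstance : Group θ.ker) with
      mul_comm := fun a b =>
        Subtype.ext ((Subgroup.mem_center_iff.mp (covKer_le_center ε (hTle b.2))) a.1) }
  let q : Cov ε →* Abelianization (Cov ε) := Abelianization.of
  have hqker : ∀ x, q x = 1 ↔ x ∈ commutator (Cov ε) := fun x => by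
    rw [← Abelianization.ker_of]
    rfl
  let i : θ.ker →* Abelianization (Cov ε) := q.comp θ.ker.subtype
  have hi : Function.Injective i := by
    rw [injective_iff_map_eq_one]
    rintro ⟨t, ht⟩ h
    have h1 : t ∈ commutator (Cov ε) := (hqker t).mp h
    exact Subtype.ext (hinj t ⟨hTle ht, h1⟩ ht)
  have hφc : ∀ t : θ.ker, φ t ∈ Subgroup.center (GL (Fin n) ℂ) := by
    intro t
    have h1 : proj (φ t) = 1 := by
      rw [hφ', (hTle t.2 : covMap ε t = 1), map_one]
    exact (QuotientGroup.eq_one_iff _).mp h1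
  let f₀ : θ.ker →* Subgroup.center (GL (Fin n) ℂ) :=
    (φ.comp θ.ker.subtype).codRestrict _ hφc
  letI : CommGroup (Subgroup.center (GL (Fin n) ℂ)) :=
    { (inferInstance : Group (Subgroup.center (GL (Fin n) ℂ))) with
      mul_comm := fun a b => Subtype.ext ((Subgroup.mem_center_iff.mp b.2) a.1) }
  obtain ⟨χ, hχ⟩ := exists_hom_extension (Z := Subgroup.center (GL (Fin n) ℂ)) (center_GL_div n) i hi f₀
  have hχc : ∀ w g, (χ (q w) : GL (Fin n) ℂ) * g = g * χ (q w) := by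
    intro w g
    exact (Subgroup.mem_center_iff.mp (χ (q w)).2 g).symm
  let φ' : Cov ε →* GL (Fin n) ℂ :=
    { toFun := fun w => φ w * ((χ (q w) : Subgroup.center (GL (Fin n) ℂ)) : GL (Fin n) ℂ)⁻¹
      map_one' := by simp
      map_mul' := by
        intro a b
        rw [map_mul, map_mul, map_mul]
        push_cast
        rw [mul_inv_rev]
        have h1 : ((χ (q b) : Subgroup.center (GL (Fin n) ℂ)) : GL (Fin n) ℂ)⁻¹ * ((χ (q a)) : GL (Fin n) ℂ)⁻¹
            = (χ (q a) : GL (Fin n) ℂ)⁻¹ * (χ (q b) : GL (Fin n) ℂ)⁻¹ := by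
          rw [← mul_inv_rev, ← mul_inv_rev, hχc]
        rw [h1]
        have h2 : φ b * (χ (q a) : GL (Fin n) ℂ)⁻¹ = (χ (q a) : GL (Fin n) ℂ)⁻¹ * φ b := by
          rw [eq_inv_mul_iff_mul_eq, ← mul_assoc, hχc, mul_inv_cancel_right]
        simp only [mul_assoc]
        rw [← mul_assoc (φ b), h2, mul_assoc] }
  have hφ'ker : θ.ker ≤ φ'.ker := by
    intro t ht
    rw [MonoidHom.mem_ker]
    show φ t * ((χ (q t) : Subgroup.center (GL (Fin n) ℂ)) : GL (Fin n) ℂ)⁻¹ = 1
    have h1 : χ (q t) = f₀ ⟨t, ht⟩ := hχ ⟨t, ht⟩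
    rw [h1]
    show φ t * (φ t)⁻¹ = 1
    rw [mul_inv_cancel]
  refine ⟨θ.liftOfSurjective hθs ⟨φ', hφ'ker⟩, ?_⟩
  ext1 g
  obtain ⟨w, rfl⟩ := hθs g
  have h1 : θ.liftOfSurjective hθs ⟨φ', hφ'ker⟩ (θ w) = φ' w := MonoidHom.liftOfRightInverse_comp_apply _ _ _ _ _
  simp only [MonoidHom.comp_apply]
  rw [h1]
  have h2 : σ (θ w) = covMap ε w := DFunLike.congr_fun hθ w
  rw [h2, ← hφ']
  show proj (φ w * ((χ (q w) : Subgroup.center (GL (Fin n) ℂ)) : GL (Fin n) ℂ)⁻¹) = proj (φ w)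
  rw [map_mul, map_inv]
  have h3 : proj ((χ (q w) : Subgroup.center (GL (Fin n) ℂ)) : GL (Fin n) ℂ) = 1 :=
    (QuotientGroup.eq_one_iff _).mpr (χ (q w)).2
  rw [h3, inv_one, mul_one]

/-- A representation of `Δ` on which the central subgroup `K` acts through the scalars `lam`. -/
theorem exists_rep_scalar {Δ : Type u} [Group Δ] [Finite Δ] (K : Subgroup Δ) (hK : K ≤ Subgroup.center Δ)
    (lam : K →* ℂˣ) : ∃ (n : ℕ) (ρ : Δ →* GL (Fin n) ℂ),
      (∀ k : K, ρ k ∈ Subgroup.center (GL (Fin n) ℂ)) ∧ (∀ k : K, ρ k = 1 → lam k = 1) := by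
  classical
  let V : Submodule ℂ (Δ → ℂ) :=
    { carrier := {f | ∀ (k : K) (d : Δ), f (k * d) = (lam k : ℂ) * f d}
      add_mem' := by
        intro a b ha hb k d
        simp only [Pi.add_apply, ha k d, hb k d, mul_add]
      zero_mem' := by
        intro k d
        simp
      smul_mem' := by
        intro c a ha k d
        simp only [Pi.smul_apply, ha k d, smul_eq_mul]
        ring }
  let R : Δ →* Module.End ℂ V :=
    { toFun := fun x =>
        { toFun := fun f => ⟨fun d => f.1 (d * x), by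
            intro k d
            have := f.2 k (d * x)
            simpa [mul_assoc] using this⟩
          map_add' := fun _ _ => rfl
          map_smul' := fun _ _ => rfl }
      map_one' := by
        ext f d
        simp
      map_mul' := by
        intro x y
        ext f d
        show f.1 (d * (x * y)) = f.1 (d * x * y)
        rw [mul_assoc] }
  have hRk : ∀ (k : K), R k = (lam k : ℂ) • LinearMap.id := by
    intro k
    ext f d
    show f.1 (d * k) = (lam k : ℂ) * f.1 d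
    have h1 : d * (k : Δ) = k * d := (Subgroup.mem_center_iff.mp (hK k.2) d)
    rw [h1]
    exact f.2 k d
  let n := Module.finrank ℂ V
  let b := Module.finBasis ℂ V
  let ρ : Δ →* GL (Fin n) ℂ :=
    MonoidHom.toHomUnits ((LinearMap.toMatrixAlgEquiv b).toRingEquiv.toMonoidHom.comp R)
  have hρval : ∀ x, (ρ x).val = LinearMap.toMatrixAlgEquiv b (R x) := fun x => rfl
  refine ⟨n, ρ, ?_, ?_⟩
  · intro k
    rw [Matrix.GeneralLinearGroup.mem_center_iff_val_mem_range_scalar]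
    refine ⟨(lam k : ℂ), ?_⟩
    rw [hρval, hRk, map_smul]
    have : LinearMap.toMatrixAlgEquiv b (LinearMap.id : V →ₗ[ℂ] V) = 1 := by
      exact map_one (LinearMap.toMatrixAlgEquiv b)
    rw [this, Matrix.scalar_apply, Matrix.smul_one_eq_diagonal]
  · intro k hk
    have h1 : LinearMap.toMatrixAlgEquiv b (R k) = 1 := by
      rw [← hρval, hk]
      rfl
    have h2 : R k = LinearMap.id := by
      apply (LinearMap.toMatrixAlgEquiv b).injective
      rw [h1]
      exact (map_one (LinearMap.toMatrixAlgEquiv b)).symm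
    rw [hRk] at h2
    -- test on the function supported on `K`
    let f₀ : V := ⟨fun d => if h : d ∈ K then (lam ⟨d, h⟩ : ℂ) else 0, by
      intro k' d
      by_cases hd : d ∈ K
      · have h3 : (k' : Δ) * d ∈ K := K.mul_mem k'.2 hd
        simp only [h3, hd, dif_pos]
        have : (⟨(k' : Δ) * d, h3⟩ : K) = k' * ⟨d, hd⟩ := rfl
        rw [this, map_mul]
        simp
      · have h3 : (k' : Δ) * d ∉ K := fun h => hd (by
          have := K.mul_mem (K.inv_mem k'.2) h
          simpa using this)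
        simp [h3, hd]⟩
    have h3 := LinearMap.congr_fun h2 f₀
    have h4 := congrFun (congrArg Subtype.val h3) 1
    have h5 : ((lam k : ℂ) • (LinearMap.id : V →ₗ[ℂ] V) f₀).1 1 = (lam k : ℂ) * f₀.1 1 := rfl
    have h6 : ((LinearMap.id : V →ₗ[ℂ] V) f₀).1 1 = f₀.1 1 := rfl
    rw [LinearMap.smul_apply, h5, h6] at h4
    have h7 : f₀.1 1 = 1 := by
      show (if h : (1 : Δ) ∈ K then (lam ⟨1, h⟩ : ℂ) else 0) = 1
      rw [dif_pos K.one_mem]
      have : (⟨1, K.one_mem⟩ : K) = 1 := rfl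
      rw [this, map_one]
      rfl
    rw [h7, mul_one] at h4
    ext
    exact h4

/-- The commutator subgroup is where the two lifts agree. -/
theorem lifts_agree_on_commutator {H : Type*} {G : Type*} [Group H] [Group G] (a b : H →* G)
    (h : ∀ w, a w * (b w)⁻¹ ∈ Subgroup.center G) {x : H} (hx : x ∈ commutator H) : a x = b x := by
  have hle : commutator H ≤ a.eqLocus b := by
    rw [commutator_def, Subgroup.commutator_le]
    intro u _ v _
    show a ⁅u, v⁆ = b ⁅u, v⁆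
    rw [map_commutatorElement, map_commutatorElement]
    have h1 : a u = b u * ((b u)⁻¹ * a u) := by group
    have h2 : a v = b v * ((b v)⁻¹ * a v) := by group
    have hc : ∀ w, ∀ g, g * ((b w)⁻¹ * a w) = ((b w)⁻¹ * a w) * g := by
      intro w g
      have h4 := Subgroup.mem_center_iff.mp (h w)
      have e : (b w)⁻¹ * a w = a w * (b w)⁻¹ := by
        calc (b w)⁻¹ * a w = (b w)⁻¹ * (a w * (b w)⁻¹) * b w := by group
          _ = (a w * (b w)⁻¹) * (b w)⁻¹ * b w := by rw [h4 (b w)⁻¹]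
          _ = a w * (b w)⁻¹ := by rw [inv_mul_cancel_right]
      rw [e]
      exact h4 g
    rw [h1, h2]
    rw [comm_mul_central_left (hc u), comm_mul_central_right (hc v)]
  exact hle hx

/-- Lifting every projective representation makes the kernel as large as any other (S3956). -/
theorem surj_of_lifts {Q : Type u} [Group Q] [Finite Q] {Γ : Type v} [Group Γ] [Finite Γ] (σ : Γ →* Q)
    (hσ : Cfsg.IsStemExtension σ)
    (hlift : ∀ (n : ℕ) (γ : Q →* (GL (Fin n) ℂ ⧸ Subgroup.center (GL (Fin n) ℂ))),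
      ∃ ρ : Γ →* GL (Fin n) ℂ, (QuotientGroup.mk' (Subgroup.center (GL (Fin n) ℂ))).comp ρ = γ.comp σ)
    (Δ : Type u) [Group Δ] [Finite Δ] (τ : Δ →* Q) (hτ : Cfsg.IsStemExtension τ) :
    ∃ π : σ.ker →* τ.ker, Function.Surjective π := by
  classical
  let ε := canon Q
  have hε : Function.Surjective ε := canon_surjective Q
  obtain ⟨θ₁, hθ₁⟩ := exists_cov_lift ε σ hσ.1 hσ.2.1
  obtain ⟨θ₂, hθ₂⟩ := exists_cov_lift ε τ hτ.1 hτ.2.1
  let f₁ : covM ε →* σ.ker :=
    (θ₁.comp (covM ε).subtype).codRestrict σ.ker (fun x => (image_covM_mem ε σ θ₁ hθ₁ x.2).1)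
  let f₂ : covM ε →* τ.ker :=
    (θ₂.comp (covM ε).subtype).codRestrict τ.ker (fun x => (image_covM_mem ε τ θ₂ hθ₂ x.2).1)
  have hf₁ : Function.Surjective f₁ := by
    rintro ⟨y, hy⟩
    obtain ⟨w, hw, hwy⟩ := mem_image_covM ε σ hσ.2.1 θ₁ hθ₁ hε hσ.1 hy (hσ.2.2 hy)
    exact ⟨⟨w, hw⟩, Subtype.ext hwy⟩
  have hf₂ : Function.Surjective f₂ := by
    rintro ⟨y, hy⟩
    obtain ⟨w, hw, hwy⟩ := mem_image_covM ε τ hτ.2.1 θ₂ hθ₂ hε hτ.1 hy (hτ.2.2 hy)
    exact ⟨⟨w, hw⟩, Subtype.ext hwy⟩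
  have hkey : f₁.ker ≤ f₂.ker := by
    rintro ⟨m, hm⟩ hm1
    have hm1' : θ₁ m = 1 := congrArg Subtype.val (MonoidHom.mem_ker.mp hm1)
    rw [MonoidHom.mem_ker]
    apply Subtype.ext
    show θ₂ m = 1
    by_contra hne
    -- the kernel of `τ` is commutative
    letI : CommGroup τ.ker :=
      { (inferInstance : Group τ.ker) with
        mul_comm := fun a b => Subtype.ext ((Subgroup.mem_center_iff.mp (hτ.2.1 b.2)) a.1) }
    haveI : Finite τ.ker := inferInstance
    haveI : NeZero (Monoid.exponent τ.ker) := ⟨Monoid.exponent_ne_zero_of_finite⟩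
    let k : τ.ker := ⟨θ₂ m, (image_covM_mem ε τ θ₂ hθ₂ hm).1⟩
    have hk : k ≠ 1 := fun h => hne (congrArg Subtype.val h)
    obtain ⟨lam, hlam⟩ := CommGroup.exists_apply_ne_one_of_hasEnoughRootsOfUnity τ.ker ℂ hk
    obtain ⟨n, ρ, hρ1, hρ2⟩ := exists_rep_scalar τ.ker hτ.2.1 lam
    let proj := QuotientGroup.mk' (Subgroup.center (GL (Fin n) ℂ))
    have hprojker : ∀ g, proj g = 1 ↔ g ∈ Subgroup.center (GL (Fin n) ℂ) :=
      fun g => QuotientGroup.eq_one_iff g
    let γ : Q →* (GL (Fin n) ℂ ⧸ Subgroup.center (GL (Fin n) ℂ)) :=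
      τ.liftOfSurjective hτ.1 ⟨proj.comp ρ, by
        intro x hx
        rw [MonoidHom.mem_ker]
        exact (hprojker _).mpr (hρ1 ⟨x, hx⟩)⟩
    have hγ : ∀ x, γ (τ x) = proj (ρ x) := fun x =>
      MonoidHom.liftOfRightInverse_comp_apply _ _ _ _ _
    obtain ⟨ρ', hρ'⟩ := hlift n γ
    have hρ'' : ∀ x, proj (ρ' x) = γ (σ x) := fun x => DFunLike.congr_fun hρ' x
    have hcen : ∀ w : Cov ε, (ρ.comp θ₂) w * ((ρ'.comp θ₁) w)⁻¹ ∈ Subgroup.center (GL (Fin n) ℂ) := by
      intro w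
      rw [← hprojker, map_mul, map_inv, mul_inv_eq_one]
      show proj (ρ (θ₂ w)) = proj (ρ' (θ₁ w))
      rw [hρ'', ← hγ]
      have h1 : τ (θ₂ w) = covMap ε w := DFunLike.congr_fun hθ₂ w
      have h2 : σ (θ₁ w) = covMap ε w := DFunLike.congr_fun hθ₁ w
      rw [h1, h2]
    have hag := lifts_agree_on_commutator (ρ.comp θ₂) (ρ'.comp θ₁) hcen hm.2
    have h3 : ρ (θ₂ m) = 1 := by
      have : ρ (θ₂ m) = ρ' (θ₁ m) := hag
      rw [this, hm1', map_one]
    exact hlam (hρ2 k h3)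
  refine ⟨f₁.liftOfSurjective hf₁ ⟨f₂, hkey⟩, ?_⟩
  intro y
  obtain ⟨x, rfl⟩ := hf₂ y
  refine ⟨f₁ x, ?_⟩
  exact MonoidHom.liftOfRightInverse_comp_apply _ _ _ _ _

/-- The identity is a stem extension with trivial kernel. -/
theorem id_isStem (Q : Type u) [Group Q] : Cfsg.IsStemExtension (MonoidHom.id Q) := by
  refine ⟨Function.surjective_id, ?_, ?_⟩
  · rw [MonoidHom.ker_id]; exact bot_le
  · rw [MonoidHom.ker_id]; exact bot_le

/-- Trivial multiplier iff every stem extension has trivial kernel. -/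
theorem hasCyclic_one_iff (Q : Type u) [Group Q] [Finite Q] :
    Cfsg.HasCyclicSchurMultiplier Q 1 ↔
      ∀ (Δ : Type u) [Group Δ] [Finite Δ] (τ : Δ →* Q), Cfsg.IsStemExtension τ → τ.ker = ⊥ := by
  haveI hU : Unique (Multiplicative (ZMod 1)) := inferInstanceAs (Unique (ZMod 1))
  constructor
  · intro h Δ _ _ τ hτ
    obtain ⟨π, hπ⟩ := h.2 Δ τ hτ
    rw [eq_bot_iff]
    intro x hx
    obtain ⟨u, hu⟩ := hπ ⟨x, hx⟩
    have h1 : u = 1 := Subsingleton.elim _ _
    rw [h1, map_one] at hu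
    have h2 : x = 1 := (congrArg Subtype.val hu).symm
    exact h2
  · intro h
    refine ⟨⟨Q, inferInstance, inferInstance, MonoidHom.id Q, id_isStem Q, ?_⟩, ?_⟩
    · refine ⟨?_⟩
      rw [MonoidHom.ker_id]
      exact MulEquiv.ofUnique
    · intro Γ _ _ σ hσ
      refine ⟨1, ?_⟩
      rw [h Γ σ hσ]
      rintro ⟨x, hx⟩
      exact ⟨1, Subtype.ext (Subgroup.mem_bot.mp hx).symm⟩

/-- S3978 -/
theorem trivial_iff_lifts {Q : Type u} [Group Q] [Finite Q] :
    Cfsg.HasCyclicSchurMultiplier Q 1 ↔ ∀ (n : ℕ) (γ : Q →* (GL (Fin n) ℂ ⧸ Subgroup.center (GL (Fin n) ℂ))),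
      ∃ ρ : Q →* GL (Fin n) ℂ, (QuotientGroup.mk' (Subgroup.center (GL (Fin n) ℂ))).comp ρ = γ := by
  haveI hU : Unique (Multiplicative (ZMod 1)) := inferInstanceAs (Unique (ZMod 1))
  constructor
  · intro h n γ
    have hk : Nonempty ((MonoidHom.id Q).ker ≃* Multiplicative (ZMod 1)) := by
      refine ⟨?_⟩
      rw [MonoidHom.ker_id]
      exact MulEquiv.ofUnique
    obtain ⟨ρ, hρ⟩ := lift_proj h (MonoidHom.id Q) (id_isStem Q) hk n γ
    exact ⟨ρ, by simpa using hρ⟩
  · intro h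
    rw [hasCyclic_one_iff]
    intro Δ _ _ τ hτ
    have hlift : ∀ (n : ℕ) (γ : Q →* (GL (Fin n) ℂ ⧸ Subgroup.center (GL (Fin n) ℂ))),
        ∃ ρ : Q →* GL (Fin n) ℂ,
          (QuotientGroup.mk' (Subgroup.center (GL (Fin n) ℂ))).comp ρ = γ.comp (MonoidHom.id Q) := by
      intro n γ
      obtain ⟨ρ, hρ⟩ := h n γ
      exact ⟨ρ, by simpa using hρ⟩
    obtain ⟨π, hπ⟩ := surj_of_lifts (MonoidHom.id Q) (id_isStem Q) hlift Δ τ hτ
    rw [eq_bot_iff]
    intro x hx
    obtain ⟨u, hu⟩ := hπ ⟨x, hx⟩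
    have h1 : u = 1 := by
      apply Subtype.ext
      exact u.2
    rw [h1, map_one] at hu
    exact (congrArg Subtype.val hu).symm

/-- S3957: any stem extension is a quotient of a Schur cover. -/
theorem exists_cover_over {Q : Type u} [Group Q] [Finite Q] {A : Type v} [CommGroup A]
    (hA : Cfsg.HasSchurMultiplier Q A) {Δ : Type u} [Group Δ] [Finite Δ] (τ : Δ →* Q)
    (hτ : Cfsg.IsStemExtension τ) :
    ∃ (Γ : Type u) (_ : Group Γ) (_ : Finite Γ) (σ : Γ →* Q), Cfsg.IsStemExtension σ ∧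
      Nonempty (σ.ker ≃* A) ∧ ∃ β : Γ →* Δ, Function.Surjective β ∧ τ.comp β = σ := by
  let ε := canon Q
  have hε : Function.Surjective ε := canon_surjective Q
  obtain ⟨e1⟩ := nonempty_equiv_covM ε hε hA
  obtain ⟨θ, hθ⟩ := exists_cov_lift ε τ hτ.1 hτ.2.1
  have hθs := stem_lift_surjective ε hε τ hτ θ hθ
  have hLle : θ.ker ≤ covKer ε := by
    intro t ht
    show covMap ε t = 1
    have : τ (θ t) = covMap ε t := DFunLike.congr_fun hθ t
    rw [← this, MonoidHom.mem_ker.mp ht, map_one]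
  have hLM : covKer ε ≤ θ.ker ⊔ covM ε := by
    intro x hx
    have h1 : θ x ∈ τ.ker := by
      rw [MonoidHom.mem_ker]
      have : τ (θ x) = covMap ε x := DFunLike.congr_fun hθ x
      rw [this]
      exact hx
    obtain ⟨m, hm, hmx⟩ := mem_image_covM ε τ hτ.2.1 θ hθ hε hτ.1 h1 (hτ.2.2 h1)
    have h2 : x * m⁻¹ ∈ θ.ker := by
      rw [MonoidHom.mem_ker, map_mul, map_inv, hmx, mul_inv_cancel]
    have h3 : x = x * m⁻¹ * m := by group
    rw [h3]
    exact Subgroup.mul_mem_sup h2 hm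
  obtain ⟨T, hTL, hT1, hT2⟩ := exists_complement ε hε θ.ker hLle hLM
  obtain ⟨Γ, i1, i2, σ, p, hσ, hp, hpker, hσp, ⟨e2⟩⟩ :=
    exists_stem_of_complement ε hε T (hT2 ▸ le_sup_left) hT2 hT1
  refine ⟨Γ, i1, i2, σ, hσ, ⟨e2.trans e1.symm⟩, p.liftOfSurjective hp ⟨θ, by rw [hpker]; exact hTL⟩, ?_, ?_⟩
  · intro y
    obtain ⟨w, rfl⟩ := hθs y
    refine ⟨p w, ?_⟩
    exact MonoidHom.liftOfRightInverse_comp_apply _ _ _ _ _
  · ext1 g
    obtain ⟨w, rfl⟩ := hp g
    have h1 : (p.liftOfSurjective hp ⟨θ, by rw [hpker]; exact hTL⟩) (p w) = θ w :=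
      MonoidHom.liftOfRightInverse_comp_apply _ _ _ _ _
    simp only [MonoidHom.comp_apply]
    rw [h1]
    have h2 : τ (θ w) = covMap ε w := DFunLike.congr_fun hθ w
    have h3 : σ (p w) = covMap ε w := DFunLike.congr_fun hσp w
    rw [h2, h3]

end Cfsg.Agent.H19.Hopf
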