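import Mathlib
import Cfsg.Prelude.Def_Transfer
import Cfsg.Agent.Lib.H19.CyclicSylow
import Cfsg.Agent.Lib.H18.Syl
import Cfsg.Agent.Lib.H06.Stable

/-! Normal complements for abelian Sylow subgroups from order conditions (helper19). -/

set_option autoImplicit false
set_option linter.style.haveILetI false

namespace Cfsg.Agent.H19

open Cfsg

variable {G : Type*} [Group G]

/-- Fixed points mod `r` for an `r`-subgroup `A` normalizing `D`. -/
theorem card_modEq_inf_centralizer [Finite G] {r : ℕ} [Fact r.Prime] {A D : Subgroup G}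
    (hA : IsPGroup r A) (hAD : A ≤ Subgroup.normalizer (D : Set G)) :
    Nat.card D ≡ Nat.card (D ⊓ Subgroup.centralizer (A : Set G) : Subgroup G) [MOD r] := by
  classical
  letI : MulAction A D :=
    { smul := fun a x => ⟨(a : G) * x * (a : G)⁻¹, (Subgroup.mem_normalizer_iff.1 (hAD a.2) x).1 x.2⟩
      one_smul := fun x => Subtype.ext (by
        show ((1 : A) : G) * x * ((1 : A) : G)⁻¹ = x
        simp)
      mul_smul := fun a b x => Subtype.ext (by
        show ((a * b : A) : G) * x * ((a * b : A) : G)⁻¹ = (a : G) * ((b : G) * x * (b : G)⁻¹) * (a : G)⁻¹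
        push_cast
        group) }
  have h := hA.card_modEq_card_fixedPoints D
  have he : Nat.card (MulAction.fixedPoints A D) =
      Nat.card (D ⊓ Subgroup.centralizer (A : Set G) : Subgroup G) := by
    refine Nat.card_congr ⟨fun x => ⟨x.1.1, x.1.2, Subgroup.mem_centralizer_iff.2 ?_⟩,
      fun x => ⟨⟨x.1, x.2.1⟩, ?_⟩, ?_, ?_⟩
    · intro a ha
      have h1 := x.2 ⟨a, ha⟩
      have h2 : a * x.1.1 * a⁻¹ = x.1.1 := congrArg Subtype.val h1
      rw [mul_inv_eq_iff_eq_mul] at h2
      exact h2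
    · intro a
      apply Subtype.ext
      show (a : G) * x.1 * (a : G)⁻¹ = x.1
      have h2 := Subgroup.mem_centralizer_iff.1 x.2.2 a a.2
      rw [h2]; group
    · intro x; rfl
    · intro x; rfl
  rw [← he]
  exact h

/-- In a group of exponent `p`, `⟨S⟩` has at most `p^|S|` elements. -/
theorem card_closure_le_of_exponent {Q : Type*} [CommGroup Q] [Finite Q] {p : ℕ} [hp : Fact p.Prime]
    (hQ : ∀ q : Q, q ^ p = 1) (S : Finset Q) :
    Nat.card (Subgroup.closure (S : Set Q)) ≤ p ^ S.card := by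
  classical
  induction S using Finset.induction_on with
  | empty =>
    simp
  | insert s S hs ih =>
    rw [Finset.card_insert_of_notMem hs, Finset.coe_insert, pow_succ, mul_comm]
    have h1 : Subgroup.closure (insert s (S : Set Q)) =
        Subgroup.zpowers s ⊔ Subgroup.closure (S : Set Q) := by
      rw [Subgroup.zpowers_eq_closure, Set.insert_eq, Subgroup.closure_union]
    rw [h1]
    have h2 := H18.card_sup_mul_card_inf (Subgroup.zpowers s) (Subgroup.closure (S : Set Q))
    have h3 : Nat.card (Subgroup.zpowers s) ≤ p := by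
      rw [Nat.card_zpowers]
      exact Nat.le_of_dvd hp.out.pos (orderOf_dvd_of_pow_eq_one (hQ s))
    have h4 : 0 < Nat.card (Subgroup.zpowers s ⊓ Subgroup.closure (S : Set Q) : Subgroup Q) := Nat.card_pos
    calc Nat.card (Subgroup.zpowers s ⊔ Subgroup.closure (S : Set Q) : Subgroup Q)
        ≤ Nat.card (Subgroup.zpowers s ⊔ Subgroup.closure (S : Set Q) : Subgroup Q) *
          Nat.card (Subgroup.zpowers s ⊓ Subgroup.closure (S : Set Q) : Subgroup Q) :=
            Nat.le_mul_of_pos_right _ h4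
      _ = Nat.card (Subgroup.zpowers s) * Nat.card (Subgroup.closure (S : Set Q)) := h2
      _ ≤ p * p ^ S.card := Nat.mul_le_mul h3 ih

/-- A finite abelian group generated by `S` has at most `p^|S|` elements of order dividing `p`. -/
theorem card_ker_pow_le {A : Type*} [CommGroup A] [Finite A] {p : ℕ} [hp : Fact p.Prime]
    (S : Finset A) (hS : Subgroup.closure (S : Set A) = ⊤) :
    Nat.card (powMonoidHom p : A →* A).ker ≤ p ^ S.card := by
  classical
  set ψ : A →* A := powMonoidHom p with hψ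
  have h1 : Nat.card (A ⧸ ψ.ker) = Nat.card ψ.range :=
    Nat.card_congr (QuotientGroup.quotientKerEquivRange ψ).toEquiv
  have h2 := Subgroup.card_eq_card_quotient_mul_card_subgroup ψ.ker
  have h3 := Subgroup.card_eq_card_quotient_mul_card_subgroup ψ.range
  have h4 : Nat.card ψ.ker = Nat.card (A ⧸ ψ.range) := by
    rw [h2, h1] at h3
    have hpos : 0 < Nat.card ψ.range := Nat.card_pos
    exact Nat.eq_of_mul_eq_mul_right hpos (by rw [mul_comm]; exact h3)
  rw [h4]
  have hQ : ∀ q : A ⧸ ψ.range, q ^ p = 1 := by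
    intro q
    obtain ⟨a, rfl⟩ := QuotientGroup.mk_surjective q
    rw [← QuotientGroup.mk_pow, QuotientGroup.eq_one_iff]
    exact ⟨a, rfl⟩
  have h5 := card_closure_le_of_exponent hQ (S.image (QuotientGroup.mk' ψ.range))
  have h6 : Subgroup.closure ((S.image (QuotientGroup.mk' ψ.range) : Finset (A ⧸ ψ.range)) : Set (A ⧸ ψ.range)) = ⊤ := by
    rw [Finset.coe_image, ← MonoidHom.map_closure, hS, Subgroup.map_top_of_surjective _ (QuotientGroup.mk'_surjective _)]
  rw [h6, Subgroup.card_top] at h5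
  exact h5.trans (Nat.pow_le_pow_right hp.out.pos Finset.card_image_le)

/-- Coprime element centralizing all elements of order `p` of an abelian `p`-subgroup centralizes it. -/
theorem commute_of_commute_omega [Finite G] {p : ℕ} [hp : Fact p.Prime] {P : Subgroup G}
    (hP : IsPGroup p P) (hab : ∀ x ∈ P, ∀ y ∈ P, x * y = y * x) {y : G}
    (hyN : y ∈ Subgroup.normalizer (P : Set G)) (hcop : (orderOf y).Coprime p)
    (hy : ∀ z ∈ P, z ^ p = 1 → y * z = z * y) : ∀ x ∈ P, y * x = x * y := by
  classical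
  by_contra hcon
  push Not at hcon
  obtain ⟨x, hxP, hne⟩ := hcon
  set z : G := x⁻¹ * (y * x * y⁻¹) with hz
  have hzP : z ∈ P := P.mul_mem (P.inv_mem hxP) ((Subgroup.mem_normalizer_iff.1 hyN x).1 hxP)
  have hz1 : z ≠ 1 := by
    intro h
    apply hne
    rw [hz, inv_mul_eq_one] at h
    rw [eq_mul_inv_iff_mul_eq] at h
    exact h.symm
  obtain ⟨e, he⟩ := hP ⟨z, hzP⟩
  have he' : z ^ p ^ e = 1 := by
    have := congrArg Subtype.val he
    simpa using this
  obtain ⟨f, -, hf⟩ := (Nat.dvd_prime_pow hp.out).1 (orderOf_dvd_of_pow_eq_one he')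
  have hf0 : f ≠ 0 := by
    rintro rfl
    simp only [pow_zero, orderOf_eq_one_iff] at hf
    exact hz1 hf
  obtain ⟨f', rfl⟩ := Nat.exists_eq_succ_of_ne_zero hf0
  set w : G := z ^ p ^ f' with hw
  have hwo : orderOf w = p := by
    rw [hw, orderOf_pow_of_dvd (pow_ne_zero _ hp.out.ne_zero)]
    · rw [hf, pow_succ]
      exact Nat.mul_div_cancel_left _ (pow_pos hp.out.pos _)
    · rw [hf]
      exact pow_dvd_pow _ (Nat.le_succ _)
  have hwP : w ∈ P := P.pow_mem hzP _
  have hwp : w ^ p = 1 := by rw [← hwo]; exact pow_orderOf_eq_one w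
  have hyw : y * w = w * y := hy w hwP hwp
  set t : G := x ^ p ^ f' with ht
  have htP : t ∈ P := P.pow_mem hxP _
  have hyt : y * t * y⁻¹ = t * w := by
    have hyx : y * x * y⁻¹ = x * z := by rw [hz]; group
    have hcxz : Commute x z := hab x hxP z hzP
    rw [ht, conj_pow.symm, hyx, hw, hcxz.mul_pow]
  have hcop2 : (orderOf w).Coprime (orderOf y) := by
    rw [hwo]; exact hcop.symm
  have hone := H06.eq_one_of_conj_eq_mul (pow_orderOf_eq_one y) hcop2 hyt hyw
  rw [hone, orderOf_one] at hwo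
  exact hp.out.one_lt.ne hwo

/-- Elements of prime power order normalizing an abelian Sylow subgroup under the order condition
centralize it. -/
theorem commute_of_primary_of_coprime [Finite G] {p : ℕ} [hp : Fact p.Prime] (P : Sylow p G)
    (hab : IsMulCommutative (P : Subgroup G))
    (hcop : Nat.Coprime (Nat.card G) (∏ i ∈ Finset.Icc 1 (Group.rank (P : Subgroup G)), (p ^ i - 1)))
    {r k : ℕ} (hr : r.Prime) {y : G} (hyo : orderOf y = r ^ k)
    (hyN : y ∈ Subgroup.normalizer ((P : Subgroup G) : Set G)) :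
    ∀ x ∈ (P : Subgroup G), y * x = x * y := by
  classical
  have hp' : p.Prime := hp.out
  have hcomm : ∀ x ∈ (P : Subgroup G), ∀ y ∈ (P : Subgroup G), x * y = y * x := by
    intro x hx y hy
    have := hab.is_comm.comm (⟨x, hx⟩ : (P : Subgroup G)) ⟨y, hy⟩
    exact congrArg Subtype.val this
  by_cases hrp : r = p
  · subst hrp
    have hyP := mem_sylow_of_mem_normalizer P hyo hyN
    intro x hx
    exact hcomm y hyP x hx
  by_contra hcon
  haveI : Fact r.Prime := ⟨hr⟩
  have hcopy : (orderOf y).Coprime p := by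
    rw [hyo]
    exact Nat.Coprime.pow_left k ((Nat.coprime_primes hr hp').2 hrp)
  -- Omega
  letI : CommGroup (P : Subgroup G) :=
    { (inferInstance : Group (P : Subgroup G)) with
      mul_comm := fun a b => Subtype.ext (hcomm a a.2 b b.2) }
  obtain ⟨S, hS1, hS2⟩ := Group.rank_spec (P : Subgroup G)
  have hbd := card_ker_pow_le (p := p) S hS2
  rw [hS1] at hbd
  set Ω : Subgroup G := ((powMonoidHom p : (P : Subgroup G) →* (P : Subgroup G)).ker).map (P : Subgroup G).subtype with hΩ
  have hΩmem : ∀ x, x ∈ Ω ↔ x ∈ (P : Subgroup G) ∧ x ^ p = 1 := by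
    intro x
    constructor
    · rintro ⟨z, hz, rfl⟩
      refine ⟨z.2, ?_⟩
      have h1 : z ^ p = 1 := hz
      have := congrArg Subtype.val h1
      simpa using this
    · rintro ⟨h1, h2⟩
      refine ⟨⟨x, h1⟩, ?_, rfl⟩
      show (⟨x, h1⟩ : (P : Subgroup G)) ^ p = 1
      exact Subtype.ext h2
  have hΩcard : Nat.card Ω ≤ p ^ Group.rank (P : Subgroup G) := by
    have : Nat.card Ω = Nat.card ((powMonoidHom p : (P : Subgroup G) →* (P : Subgroup G)).ker) :=
      Nat.card_congr (((powMonoidHom p : (P : Subgroup G) →* (P : Subgroup G)).ker).equivMapOfInjective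
        (P : Subgroup G).subtype (P : Subgroup G).subtype_injective).toEquiv.symm
    rw [this]
    exact hbd
  have hΩP : Ω ≤ (P : Subgroup G) := fun x hx => ((hΩmem x).1 hx).1
  have hyΩ : y ∈ Subgroup.normalizer (Ω : Set G) := by
    apply mem_normalizer_of_conj_le
    intro x hx
    obtain ⟨h1, h2⟩ := (hΩmem x).1 hx
    refine (hΩmem _).2 ⟨(Subgroup.mem_normalizer_iff.1 hyN x).1 h1, ?_⟩
    rw [conj_pow, h2]; group
  set A : Subgroup G := Subgroup.zpowers y with hA
  have hAp : IsPGroup r A := isPGroup_zpowers_of_orderOf hyo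
  have hAN : A ≤ Subgroup.normalizer (Ω : Set G) := by
    rw [hA, Subgroup.zpowers_le]; exact hyΩ
  have hmod := card_modEq_inf_centralizer hAp hAN
  set U : Subgroup G := Ω ⊓ Subgroup.centralizer (A : Set G) with hU
  have hUΩ : U ≤ Ω := inf_le_left
  have hUne : U ≠ Ω := by
    intro heq
    apply hcon
    apply commute_of_commute_omega P.2 hcomm hyN hcopy
    intro z hz hz2
    have h1 : z ∈ U := by rw [heq]; exact (hΩmem z).2 ⟨hz, hz2⟩
    exact (Subgroup.mem_centralizer_iff.1 h1.2 y (Subgroup.mem_zpowers y))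
  have hΩp : IsPGroup p Ω := P.2.to_le hΩP
  obtain ⟨e, he⟩ := IsPGroup.iff_card.mp hΩp
  obtain ⟨f, hf⟩ := IsPGroup.iff_card.mp (hΩp.to_le hUΩ)
  have hfe : f < e := by
    by_contra hge
    push Not at hge
    apply hUne
    apply Subgroup.eq_of_le_of_card_ge hUΩ
    rw [he, hf]
    exact Nat.pow_le_pow_right hp'.pos hge
  have hed : e ≤ Group.rank (P : Subgroup G) := by
    rw [he] at hΩcard
    exact (Nat.pow_le_pow_iff_right hp'.one_lt).1 hΩcard
  rw [he, hf] at hmod
  have hdvd : r ∣ p ^ e - p ^ f := (Nat.modEq_iff_dvd' (Nat.pow_le_pow_right hp'.pos hfe.le)).1 hmod.symm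
  have hfac : p ^ e - p ^ f = p ^ f * (p ^ (e - f) - 1) := by
    rw [Nat.mul_sub, mul_one, ← pow_add]
    congr 2
    omega
  rw [hfac] at hdvd
  have hrnp : ¬ r ∣ p ^ f := by
    intro h
    have := hr.dvd_of_dvd_pow h
    exact hrp ((Nat.prime_dvd_prime_iff_eq hr hp').1 this)
  have hd2 : r ∣ p ^ (e - f) - 1 := ((Nat.Prime.dvd_mul hr).1 hdvd).resolve_left hrnp
  have hd3 : r ∣ ∏ i ∈ Finset.Icc 1 (Group.rank (P : Subgroup G)), (p ^ i - 1) :=
    hd2.trans (Finset.dvd_prod_of_mem _ (Finset.mem_Icc.2 ⟨by omega, by omega⟩))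
  have hk0 : k ≠ 0 := by
    rintro rfl
    rw [pow_zero, orderOf_eq_one_iff] at hyo
    apply hcon
    intro x _
    rw [hyo]; group
  have hd4 : r ∣ Nat.card G := by
    have h1 : r ∣ orderOf y := by rw [hyo]; exact dvd_pow_self r hk0
    exact h1.trans (orderOf_dvd_natCard y)
  exact hr.one_lt.ne' (Nat.dvd_one.mp (hcop ▸ Nat.dvd_gcd hd4 hd3))

/-- The order condition forces `N_G(P) ≤ C_G(P)` for abelian Sylow subgroups. -/
theorem normalizer_le_centralizer_of_coprime [Finite G] {p : ℕ} [hp : Fact p.Prime] (P : Sylow p G)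
    (hab : IsMulCommutative (P : Subgroup G))
    (hcop : Nat.Coprime (Nat.card G) (∏ i ∈ Finset.Icc 1 (Group.rank (P : Subgroup G)), (p ^ i - 1))) :
    Subgroup.normalizer ((P : Subgroup G) : Set G) ≤ Subgroup.centralizer ((P : Subgroup G) : Set G) := by
  classical
  intro w hw
  set N : Subgroup G := Subgroup.normalizer ((P : Subgroup G) : Set G) with hN
  have h1 := mem_closure_primary (G := N) {q : ℕ | q.Prime} (⟨w, hw⟩ : N) (fun q hq _ => hq)
  have h2 : Subgroup.closure {y : N | ∃ q k : ℕ, q.Prime ∧ q ∈ {q : ℕ | q.Prime} ∧ orderOf y = q ^ k} ≤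
      (Subgroup.centralizer ((P : Subgroup G) : Set G)).subgroupOf N := by
    rw [Subgroup.closure_le]
    rintro y ⟨q, k, hq, -, hyo⟩
    rw [Subgroup.orderOf_coe y |>.symm] at hyo
    have h3 := commute_of_primary_of_coprime P hab hcop hq hyo y.2
    show (y : G) ∈ Subgroup.centralizer ((P : Subgroup G) : Set G)
    refine Subgroup.mem_centralizer_iff.2 ?_
    intro x hx
    exact (h3 x hx).symm
  exact h2 h1

end Cfsg.Agent.H19
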