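import Mathlib
import Cfsg.Agent.Lib.H19.AbelianSylow
import Cfsg.Agent.Lib.H01.Coprime
import Cfsg.Agent.Lib.H15.Modular

/-! Coprime action on groups whose `p`-subgroups are all cyclic (helper19). -/

set_option autoImplicit false
set_option linter.style.haveILetI false

universe u

namespace Cfsg.Agent.H19

open scoped commutatorElement

section unique

variable {H : Type*} [Group H] [Finite H]

theorem mem_zpowers_of_orderOf_eq_prime [IsCyclic H] {r : ℕ} [hr : Fact r.Prime] {u c : H}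
    (hu : orderOf u = r) (hc : orderOf c = r) : c ∈ Subgroup.zpowers u := by
  classical
  haveI := Fintype.ofFinite H
  have h1 := IsCyclic.card_pow_eq_one_le (α := H) (n := r) hr.out.pos
  set S : Finset H := {a : H | a ^ r = 1} with hS
  set T : Finset H := Finset.univ.filter (fun a => a ∈ Subgroup.zpowers u) with hT
  have hTS : T ⊆ S := by
    intro a ha
    simp only [hT, Finset.mem_filter, Finset.mem_univ, true_and] at ha
    simp only [hS, Finset.mem_filter, Finset.mem_univ, true_and]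
    obtain ⟨i, rfl⟩ := ha
    simp only
    rw [← zpow_natCast, ← zpow_mul, mul_comm, zpow_mul, zpow_natCast, ← hu, pow_orderOf_eq_one, one_zpow]
  have hTcard : T.card = r := by
    have : Nat.card (Subgroup.zpowers u) = r := by rw [Nat.card_zpowers, hu]
    rw [← this, Nat.card_eq_fintype_card, hT, Fintype.card_subtype]
  have hEq : T = S := Finset.eq_of_subset_of_card_le hTS (by rw [hTcard]; exact h1)
  have hcS : c ∈ S := by
    simp only [hS, Finset.mem_filter, Finset.mem_univ, true_and]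
    rw [← hc]; exact pow_orderOf_eq_one c
  rw [← hEq] at hcS
  simpa [hT] using hcS

/-- Commuting cyclic subgroups of coprime order: a cyclic product. -/
theorem isCyclic_of_commute_generators {g h : H} (hc : Commute g h)
    (hcop : (orderOf g).Coprime (orderOf h)) (hcard : Nat.card H = orderOf g * orderOf h) :
    IsCyclic H := by
  refine isCyclic_of_orderOf_eq_card (g * h) ?_
  rw [hc.orderOf_mul_eq_mul_orderOf_of_coprime hcop, hcard]

end unique

section smallest

/-- All `p`-subgroups cyclic and `p` the smallest prime: normal `p`-complement. -/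
theorem normal_complement_smallest {H : Type*} [Group H] [Finite H]
    (hc : ∀ (p : ℕ), p.Prime → ∀ Q : Subgroup H, IsPGroup p Q → IsCyclic Q)
    {p : ℕ} [hp : Fact p.Prime] (hpmin : ∀ r : ℕ, r.Prime → r ∣ Nat.card H → p ≤ r) (P : Sylow p H) :
    ∃ R : Subgroup H, R.Normal ∧ R.IsComplement' (P : Subgroup H) := by
  classical
  have hcyc : IsCyclic (P : Subgroup H) := hc p hp.out _ P.2
  obtain ⟨g, hg⟩ := hcyc.exists_generator
  have hrank : Group.rank (P : Subgroup H) ≤ 1 := by
    have h7 : Subgroup.closure (({g} : Finset (P : Subgroup H)) : Set (P : Subgroup H)) = ⊤ := by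
      rw [Finset.coe_singleton, ← Subgroup.zpowers_eq_closure, eq_top_iff]
      intro x _
      exact hg x
    have := Group.rank_le h7
    simpa using this
  have hab : IsMulCommutative (P : Subgroup H) := by
    refine ⟨⟨fun a b => ?_⟩⟩
    obtain ⟨i, rfl⟩ := hg a
    obtain ⟨j, rfl⟩ := hg b
    exact ((Commute.refl g).zpow_left i |>.zpow_right j).eq
  have hcop : Nat.Coprime (Nat.card H) (∏ i ∈ Finset.Icc 1 (Group.rank (P : Subgroup H)), (p ^ i - 1)) := by
    apply Nat.coprime_of_dvd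
    intro r hr hrG hrprod
    obtain ⟨i, hi, hri⟩ := (Prime.exists_mem_finset_dvd hr.prime hrprod)
    obtain ⟨hi1, hi2⟩ := Finset.mem_Icc.1 hi
    have hi3 : i = 1 := by omega
    subst hi3
    rw [pow_one] at hri
    have h1 := hpmin r hr hrG
    have h2 := hp.out.two_le
    have h3 := Nat.le_of_dvd (by omega) hri
    omega
  exact burnside_complement P (normalizer_le_centralizer_of_coprime P hab hcop)

/-- A finite group all of whose `p`-subgroups are cyclic is solvable. -/
theorem isSolvable_of_cyclic_pSubgroups (n : ℕ) : ∀ (H : Type u) [Group H] [Finite H], Nat.card H = n →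
    (∀ (p : ℕ), p.Prime → ∀ Q : Subgroup H, IsPGroup p Q → IsCyclic Q) → Group.IsSolvable H := by
  induction n using Nat.strong_induction_on with
  | _ n ih =>
  intro H _ _ hn hc
  classical
  by_cases h1 : Nat.card H = 1
  · haveI := (Nat.card_eq_one_iff_unique.mp h1).1
    infer_instance
  set p := (Nat.card H).minFac with hpdef
  have hp : p.Prime := Nat.minFac_prime h1
  haveI : Fact p.Prime := ⟨hp⟩
  have hpd : p ∣ Nat.card H := Nat.minFac_dvd _
  let P : Sylow p H := default
  obtain ⟨R, hRn, hRc⟩ := normal_complement_smallest hc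
    (fun r hr hd => Nat.minFac_le_of_dvd hr.two_le hd) P
  haveI := hRn
  have hcards : Nat.card R * Nat.card (P : Subgroup H) = Nat.card H := hRc.card_mul_card
  obtain ⟨k, hk⟩ := IsPGroup.iff_card.mp P.2
  have hPnt : Nat.card (P : Subgroup H) ≠ 1 := by
    intro h2
    have h3 := Subgroup.card_mul_index (P : Subgroup H)
    rw [h2, one_mul] at h3
    rw [← h3] at hpd
    exact P.not_dvd_index hpd
  have hRlt : Nat.card R < n := by
    rw [← hn, ← hcards]
    have h2 : 1 < Nat.card (P : Subgroup H) := by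
      have : 0 < Nat.card (P : Subgroup H) := Nat.card_pos
      omega
    have h3 : 0 < Nat.card R := Nat.card_pos
    nlinarith
  have hRsolv : Group.IsSolvable R := by
    refine ih _ hRlt R rfl ?_
    intro q hq Q hQ
    have h1 : IsCyclic (Q.map R.subtype) := hc q hq _ (hQ.map R.subtype)
    exact isCyclic_of_surjective ((Q.equivMapOfInjective R.subtype R.subtype_injective).symm)
      (MulEquiv.surjective _)
  have hQp : IsPGroup p (H ⧸ R) := by
    apply IsPGroup.of_card (n := k)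
    have h2 := Subgroup.card_eq_card_quotient_mul_card_subgroup R
    rw [← hcards, mul_comm] at h2
    have h3 : Nat.card (P : Subgroup H) = Nat.card (H ⧸ R) :=
      Nat.eq_of_mul_eq_mul_right Nat.card_pos h2
    rw [← h3, hk]
  haveI := hQp.isNilpotent
  exact solvable_of_ker_le_range R.subtype (QuotientGroup.mk' R) (by
    rw [QuotientGroup.ker_mk', Subgroup.range_subtype])

end smallest

section main

variable {Γ : Type u} [Group Γ] [Finite Γ]

/-- `p`-subgroups of `X` are cyclic. -/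
def CycP (X : Subgroup Γ) : Prop := ∀ (p : ℕ), p.Prime → ∀ Q : Subgroup Γ, Q ≤ X → IsPGroup p Q → IsCyclic Q

theorem CycP.mono {X Y : Subgroup Γ} (h : CycP Y) (hXY : X ≤ Y) : CycP X :=
  fun p hp Q hQ => h p hp Q (hQ.trans hXY)

theorem CycP.subtype {X : Subgroup Γ} (h : CycP X) :
    ∀ (p : ℕ), p.Prime → ∀ Q : Subgroup X, IsPGroup p Q → IsCyclic Q := by
  intro q hq Q hQ
  have h1 : IsCyclic (Q.map X.subtype) := h q hq _ (Subgroup.map_subtype_le _) (hQ.map X.subtype)
  exact isCyclic_of_surjective ((Q.equivMapOfInjective X.subtype X.subtype_injective).symm)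
    (MulEquiv.surjective _)

theorem CycP.isSolvable {X : Subgroup Γ} (h : CycP X) : Group.IsSolvable X :=
  isSolvable_of_cyclic_pSubgroups _ X rfl h.subtype

/-- `X` normalizes `[X, A]`. -/
theorem normalizes_commutator {X A : Subgroup Γ} {x : Γ} (hx : x ∈ X) :
    x ∈ Subgroup.normalizer ((⁅X, A⁆ : Subgroup Γ) : Set Γ) := by
  apply mem_normalizer_of_conj_le
  intro y hy
  have h1 : ⁅X, A⁆ ≤ (⁅X, A⁆ : Subgroup Γ).comap (MulAut.conj x).toMonoidHom := by
    rw [Subgroup.commutator_le]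
    intro m hm a ha
    show x * ⁅m, a⁆ * x⁻¹ ∈ ⁅X, A⁆
    have e : x * ⁅m, a⁆ * x⁻¹ = ⁅x * m, a⁆ * ⁅x, a⁆⁻¹ := by
      simp only [commutatorElement_def]; group
    rw [e]
    exact Subgroup.mul_mem _ (Subgroup.commutator_mem_commutator (X.mul_mem hx hm) ha)
      (Subgroup.inv_mem _ (Subgroup.commutator_mem_commutator hx ha))
  exact h1 hy

/-- Automorphisms of a cyclic group commute. -/
theorem commutator_mem_centralizer_of_cyclic {C : Subgroup Γ} (hC : IsCyclic C) {g h : Γ}
    (hg : g ∈ Subgroup.normalizer (C : Set Γ)) (hh : h ∈ Subgroup.normalizer (C : Set Γ)) :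
    ⁅g, h⁆ ∈ Subgroup.centralizer (C : Set Γ) := by
  obtain ⟨⟨u, huC⟩, hu⟩ := hC.exists_generator
  have hgen : ∀ y ∈ C, ∃ i : ℤ, u ^ i = y := by
    intro y hy
    obtain ⟨i, hi⟩ := hu ⟨y, hy⟩
    exact ⟨i, congrArg Subtype.val hi⟩
  obtain ⟨i, hi⟩ := hgen _ ((Subgroup.mem_normalizer_iff.1 hg u).1 huC)
  obtain ⟨j, hj⟩ := hgen _ ((Subgroup.mem_normalizer_iff.1 hh u).1 huC)
  have hgy : ∀ y ∈ C, g * y * g⁻¹ = y ^ i := by
    intro y hy
    obtain ⟨k, rfl⟩ := hgen y hy
    rw [← conj_zpow, ← hi, ← zpow_mul, ← zpow_mul, mul_comm]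
  have hhy : ∀ y ∈ C, h * y * h⁻¹ = y ^ j := by
    intro y hy
    obtain ⟨k, rfl⟩ := hgen y hy
    rw [← conj_zpow, ← hj, ← zpow_mul, ← zpow_mul, mul_comm]
  have hcomm : ∀ y ∈ C, g * (h * y * h⁻¹) * g⁻¹ = h * (g * y * g⁻¹) * h⁻¹ := by
    intro y hy
    rw [hhy y hy, hgy y hy, hgy _ (C.zpow_mem hy j), hhy _ (C.zpow_mem hy i), ← zpow_mul, ← zpow_mul,
      mul_comm]
  refine Subgroup.mem_centralizer_iff.2 ?_
  intro y hy
  -- y is fixed
  set v : Γ := h⁻¹ * (g⁻¹ * y * g) * h with hv
  have hv1 : g⁻¹ * y * g ∈ C := by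
    have := (Subgroup.mem_normalizer_iff.1 (Subgroup.inv_mem _ hg) y).1 hy
    simpa using this
  have hvC : v ∈ C := by
    have := (Subgroup.mem_normalizer_iff.1 (Subgroup.inv_mem _ hh) _).1 hv1
    simpa [hv] using this
  have h1 := hcomm v hvC
  have h2 : h * v * h⁻¹ = g⁻¹ * y * g := by rw [hv]; group
  have h3 : g * (g⁻¹ * y * g) * g⁻¹ = y := by group
  rw [h2, h3] at h1
  -- h1 : y = h (g v g⁻¹) h⁻¹
  show y * ⁅g, h⁆ = ⁅g, h⁆ * y
  rw [commutatorElement_def]
  have h4 : g * h * g⁻¹ * h⁻¹ * y * (g * h * g⁻¹ * h⁻¹)⁻¹ = y := by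
    have e : g * h * g⁻¹ * h⁻¹ * y * (g * h * g⁻¹ * h⁻¹)⁻¹ =
        g * h * (g⁻¹ * (h⁻¹ * y * h) * g) * h⁻¹ * g⁻¹ := by group
    rw [e]
    -- apply commutation to g⁻¹ h⁻¹ y h g
    set w : Γ := g⁻¹ * (h⁻¹ * y * h) * g with hw
    have hw1 : h⁻¹ * y * h ∈ C := by
      have := (Subgroup.mem_normalizer_iff.1 (Subgroup.inv_mem _ hh) y).1 hy
      simpa using this
    have hwC : w ∈ C := by
      have := (Subgroup.mem_normalizer_iff.1 (Subgroup.inv_mem _ hg) _).1 hw1
      simpa [hw] using this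
    have h5 := hcomm w hwC
    have h6 : g * w * g⁻¹ = h⁻¹ * y * h := by rw [hw]; group
    rw [h6] at h5
    have h7 : h * (h⁻¹ * y * h) * h⁻¹ = y := by group
    rw [h7] at h5
    have e2 : g * h * w * h⁻¹ * g⁻¹ = g * (h * w * h⁻¹) * g⁻¹ := by group
    rw [e2, h5]
  rw [mul_inv_eq_iff_eq_mul] at h4
  exact h4.symm

/-- Coprime action on an abelian group. -/
theorem inf_centralizer_eq_bot_of_abelian {X A : Subgroup Γ}
    (hab : ∀ x ∈ X, ∀ y ∈ X, x * y = y * x) (hAX : A ≤ Subgroup.normalizer (X : Set Γ))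
    (hcop : (Nat.card A).Coprime (Nat.card X)) (hX : ⁅X, A⁆ = X) :
    X ⊓ Subgroup.centralizer (A : Set Γ) = ⊥ := by
  classical
  haveI := Fintype.ofFinite A
  letI : CommGroup X :=
    { (inferInstance : Group X) with mul_comm := fun a b => Subtype.ext (hab a a.2 b b.2) }
  -- conjugation homomorphisms
  let cj : A → (X →* X) := fun a =>
    { toFun := fun x => ⟨(a : Γ) * x * (a : Γ)⁻¹, (Subgroup.mem_normalizer_iff.1 (hAX a.2) x).1 x.2⟩
      map_one' := by
        apply Subtype.ext
        simp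
      map_mul' := by
        intro x y
        apply Subtype.ext
        show (a : Γ) * ((x : Γ) * y) * (a : Γ)⁻¹ = ((a : Γ) * x * (a : Γ)⁻¹) * ((a : Γ) * y * (a : Γ)⁻¹)
        group }
  have hcj : ∀ (a : A) (x : X), ((cj a x : X) : Γ) = (a : Γ) * x * (a : Γ)⁻¹ := fun _ _ => rfl
  let N : X → X := fun x => ∏ a : A, cj a x
  have hNmul : ∀ x y : X, N (x * y) = N x * N y := by
    intro x y
    simp only [N, map_mul, Finset.prod_mul_distrib]
  have hNinv : ∀ x : X, N x⁻¹ = (N x)⁻¹ := by
    intro x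
    simp only [N, map_inv, Finset.prod_inv_distrib]
  have hNone : N 1 = 1 := by
    simp only [N, map_one, Finset.prod_const_one]
  have hNcj : ∀ (b : A) (x : X), N (cj b x) = N x := by
    intro b x
    apply Fintype.prod_equiv (Equiv.mulRight b)
    intro a
    apply Subtype.ext
    show (a : Γ) * ((b : Γ) * x * (b : Γ)⁻¹) * (a : Γ)⁻¹ = ((a * b : A) : Γ) * x * ((a * b : A) : Γ)⁻¹
    push_cast
    group
  -- N is trivial on the commutator
  let Nh : X →* X := { toFun := N, map_one' := hNone, map_mul' := hNmul }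
  have hker : ⁅X, A⁆ ≤ Nh.ker.map X.subtype := by
    rw [Subgroup.commutator_le]
    intro x hx b hb
    have hmem : x * b * x⁻¹ * b⁻¹ ∈ X := by
      have e : x * b * x⁻¹ * b⁻¹ = x * (b * x⁻¹ * b⁻¹) := by group
      rw [e]
      exact X.mul_mem hx ((Subgroup.mem_normalizer_iff.1 (hAX hb) _).1 (X.inv_mem hx))
    refine ⟨⟨⁅x, b⁆, by rw [commutatorElement_def]; exact hmem⟩, ?_, rfl⟩
    have e : (⟨⁅x, b⁆, by rw [commutatorElement_def]; exact hmem⟩ : X) = ⟨x, hx⟩ * (cj ⟨b, hb⟩ ⟨x, hx⟩)⁻¹ := by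
      apply Subtype.ext
      show ⁅x, b⁆ = x * (b * x * b⁻¹)⁻¹
      rw [commutatorElement_def]; group
    rw [e]
    show N _ = 1
    rw [hNmul, hNinv, hNcj, mul_inv_cancel]
  rw [hX] at hker
  rw [eq_bot_iff]
  rintro z ⟨hzX, hzC⟩
  rw [Subgroup.mem_bot]
  obtain ⟨w, hw, hwz⟩ := hker hzX
  have hw' : N w = 1 := hw
  have hwe : (w : Γ) = z := hwz
  have hfix : ∀ a : A, cj a w = w := by
    intro a
    apply Subtype.ext
    rw [hcj, hwe]
    have := Subgroup.mem_centralizer_iff.1 hzC a a.2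
    rw [this]; group
  have hpow : w ^ Nat.card A = 1 := by
    have h1 : N w = ∏ _a : A, w := Finset.prod_congr rfl (fun a _ => hfix a)
    rw [h1, Finset.prod_const, Finset.card_univ, ← Nat.card_eq_fintype_card] at hw'
    exact hw'
  have hord : orderOf w ∣ Nat.card A := orderOf_dvd_of_pow_eq_one hpow
  have hord2 : orderOf w ∣ Nat.card X := orderOf_dvd_natCard w
  have hone : orderOf w = 1 := Nat.eq_one_of_dvd_coprimes hcop hord hord2
  rw [orderOf_eq_one_iff] at hone
  rw [← hwe, hone]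
  rfl

end main

end Cfsg.Agent.H19
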