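import Cfsg.Agent.Lib.H19.FrobCount
import Cfsg.Agent.Lib.H19.Real2

/-! Itô's theorem on groups with two conjugacy class sizes (helper19). -/

set_option autoImplicit false
set_option linter.style.haveILetI false

namespace Cfsg.Agent.H19

open Cfsg

variable {G : Type*} [Group G] [Finite G]

/-- The centralizer of an element. -/
abbrev cz (x : G) : Subgroup G := Subgroup.centralizer ({x} : Set G)

theorem mem_cz {x y : G} : y ∈ cz x ↔ y * x = x * y := Subgroup.mem_centralizer_singleton_iff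

theorem cz_index_eq_one_iff {x : G} : (cz x).index = 1 ↔ x ∈ Subgroup.center G := by
  rw [Subgroup.index_eq_one]
  constructor
  · intro h
    rw [Subgroup.mem_center_iff]
    intro g
    have hg : g ∈ cz x := h ▸ Subgroup.mem_top g
    exact mem_cz.mp hg
  · intro h
    rw [eq_top_iff]
    intro g _
    exact mem_cz.mpr (Subgroup.mem_center_iff.mp h g)

theorem eq_of_le_of_index_eq {H K : Subgroup G} (hle : H ≤ K) (hi : H.index = K.index) : H = K := by
  have h1 := H.card_mul_index
  have h2 := K.card_mul_index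
  apply Subgroup.eq_of_le_of_card_ge hle
  rw [hi] at h1
  have hpos : 0 < K.index := Nat.pos_of_ne_zero Subgroup.FiniteIndex.index_ne_zero
  exact (Nat.eq_of_mul_eq_mul_right hpos (h1.trans h2.symm)).ge

/-- Jordan's lemma: a proper subgroup's conjugates do not cover the group. -/
theorem eq_top_of_conj_cover (H : Subgroup G) (h : ∀ g : G, ∃ x : G, x * g * x⁻¹ ∈ H) : H = ⊤ := by
  classical
  by_contra hne
  have h2 : 2 ≤ Nat.card (G ⧸ H) := by
    have h3 : H.index ≠ 1 := fun h4 => hne (Subgroup.index_eq_one.mp h4)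
    have h4 : H.index ≠ 0 := Subgroup.FiniteIndex.index_ne_zero
    have : Nat.card (G ⧸ H) = H.index := rfl
    omega
  obtain ⟨g, hg⟩ := H17.exists_fpf (G := G) (X := G ⧸ H) h2
  obtain ⟨x, hx⟩ := h g
  apply hg ((x⁻¹ : G) : G ⧸ H)
  rw [MulAction.Quotient.smul_coe, QuotientGroup.eq]
  have h5 : (g • x⁻¹ : G)⁻¹ * x⁻¹ = (x * g * x⁻¹)⁻¹ := by
    rw [smul_eq_mul]
    group
  rw [h5]
  exact H.inv_mem hx

theorem cz_le_cz_pow (g : G) (k : ℕ) : cz g ≤ cz (g ^ k) := by
  intro a ha
  rw [mem_cz] at ha ⊢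
  exact (Commute.pow_right (show Commute a g from ha) k)

theorem cz_le_cz_of_mem_zpowers {g b : G} (hb : b ∈ Subgroup.zpowers g) : cz g ≤ cz b := by
  intro a ha
  rw [mem_cz] at ha ⊢
  obtain ⟨i, rfl⟩ := hb
  exact (Commute.zpow_right (show Commute a g from ha) i)

theorem pow_mem_center {g : G} (hg : g ∈ Subgroup.center G) (k : ℕ) : g ^ k ∈ Subgroup.center G :=
  Subgroup.pow_mem _ hg k

theorem exists_pow_mul_eq_left {x y : G} (hc : Commute x y) (hco : (orderOf x).Coprime (orderOf y)) :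
    ∃ k : ℕ, (x * y) ^ k = x := by
  refine ⟨(Nat.chineseRemainder hco 1 0 : ℕ), ?_⟩
  set k := (Nat.chineseRemainder hco 1 0 : ℕ) with hk
  have h1 : k ≡ 1 [MOD orderOf x] := (Nat.chineseRemainder hco 1 0).2.1
  have h2 : k ≡ 0 [MOD orderOf y] := (Nat.chineseRemainder hco 1 0).2.2
  rw [hc.mul_pow, (pow_eq_pow_iff_modEq.mpr h1), (pow_eq_pow_iff_modEq.mpr h2), pow_one, pow_zero, mul_one]

section two_sizes

variable {n : ℕ} (h : ∀ x : G, (cz x).index = 1 ∨ (cz x).index = n)
include h

theorem index_nc {x : G} (hx : x ∉ Subgroup.center G) : (cz x).index = n :=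
  (h x).resolve_left (fun h1 => hx (cz_index_eq_one_iff.mp h1))

theorem cz_eq_of_le_of_nc {x y : G} (hy : y ∉ Subgroup.center G) (hx : x ∉ Subgroup.center G)
    (hle : cz x ≤ cz y) : cz x = cz y :=
  eq_of_le_of_index_eq hle ((index_nc h hx).trans (index_nc h hy).symm)

/-- Elements of order prime to `n` are central. -/
theorem central_of_not_dvd {r : ℕ} [hr : Fact r.Prime] (hrn : ¬ r ∣ n) {y : G} {k : ℕ}
    (hk : orderOf y = r ^ k) : y ∈ Subgroup.center G := by
  classical
  rw [← cz_index_eq_one_iff, Subgroup.index_eq_one]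
  apply eq_top_of_conj_cover
  intro g
  have hnd : ¬ r ∣ (cz g).index := by
    rcases h g with h1 | h1
    · rw [h1]
      exact hr.out.one_lt.ne' ∘ Nat.dvd_one.mp
    · rw [h1]
      exact hrn
  obtain ⟨S⟩ : Nonempty (Sylow r (cz g)) := inferInstance
  set T : Subgroup G := (S : Subgroup (cz g)).map (cz g).subtype with hT
  have hTle : T ≤ cz g := Subgroup.map_subtype_le _
  have hTp : IsPGroup r T := S.isPGroup'.map _
  have hTi : ¬ r ∣ T.index := by
    rw [hT, Subgroup.index_map_subtype]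
    intro h3
    rcases (Nat.Prime.dvd_mul hr.out).mp h3 with h3 | h3
    · exact S.not_dvd_index h3
    · exact hnd h3
  let T' : Sylow r G := hTp.toSylow hTi
  obtain ⟨Q, hQ⟩ := exists_sylow_of_orderOf hk
  obtain ⟨x, hx⟩ := MulAction.exists_smul_eq G Q T'
  have h1 : x * y * x⁻¹ ∈ T := by
    have h2 : x * y * x⁻¹ ∈ (T' : Subgroup G) := by
      rw [← hx, Sylow.coe_subgroup_smul]
      exact ⟨y, hQ, rfl⟩
    exact h2
  have h2 : x * y * x⁻¹ ∈ cz g := hTle h1
  rw [mem_cz] at h2
  refine ⟨x⁻¹, ?_⟩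
  rw [mem_cz, inv_inv]
  calc x⁻¹ * g * x * y = x⁻¹ * (g * (x * y * x⁻¹)) * x := by group
    _ = x⁻¹ * ((x * y * x⁻¹) * g) * x := by rw [h2]
    _ = y * (x⁻¹ * g * x) := by group

/-- Commuting non-central elements of coprime orders have the same centralizer. -/
theorem cz_eq_of_commute_coprime {x y : G} (hx : x ∉ Subgroup.center G) (hy : y ∉ Subgroup.center G)
    (hc : Commute x y) (hco : (orderOf x).Coprime (orderOf y)) : cz x = cz y := by
  obtain ⟨k, hk⟩ := exists_pow_mul_eq_left hc hco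
  obtain ⟨k', hk'⟩ := exists_pow_mul_eq_left hc.symm hco.symm
  have hk'' : (x * y) ^ k' = y := by rw [hc.eq]; exact hk'
  have hxy : x * y ∉ Subgroup.center G := fun h0 => hx (hk ▸ pow_mem_center h0 k)
  have h1 : cz (x * y) ≤ cz x := by
    have := cz_le_cz_pow (x * y) k
    rwa [hk] at this
  have h2 : cz (x * y) ≤ cz y := by
    have := cz_le_cz_pow (x * y) k'
    rwa [hk''] at this
  rw [← cz_eq_of_le_of_nc h hx hxy h1, ← cz_eq_of_le_of_nc h hy hxy h2]

theorem cz_eq_cz_pow {x : G} {k : ℕ} (hx : x ^ k ∉ Subgroup.center G) : cz x = cz (x ^ k) := by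
  have hx0 : x ∉ Subgroup.center G := fun h0 => hx (pow_mem_center h0 k)
  exact cz_eq_of_le_of_nc h hx hx0 (cz_le_cz_pow x k)

/-- A non-central `r`-element exists whenever `r ∣ n`. -/
theorem exists_nc_pelt {r : ℕ} [hr : Fact r.Prime] (hrn : r ∣ n) {x₀ : G}
    (hx₀ : x₀ ∉ Subgroup.center G) : ∃ (y : G) (k : ℕ), orderOf y = r ^ k ∧ y ∉ Subgroup.center G := by
  by_contra hno
  push Not at hno
  obtain ⟨R⟩ : Nonempty (Sylow r G) := inferInstance
  have h1 : (R : Subgroup G) ≤ cz x₀ := by
    intro a ha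
    obtain ⟨j, hj⟩ := orderOf_of_mem_isPGroup R.isPGroup' ha
    have h2 := hno a j hj
    rw [mem_cz]
    exact Subgroup.mem_center_iff.mp h2 x₀ |>.symm
  have h3 := Subgroup.index_dvd_of_le h1
  rw [index_nc h hx₀] at h3
  exact R.not_dvd_index (hrn.trans h3)

/-- The centralizer of a non-central element contains a non-central `r`-element, if `G` has some. -/
theorem exists_nc_pelt_in_cz {r : ℕ} [hr : Fact r.Prime] {x y : G} (hx : x ∉ Subgroup.center G)
    (hy : y ∉ Subgroup.center G) {k : ℕ} (hk : orderOf y = r ^ k) :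
    ∃ (y' : G) (j : ℕ), y' ∈ cz x ∧ orderOf y' = r ^ j ∧ y' ∉ Subgroup.center G := by
  classical
  by_contra hno
  push Not at hno
  obtain ⟨S⟩ : Nonempty (Sylow r (cz x)) := inferInstance
  set T : Subgroup G := (S : Subgroup (cz x)).map (cz x).subtype with hT
  have hTp : IsPGroup r T := S.isPGroup'.map _
  have hTc : T ≤ Subgroup.center G := by
    rintro _ ⟨s, hs, rfl⟩
    obtain ⟨j, hj⟩ := orderOf_of_mem_isPGroup S.isPGroup' hs
    exact hno s j s.2 (by rw [Subgroup.orderOf_coe, hj])
  have hTcard : Nat.card T = Nat.card S := Nat.card_congr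
    ((S : Subgroup (cz x)).equivMapOfInjective _ (cz x).subtype_injective).toEquiv.symm
  have hcards : Nat.card (cz x) = Nat.card (cz y) := by
    have h1 := (cz x).card_mul_index
    have h2 := (cz y).card_mul_index
    rw [index_nc h hx] at h1
    rw [index_nc h hy] at h2
    have hn0 : 0 < n := by
      have h3 : (cz x).index ≠ 0 := Subgroup.FiniteIndex.index_ne_zero
      rw [index_nc h hx] at h3
      exact Nat.pos_of_ne_zero h3
    exact Nat.eq_of_mul_eq_mul_right hn0 (h1.trans h2.symm)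
  have hz : IsPGroup r (Subgroup.zpowers y) := isPGroup_zpowers_of_orderOf hk
  have hzn : Subgroup.zpowers y ≤ Subgroup.normalizer (T : Set G) := by
    rw [Subgroup.zpowers_le]
    apply mem_normalizer_of_conj_le
    intro t ht
    have h1 := Subgroup.mem_center_iff.mp (hTc ht) y
    rw [h1, mul_assoc, mul_inv_cancel, mul_one]
    exact ht
  have hW : IsPGroup r (T ⊔ Subgroup.zpowers y : Subgroup G) := IsPGroup.to_sup_of_normal_left' hTp hz hzn
  set W : Subgroup G := T ⊔ Subgroup.zpowers y with hWdef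
  have hWle : W ≤ cz y := by
    apply sup_le
    · intro t ht
      rw [mem_cz]
      exact (Subgroup.mem_center_iff.mp (hTc ht) y).symm
    · rw [Subgroup.zpowers_le, mem_cz]
  obtain ⟨b, hb⟩ := IsPGroup.iff_card.mp hW
  have hdvd : r ^ b ∣ Nat.card (cz x) := by
    rw [hcards, ← hb]
    exact Subgroup.card_dvd_of_le hWle
  have hb2 : b ≤ (Nat.card (cz x)).factorization r :=
    (hr.out.pow_dvd_iff_le_factorization Nat.card_pos.ne').mp hdvd
  have hS : Nat.card S = r ^ (Nat.card (cz x)).factorization r := S.card_eq_multiplicity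
  have hle : Nat.card W ≤ Nat.card T := by
    rw [hTcard, hS, hb]
    exact Nat.pow_le_pow_right hr.out.pos hb2
  have hEq : T = W := Subgroup.eq_of_le_of_card_ge le_sup_left hle
  have hyT : y ∈ T := by
    rw [hEq]
    exact (le_sup_right : Subgroup.zpowers y ≤ W) (Subgroup.mem_zpowers y)
  exact hy (hTc hyT)

/-- Centralizers of suitable prime power elements are abelian. -/
theorem cz_abelian_of_two_primes {q r : ℕ} [hq : Fact q.Prime] [hr : Fact r.Prime] (hqr : q ≠ r)
    {x y' : G} {a b : ℕ} (hx : x ∉ Subgroup.center G) (hxo : orderOf x = q ^ a)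
    (hy' : y' ∈ cz x) (hy'o : orderOf y' = r ^ b) (hy'c : y' ∉ Subgroup.center G) :
    ∀ u ∈ cz x, ∀ v ∈ cz x, u * v = v * u := by
  have hcoqr : Nat.Coprime q r := (Nat.coprime_primes hq.out hr.out).mpr hqr
  have hcomm : Commute x y' := (mem_cz.mp hy').symm
  have hEq : cz x = cz y' := cz_eq_of_commute_coprime h hx hy'c hcomm (by
    rw [hxo, hy'o]
    exact Nat.Coprime.pow _ _ hcoqr)
  have claim1 : ∀ w ∈ cz x, (orderOf w).Coprime q → ∀ v ∈ cz x, w * v = v * w := by
    intro w hw hwc v hv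
    by_cases hwz : w ∈ Subgroup.center G
    · exact (Subgroup.mem_center_iff.mp hwz v).symm
    · have h1 : cz x = cz w := cz_eq_of_commute_coprime h hx hwz (mem_cz.mp hw).symm (by
        rw [hxo]
        exact (Nat.Coprime.pow_right a hwc).symm)
      rw [h1, mem_cz] at hv
      exact hv.symm
  have claim2 : ∀ w ∈ cz x, (orderOf w).Coprime r → ∀ v ∈ cz x, w * v = v * w := by
    intro w hw hwc v hv
    by_cases hwz : w ∈ Subgroup.center G
    · exact (Subgroup.mem_center_iff.mp hwz v).symm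
    · have hw' : w ∈ cz y' := hEq ▸ hw
      have h1 : cz y' = cz w := cz_eq_of_commute_coprime h hy'c hwz (mem_cz.mp hw').symm (by
        rw [hy'o]
        exact (Nat.Coprime.pow_right b hwc).symm)
      have hv' : v ∈ cz w := by
        rw [← h1, ← hEq]
        exact hv
      rw [mem_cz] at hv'
      exact hv'.symm
  intro u hu v hv
  obtain ⟨c, d, e, hcd, ⟨k, hk⟩, hd, hcz, hdz⟩ := exists_primary_decomp q u
  have hzle : Subgroup.zpowers u ≤ cz x := Subgroup.zpowers_le.mpr hu
  have h1 := claim2 c (hzle hcz) (by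
    rw [hk]
    exact Nat.Coprime.pow_left k hcoqr) v hv
  have h2 := claim1 d (hzle hdz) hd v hv
  rw [e]
  calc c * d * v = c * (v * d) := by rw [mul_assoc, h2]
    _ = (v * c) * d := by rw [← mul_assoc, h1]
    _ = v * (c * d) := by rw [mul_assoc]

/-- Every non-central element has the centralizer of a non-central element of prime power order,
lying in the cyclic group it generates. -/
theorem exists_ppart (g : G) (hg : g ∉ Subgroup.center G) :
    ∃ (q k : ℕ) (x : G), q.Prime ∧ orderOf x = q ^ k ∧ x ∉ Subgroup.center G ∧ cz g = cz x ∧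
      x ∈ Subgroup.zpowers g := by
  classical
  suffices H : ∀ t : ℕ, ∀ g : G, orderOf g = t → g ∉ Subgroup.center G →
      ∃ (q k : ℕ) (x : G), q.Prime ∧ orderOf x = q ^ k ∧ x ∉ Subgroup.center G ∧ cz g = cz x ∧
        x ∈ Subgroup.zpowers g from H _ g rfl hg
  intro t
  induction t using Nat.strong_induction_on with
  | _ t ih =>
  intro g ht hg
  have hg1 : orderOf g ≠ 1 := by
    intro h1
    rw [orderOf_eq_one_iff] at h1
    exact hg (h1 ▸ Subgroup.one_mem _)
  obtain ⟨q, hq, hqd⟩ := Nat.exists_prime_and_dvd hg1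
  haveI : Fact q.Prime := ⟨hq⟩
  obtain ⟨a, b, e, -, ⟨k, hk⟩, hb, ha', hb'⟩ := exists_primary_decomp q g
  by_cases ha : a ∈ Subgroup.center G
  · have hbc : b ∉ Subgroup.center G := by
      intro h1
      apply hg
      rw [e]
      exact Subgroup.mul_mem _ ha h1
    have hlt : orderOf b < t := by
      rw [← ht]
      have h2 : orderOf b ∣ orderOf g := by
        obtain ⟨i, rfl⟩ := hb'
        exact orderOf_dvd_of_pow_eq_one (by
          simp only
          rw [← zpow_natCast, ← zpow_mul, mul_comm, zpow_mul, zpow_natCast, pow_orderOf_eq_one, one_zpow])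
      apply lt_of_le_of_ne (Nat.le_of_dvd (orderOf_pos g) h2)
      intro h3
      rw [h3] at hb
      exact (Nat.Prime.coprime_iff_not_dvd hq).mp hb.symm hqd
    obtain ⟨q', k', x, hq', hk', hxc, hcz, hxz⟩ := ih _ hlt b rfl hbc
    refine ⟨q', k', x, hq', hk', hxc, ?_, ?_⟩
    · rw [← hcz]
      exact cz_eq_of_le_of_nc h hbc hg (cz_le_cz_of_mem_zpowers hb')
    · exact (Subgroup.zpowers_le.mpr hb') hxz
  · exact ⟨q, k, a, hq, hk, ha, cz_eq_of_le_of_nc h ha hg (cz_le_cz_of_mem_zpowers ha'), ha'⟩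

end two_sizes

end Cfsg.Agent.H19
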