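import Mathlib

/-!
Frobenius' theorem: if `m` divides `|G|`, then `m` divides the number of solutions of `x ^ m = 1`
(helper19).  Elementary proof (Isaacs-Robinson): class equation on the `p'`-parts.
-/

set_option autoImplicit false
set_option linter.style.haveILetI false

universe u

namespace Cfsg.Agent.H19

open Classical in
/-- Class size times the order of the centralizer. -/
theorem card_class_mul_card_centralizer {G : Type*} [Group G] [Finite G] (g : G) :
    (ConjClasses.mk g).carrier.ncard * Nat.card (Subgroup.centralizer ({g} : Set G)) = Nat.card G := by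
  have h1 := (MulAction.stabilizer (ConjAct G) g).card_mul_index
  have h2 := MulAction.index_stabilizer (ConjAct G) g
  rw [ConjAct.orbit_eq_carrier_conjClasses] at h2
  rw [h2] at h1
  have h3 : Nat.card (MulAction.stabilizer (ConjAct G) g) = Nat.card (Subgroup.centralizer ({g} : Set G)) := by
    apply Nat.card_congr
    refine ⟨fun x => ⟨ConjAct.ofConjAct x.1, ?_⟩, fun x => ⟨ConjAct.toConjAct x.1, ?_⟩, ?_, ?_⟩
    · rw [Subgroup.mem_centralizer_singleton_iff]
      have := x.2
      rw [MulAction.mem_stabilizer_iff, ConjAct.smul_def] at this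
      exact (mul_inv_eq_iff_eq_mul.1 this)
    · rw [MulAction.mem_stabilizer_iff, ConjAct.smul_def]
      have := x.2
      rw [Subgroup.mem_centralizer_singleton_iff] at this
      simpa using mul_inv_eq_iff_eq_mul.2 this
    · intro x; rfl
    · intro x; rfl
  have h4 : Nat.card (ConjAct G) = Nat.card G := rfl
  rw [h3, h4, mul_comm] at h1
  exact h1

/-- Number of solutions of `u ^ t = 1` commuting with `c`. -/
noncomputable def solC {G : Type*} [Group G] (t : ℕ) (c : G) : ℕ :=
  Nat.card {u : G // u ^ t = 1 ∧ Commute c u}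

/-- Number of solutions of `u ^ t = 1`. -/
noncomputable def sol (G : Type*) [Group G] (t : ℕ) : ℕ := Nat.card {u : G // u ^ t = 1}

theorem solC_eq_sol_centralizer {G : Type*} [Group G] (t : ℕ) (c : G) :
    solC t c = sol (Subgroup.centralizer ({c} : Set G)) t := by
  apply Nat.card_congr
  refine ⟨fun x => ⟨⟨x.1, ?_⟩, ?_⟩, fun x => ⟨x.1.1, ?_, ?_⟩, ?_, ?_⟩
  · rw [Subgroup.mem_centralizer_singleton_iff]; exact x.2.2.eq.symm
  · exact Subtype.ext x.2.1
  · have := congrArg Subtype.val x.2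
    simpa using this
  · have := x.1.2
    rw [Subgroup.mem_centralizer_singleton_iff] at this
    exact this.symm
  · intro x; rfl
  · intro x; rfl

theorem solC_conj {G : Type*} [Group G] (t : ℕ) (c g : G) : solC t (g * c * g⁻¹) = solC t c := by
  apply Nat.card_congr
  refine ⟨fun x => ⟨g⁻¹ * x.1 * g, ?_, ?_⟩, fun x => ⟨g * x.1 * g⁻¹, ?_, ?_⟩, ?_, ?_⟩
  · have h1 := x.2.1
    have : (g⁻¹ * x.1 * g) ^ t = g⁻¹ * x.1 ^ t * g := by
      simpa using conj_pow (a := g⁻¹) (b := x.1) (i := t)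
    rw [this, h1]; group
  · have h1 := x.2.2.eq
    show c * (g⁻¹ * x.1 * g) = (g⁻¹ * x.1 * g) * c
    have h2 : x.1 = g * c * g⁻¹ * x.1 * (g * c * g⁻¹)⁻¹ := by
      rw [h1]; group
    calc c * (g⁻¹ * x.1 * g) = g⁻¹ * (g * c * g⁻¹ * x.1) * g := by group
      _ = g⁻¹ * (x.1 * (g * c * g⁻¹)) * g := by rw [h1]
      _ = (g⁻¹ * x.1 * g) * c := by group
  · have h1 := x.2.1
    rw [conj_pow, h1]; group
  · have h1 := x.2.2.eq
    show g * c * g⁻¹ * (g * x.1 * g⁻¹) = (g * x.1 * g⁻¹) * (g * c * g⁻¹)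
    calc g * c * g⁻¹ * (g * x.1 * g⁻¹) = g * (c * x.1) * g⁻¹ := by group
      _ = g * (x.1 * c) * g⁻¹ := by rw [h1]
      _ = _ := by group
  · intro x; ext; simp [mul_assoc]
  · intro x; ext; simp [mul_assoc]

/-- The decomposition of a solution of `x ^ (s * t) = 1`. -/
theorem exists_decomp_exps {s t : ℕ} (hst : s.Coprime t) :
    ∃ k l : ℕ, (t ∣ k) ∧ (s ∣ l) ∧ (k ≡ 1 [MOD s]) ∧ (l ≡ 1 [MOD t]) ∧ (k + l ≡ 1 [MOD s * t]) := by
  obtain ⟨k, hk1, hk2⟩ := Nat.chineseRemainder hst 1 0
  obtain ⟨l, hl1, hl2⟩ := Nat.chineseRemainder hst 0 1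
  refine ⟨k, l, (Nat.modEq_zero_iff_dvd.1 hk2), (Nat.modEq_zero_iff_dvd.1 hl1), hk1, hl2, ?_⟩
  apply (Nat.modEq_and_modEq_iff_modEq_mul hst).1
  constructor
  · simpa using hk1.add hl1
  · simpa using hk2.add hl2

theorem pow_eq_of_modEq {G : Type*} [Group G] {x : G} {s a b : ℕ} (hx : x ^ s = 1) (h : a ≡ b [MOD s]) :
    x ^ a = x ^ b := by
  have h1 : orderOf x ∣ s := orderOf_dvd_of_pow_eq_one hx
  exact (pow_eq_pow_iff_modEq.2 (h.of_dvd h1))

open Classical in
/-- Counting solutions according to their `s`-part. -/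
theorem card_decomp {G : Type*} [Group G] [Fintype G] {s t : ℕ} (hst : s.Coprime t) (Q : G → Prop)
    (hQ : ∀ c u : G, c ^ s = 1 → u ^ t = 1 → Commute c u → (Q (c * u) ↔ Q c))
    (X : Finset G) (hX : ∀ c, c ∈ X ↔ c ^ s = 1 ∧ Q c) :
    Nat.card {x : G // x ^ (s * t) = 1 ∧ Q x} = ∑ c ∈ X, solC t c := by
  obtain ⟨k, l, htk, hsl, hk, hl, hkl⟩ := exists_decomp_exps hst
  have e : {x : G // x ^ (s * t) = 1 ∧ Q x} ≃
      Σ c : {c : G // c ^ s = 1 ∧ Q c}, {u : G // u ^ t = 1 ∧ Commute c.1 u} := by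
    have key1 : ∀ c u : G, c ^ s = 1 → u ^ t = 1 → Commute c u → (c * u) ^ k = c := by
      intro c u hc hu hcu
      rw [hcu.mul_pow, pow_eq_of_modEq hc hk]
      obtain ⟨a, rfl⟩ := htk
      rw [pow_mul u t a, hu, one_pow, mul_one, pow_one]
    have key2 : ∀ c u : G, c ^ s = 1 → u ^ t = 1 → Commute c u → (c * u) ^ l = u := by
      intro c u hc hu hcu
      rw [hcu.mul_pow, pow_eq_of_modEq hu hl]
      obtain ⟨a, rfl⟩ := hsl
      rw [pow_mul c s a, hc, one_pow, one_mul, pow_one]
    have hxs : ∀ x : G, x ^ (s * t) = 1 → (x ^ k) ^ s = 1 := by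
      intro x hx
      obtain ⟨a, rfl⟩ := htk
      rw [← pow_mul, show t * a * s = (s * t) * a by ring, pow_mul, hx, one_pow]
    have hxt : ∀ x : G, x ^ (s * t) = 1 → (x ^ l) ^ t = 1 := by
      intro x hx
      obtain ⟨a, rfl⟩ := hsl
      rw [← pow_mul, show s * a * t = (s * t) * a by ring, pow_mul, hx, one_pow]
    have hmul : ∀ x : G, x ^ (s * t) = 1 → x ^ k * x ^ l = x := by
      intro x hx
      rw [← pow_add, pow_eq_of_modEq hx hkl, pow_one]
    refine ⟨fun x => ⟨⟨x.1 ^ k, hxs _ x.2.1, ?_⟩, ⟨x.1 ^ l, hxt _ x.2.1, ?_⟩⟩,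
      fun y => ⟨y.1.1 * y.2.1, ?_, ?_⟩, ?_, ?_⟩
    · have h2 := (hQ _ _ (hxs _ x.2.1) (hxt _ x.2.1) (Commute.pow_pow_self x.1 k l)).1
      apply h2
      rw [hmul _ x.2.1]; exact x.2.2
    · exact Commute.pow_pow_self x.1 k l
    · rw [y.2.2.2.mul_pow, mul_comm s t, pow_mul y.2.1 t s, y.2.2.1, one_pow, mul_one, mul_comm t s, pow_mul, y.1.2.1, one_pow]
    · exact (hQ _ _ y.1.2.1 y.2.2.1 y.2.2.2).2 y.1.2.2
    · intro x
      ext
      exact hmul _ x.2.1
    · rintro ⟨⟨c, hc⟩, ⟨u, hu⟩⟩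
      have h1 := key1 c u hc.1 hu.1 hu.2
      have h2 := key2 c u hc.1 hu.1 hu.2
      apply Sigma.subtype_ext
      · exact Subtype.ext h1
      · exact h2
  rw [Nat.card_congr e, Nat.card_sigma]
  rw [Finset.sum_subtype (p := fun c : G => c ^ s = 1 ∧ Q c) (s := X) hX]
  rfl

open Classical in
/-- Sum of a conjugation invariant function over a conjugation invariant set. -/
theorem dvd_sum_class {G : Type*} [Group G] [Fintype G] (X : Finset G)
    (hX : ∀ c ∈ X, ∀ g : G, g * c * g⁻¹ ∈ X) (F : G → ℕ) (hF : ∀ c g : G, F (g * c * g⁻¹) = F c)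
    (m : ℕ) (hm : ∀ c ∈ X, m ∣ (ConjClasses.mk c).carrier.ncard * F c) : m ∣ ∑ c ∈ X, F c := by
  induction X using Finset.strongInduction with
  | H X ih =>
  rcases X.eq_empty_or_nonempty with rfl | ⟨c, hc⟩
  · simp
  let Y : Finset G := Finset.univ.filter (fun x => x ∈ (ConjClasses.mk c).carrier)
  have hYmem : ∀ x, x ∈ Y ↔ ∃ g : G, g * c * g⁻¹ = x := by
    intro x
    simp only [Y, Finset.mem_filter, Finset.mem_univ, true_and, ConjClasses.mem_carrier_iff_mk_eq,
      ConjClasses.mk_eq_mk_iff_isConj]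
    constructor
    · intro h
      obtain ⟨g, hg⟩ := isConj_iff.1 h.symm
      exact ⟨g, hg⟩
    · rintro ⟨g, hg⟩
      exact (isConj_iff.2 ⟨g, hg⟩).symm
  have hYX : Y ⊆ X := by
    intro x hx
    obtain ⟨g, rfl⟩ := (hYmem x).1 hx
    exact hX c hc g
  have hcY : c ∈ Y := (hYmem c).2 ⟨1, by simp⟩
  have h1 : ∑ x ∈ Y, F x = (ConjClasses.mk c).carrier.ncard * F c := by
    have h2 : ∀ x ∈ Y, F x = F c := by
      intro x hx
      obtain ⟨g, rfl⟩ := (hYmem x).1 hx
      exact hF c g
    rw [Finset.sum_congr rfl h2, Finset.sum_const, smul_eq_mul]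
    congr 1
    rw [Set.ncard_eq_toFinset_card']
    congr 1
    ext x
    simp [Y]
  rw [← Finset.sum_sdiff hYX, h1]
  apply dvd_add
  · apply ih (X \ Y) (Finset.sdiff_ssubset hYX ⟨c, hcY⟩)
    · intro x hx g
      rw [Finset.mem_sdiff] at hx ⊢
      refine ⟨hX x hx.1 g, fun hy => hx.2 ?_⟩
      obtain ⟨g', hg'⟩ := (hYmem _).1 hy
      refine (hYmem x).2 ⟨g⁻¹ * g', ?_⟩
      have : g⁻¹ * g' * c * (g⁻¹ * g')⁻¹ = g⁻¹ * (g' * c * g'⁻¹) * g := by group
      rw [this, hg']; group
    · intro x hx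
      exact hm x (Finset.mem_sdiff.1 hx).1
  · exact hm c hc

/-- `p`-part of a product. -/
theorem ordProj_dvd_of_mul_eq {p a b n : ℕ} (hn : n ≠ 0) (h : a * b = n) :
    ordProj[p] n ∣ a * ordProj[p] b := by
  have ha : a ≠ 0 := by rintro rfl; simp at h; exact hn h.symm
  have hb : b ≠ 0 := by rintro rfl; simp at h; exact hn h.symm
  rw [← h, Nat.ordProj_mul p ha hb]
  exact Nat.mul_dvd_mul_right (Nat.ordProj_dvd a p) _

/-- The order of a solution of `u ^ (p ^ a) = 1` divides the `p`-part of the group. -/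
theorem pow_ordProj_eq_one {K : Type*} [Group K] [Finite K] {p : ℕ} (hp : p.Prime) {a : ℕ} {u : K}
    (hu : u ^ (p ^ a) = 1) : u ^ (ordProj[p] (Nat.card K)) = 1 := by
  have h1 : orderOf u ∣ p ^ a := orderOf_dvd_of_pow_eq_one hu
  obtain ⟨j, -, hj⟩ := (Nat.dvd_prime_pow hp).1 h1
  have h2 : orderOf u ∣ Nat.card K := orderOf_dvd_natCard u
  have h3 : orderOf u ∣ ordProj[p] (Nat.card K) := by
    rw [hj] at h2 ⊢
    exact (Nat.Prime.pow_dvd_iff_dvd_ordProj hp Nat.card_pos.ne').1 h2
  exact orderOf_dvd_iff_pow_eq_one.1 h3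

theorem sol_pow_eq_sol_ordProj {K : Type*} [Group K] [Finite K] {p : ℕ} (hp : p.Prime) {a : ℕ}
    (ha : (Nat.card K).factorization p ≤ a) : sol K (p ^ a) = sol K (ordProj[p] (Nat.card K)) := by
  apply Nat.card_congr
  refine ⟨fun x => ⟨x.1, pow_ordProj_eq_one hp x.2⟩, fun x => ⟨x.1, ?_⟩, ?_, ?_⟩
  · have h1 := x.2
    obtain ⟨b, hb⟩ := Nat.exists_eq_add_of_le ha
    rw [hb, pow_add, pow_mul, h1, one_pow]
  · intro x; rfl
  · intro x; rfl

/-- **Frobenius' theorem, the full `p`-part.** -/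
theorem ordProj_dvd_sol {p : ℕ} (hp : p.Prime) :
    ∀ (n : ℕ) (G : Type u) [Group G] [Finite G], Nat.card G = n →
      ordProj[p] (Nat.card G) ∣ sol G (ordProj[p] (Nat.card G)) := by
  classical
  intro n
  induction n using Nat.strong_induction_on with
  | _ n ih =>
  intro G _ _ hn
  haveI := Fintype.ofFinite G
  set e := (Nat.card G).factorization p with he
  set m' := ordCompl[p] (Nat.card G) with hm'
  have hG0 : Nat.card G ≠ 0 := Nat.card_pos.ne'
  have hcop : m'.Coprime (p ^ e) := (Nat.Coprime.pow_left e (Nat.coprime_ordCompl hp hG0)).symm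
  have hall : ∀ x : G, x ^ (m' * p ^ e) = 1 := by
    intro x
    rw [mul_comm, he, hm', Nat.ordProj_mul_ordCompl_eq_self]
    exact pow_card_eq_one'
  set X := Finset.univ.filter (fun c : G => c ^ m' = 1) with hX
  have h1 := card_decomp (G := G) hcop (fun _ => True) (by simp) X (by simp [hX])
  have h2 : Nat.card {x : G // x ^ (m' * p ^ e) = 1 ∧ True} = Nat.card G := by
    apply Nat.card_congr
    exact ⟨fun x => x.1, fun x => ⟨x, hall x, trivial⟩, fun x => rfl, fun x => rfl⟩
  rw [h2] at h1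
  set Xc := X.filter (fun c => c ∈ Subgroup.center G) with hXc
  set Xn := X.filter (fun c => c ∉ Subgroup.center G) with hXn
  rw [← Finset.sum_filter_add_sum_filter_not X (fun c => c ∈ Subgroup.center G)] at h1
  have h3 : ∀ c ∈ Xc, solC (p ^ e) c = sol G (p ^ e) := by
    intro c hc
    have hcz : c ∈ Subgroup.center G := (Finset.mem_filter.1 hc).2
    apply Nat.card_congr
    refine ⟨fun x => ⟨x.1, x.2.1⟩, fun x => ⟨x.1, x.2, ?_⟩, fun x => rfl, fun x => rfl⟩
    exact (Subgroup.mem_center_iff.1 hcz x.1).symm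
  have hsolG : sol G (p ^ e) = sol G (ordProj[p] (Nat.card G)) := rfl
  -- the noncentral part
  have h4 : ordProj[p] (Nat.card G) ∣ ∑ c ∈ Xn, solC (p ^ e) c := by
    apply dvd_sum_class Xn _ _ (fun c g => solC_conj _ c g)
    · intro c hc
      have hcz : c ∉ Subgroup.center G := (Finset.mem_filter.1 hc).2
      have hlt : Nat.card (Subgroup.centralizer ({c} : Set G)) < n := by
        rw [← hn]
        apply lt_of_le_of_ne (Subgroup.card_le_card_group _)
        intro heq
        have htop := (Subgroup.card_eq_iff_eq_top _).1 heq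
        apply hcz
        rw [Subgroup.mem_center_iff]
        intro g
        have : g ∈ Subgroup.centralizer ({c} : Set G) := by rw [htop]; trivial
        rw [Subgroup.mem_centralizer_singleton_iff] at this
        exact this
      have h5 := ih _ hlt (Subgroup.centralizer ({c} : Set G)) rfl
      have h6 := card_class_mul_card_centralizer c
      have h7 := ordProj_dvd_of_mul_eq (p := p) hG0 h6
      refine h7.trans (Nat.mul_dvd_mul_left _ ?_)
      rw [solC_eq_sol_centralizer, sol_pow_eq_sol_ordProj hp ?_]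
      · exact h5
      · rw [he]
        exact (Nat.factorization_le_iff_dvd Nat.card_pos.ne' hG0).2
          (Subgroup.card_subgroup_dvd_card _) p
    · intro c hc g
      simp only [hXn, hX, Finset.mem_filter, Finset.mem_univ, true_and] at hc ⊢
      refine ⟨by rw [conj_pow, hc.1]; group, fun h => hc.2 ?_⟩
      rw [Subgroup.mem_center_iff] at h ⊢
      intro y
      have h8 := h (g * y * g⁻¹)
      have h9 : g * y * g⁻¹ * (g * c * g⁻¹) = g * (y * c) * g⁻¹ := by group
      have h10 : g * c * g⁻¹ * (g * y * g⁻¹) = g * (c * y) * g⁻¹ := by group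
      rw [h9, h10] at h8
      exact mul_left_cancel (mul_right_cancel h8)
  have hpart : ordProj[p] (Nat.card G) ∣ Nat.card G := Nat.ordProj_dvd _ _
  rw [Finset.sum_congr rfl h3, Finset.sum_const, smul_eq_mul] at h1
  -- the central part
  have h5 : ordProj[p] (Nat.card G) ∣ Xc.card * sol G (p ^ e) := by
    have h1' : Xc.card * sol G (p ^ e) + ∑ c ∈ Xn, solC (p ^ e) c = Nat.card G := h1.symm
    have h6 : ordProj[p] (Nat.card G) ∣ Xc.card * sol G (p ^ e) + ∑ c ∈ Xn, solC (p ^ e) c := by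
      rw [h1']; exact hpart
    exact (Nat.dvd_add_left h4).1 h6
  have hXccop : Nat.Coprime (p ^ e) Xc.card := by
    apply Nat.Coprime.pow_left
    rw [Nat.Prime.coprime_iff_not_dvd hp]
    intro hdvd
    -- Cauchy in the kernel of the power map on the centre
    let T : Subgroup G :=
      { carrier := {c | c ∈ Subgroup.center G ∧ c ^ m' = 1}
        mul_mem' := by
          rintro a b ⟨ha, ha1⟩ ⟨hb, hb1⟩
          refine ⟨Subgroup.mul_mem _ ha hb, ?_⟩
          have hcomm : Commute a b := (Subgroup.mem_center_iff.1 ha b).symm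
          rw [hcomm.mul_pow, ha1, hb1, one_mul]
        one_mem' := ⟨Subgroup.one_mem _, one_pow _⟩
        inv_mem' := by
          rintro a ⟨ha, ha1⟩
          exact ⟨Subgroup.inv_mem _ ha, by rw [inv_pow, ha1, inv_one]⟩ }
    have hTcard : Nat.card T = Xc.card := by
      rw [← Nat.card_eq_finsetCard]
      apply Nat.card_congr
      refine ⟨fun x => ⟨x.1, ?_⟩, fun x => ⟨x.1, ?_⟩, ?_, ?_⟩
      · have hx := x.2
        simp only [hXc, hX, Finset.mem_filter, Finset.mem_univ, true_and]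
        exact ⟨hx.2, hx.1⟩
      · have hx := x.2
        simp only [hXc, hX, Finset.mem_filter, Finset.mem_univ, true_and] at hx
        exact ⟨hx.2, hx.1⟩
      · intro x; rfl
      · intro x; rfl
    haveI : Fact p.Prime := ⟨hp⟩
    rw [← hTcard] at hdvd
    obtain ⟨t, ht⟩ := exists_prime_orderOf_dvd_card' p hdvd
    have h9 : (t : G) ^ m' = 1 := t.2.2
    have h10 : orderOf (t : G) = p := by rw [Subgroup.orderOf_coe]; exact ht
    have h11 : p ∣ m' := h10 ▸ orderOf_dvd_of_pow_eq_one h9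
    exact (Nat.Prime.coprime_iff_not_dvd hp).1 (Nat.coprime_ordCompl hp hG0) h11
  exact hXccop.dvd_of_dvd_mul_left h5

/-- `φ(d)` divides the number of elements of order `d`. -/
theorem totient_dvd_card_orderOf_eq {G : Type*} [Group G] [Finite G] (d : ℕ) :
    Nat.totient d ∣ Nat.card {x : G // orderOf x = d} := by
  classical
  haveI := Fintype.ofFinite G
  rw [Nat.card_eq_fintype_card, Fintype.card_subtype]
  set X := Finset.univ.filter (fun x : G => orderOf x = d) with hX
  rw [Finset.card_eq_sum_card_image (fun x : G => Subgroup.zpowers x) X]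
  apply Finset.dvd_sum
  intro H hH
  obtain ⟨x, hx, rfl⟩ := Finset.mem_image.1 hH
  have hxd : orderOf x = d := (Finset.mem_filter.1 hx).2
  have hcardH : Nat.card (Subgroup.zpowers x) = d := by rw [Nat.card_zpowers, hxd]
  haveI : Fintype (Subgroup.zpowers x) := Fintype.ofFinite _
  have h1 := IsCyclic.card_orderOf_eq_totient (α := Subgroup.zpowers x) (d := d) (by
    rw [← Nat.card_eq_fintype_card, hcardH])
  rw [← h1]
  apply dvd_of_eq
  apply Finset.card_bij (fun (y : Subgroup.zpowers x) _ => (y : G))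
  · intro y hy
    have hy' : orderOf y = d := (Finset.mem_filter.1 hy).2
    have hy2 : orderOf (y : G) = d := by rw [Subgroup.orderOf_coe]; exact hy'
    simp only [Finset.mem_filter]
    refine ⟨Finset.mem_filter.2 ⟨Finset.mem_univ _, hy2⟩, ?_⟩
    apply Subgroup.eq_of_le_of_card_ge
    · rw [Subgroup.zpowers_le]; exact y.2
    · rw [hcardH, Nat.card_zpowers, hy2]
  · intro a _ b _ h
    exact Subtype.ext h
  · intro y hy
    simp only [Finset.mem_filter] at hy
    have h2 : y ∈ Subgroup.zpowers x := by rw [← hy.2]; exact Subgroup.mem_zpowers y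
    refine ⟨⟨y, h2⟩, ?_, rfl⟩
    simp only [Finset.mem_filter, Finset.mem_univ, true_and]
    rw [← Subgroup.orderOf_coe]
    exact (Finset.mem_filter.1 hy.1).2

/-- **Frobenius' theorem, powers of a prime.** -/
theorem pow_dvd_sol {G : Type*} [Group G] [Finite G] {p : ℕ} (hp : p.Prime) {a : ℕ}
    (ha : p ^ a ∣ Nat.card G) : p ^ a ∣ sol G (p ^ a) := by
  have hG0 : Nat.card G ≠ 0 := Nat.card_pos.ne'
  have hae : a ≤ (Nat.card G).factorization p := (hp.pow_dvd_iff_le_factorization hG0).1 ha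
  obtain ⟨d, hd⟩ := Nat.exists_eq_add_of_le hae
  induction d generalizing a with
  | zero =>
    rw [add_zero] at hd
    rw [← hd]
    exact ordProj_dvd_sol hp _ G rfl
  | succ d ih =>
    have h1 : p ^ (a + 1) ∣ sol G (p ^ (a + 1)) :=
      ih ((hp.pow_dvd_iff_le_factorization hG0).2 (by omega)) (by omega) (by omega)
    have h2 : sol G (p ^ (a + 1)) = sol G (p ^ a) + Nat.card {x : G // orderOf x = p ^ (a + 1)} := by
      rw [sol, sol, ← Nat.card_sum]
      apply Nat.card_congr
      classical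
      have hiff : ∀ x : G, x ^ (p ^ (a + 1)) = 1 ↔ x ^ p ^ a = 1 ∨ orderOf x = p ^ (a + 1) := by
        intro x
        constructor
        · intro hx
          by_cases hx2 : x ^ p ^ a = 1
          · exact Or.inl hx2
          · exact Or.inr (by
              haveI := Fact.mk hp
              exact orderOf_eq_prime_pow hx2 hx)
        · rintro (hx | hx)
          · rw [pow_succ, pow_mul, hx, one_pow]
          · rw [← hx]; exact pow_orderOf_eq_one x
      refine (Equiv.subtypeEquivRight hiff).trans ?_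
      refine (subtypeOrEquiv _ _ ?_)
      rw [disjoint_iff_inf_le]
      rintro x ⟨hx, hx2⟩
      exfalso
      have h3 : orderOf x ∣ p ^ a := orderOf_dvd_of_pow_eq_one hx
      rw [hx2] at h3
      have := (Nat.pow_dvd_pow_iff_le_right hp.one_lt).1 h3
      omega
    have h3 : p ^ a ∣ Nat.card {x : G // orderOf x = p ^ (a + 1)} := by
      refine Dvd.dvd.trans ?_ (totient_dvd_card_orderOf_eq (p ^ (a + 1)))
      rw [Nat.totient_prime_pow_succ hp]
      exact dvd_mul_right _ _
    have h4 : p ^ a ∣ sol G (p ^ (a + 1)) := (pow_dvd_pow p (Nat.le_succ a)).trans h1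
    rw [h2] at h4
    exact (Nat.dvd_add_left h3).1 h4

/-- **Frobenius' theorem.** -/
theorem dvd_sol {G : Type*} [Group G] [Finite G] {m : ℕ} (hm : m ∣ Nat.card G) : m ∣ sol G m := by
  classical
  haveI := Fintype.ofFinite G
  have hG0 : Nat.card G ≠ 0 := Nat.card_pos.ne'
  have hm0 : m ≠ 0 := by rintro rfl; exact hG0 (by simpa using hm)
  rw [Nat.dvd_iff_prime_pow_dvd_dvd]
  intro p k hp hk
  set a := m.factorization p with ha
  set m' := ordCompl[p] m with hm'
  have hka : k ≤ a := (hp.pow_dvd_iff_le_factorization hm0).1 hk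
  refine (pow_dvd_pow p hka).trans ?_
  have hcop : m'.Coprime (p ^ a) := (Nat.Coprime.pow_left a (Nat.coprime_ordCompl hp hm0)).symm
  have hmeq : m' * p ^ a = m := by rw [mul_comm]; exact Nat.ordProj_mul_ordCompl_eq_self m p
  set X := Finset.univ.filter (fun c : G => c ^ m' = 1) with hX
  have h1 := card_decomp (G := G) hcop (fun _ => True) (by simp) X (by simp [hX])
  have h2 : Nat.card {x : G // x ^ (m' * p ^ a) = 1 ∧ True} = sol G m := by
    rw [hmeq]
    apply Nat.card_congr
    exact ⟨fun x => ⟨x.1, x.2.1⟩, fun x => ⟨x.1, x.2, trivial⟩, fun x => rfl, fun x => rfl⟩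
  rw [h2] at h1
  rw [h1]
  have hpa : p ^ a ∣ Nat.card G := (Nat.ordProj_dvd m p).trans hm
  apply dvd_sum_class X _ _ (fun c g => solC_conj _ c g)
  · intro c _
    set C := Subgroup.centralizer ({c} : Set G) with hC
    by_cases hab : a ≤ (Nat.card C).factorization p
    · have h3 : p ^ a ∣ Nat.card C := (hp.pow_dvd_iff_le_factorization Nat.card_pos.ne').2 hab
      rw [solC_eq_sol_centralizer]
      exact (pow_dvd_sol hp h3).trans (dvd_mul_left _ _)
    · have h3 := card_class_mul_card_centralizer c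
      have h4 := ordProj_dvd_of_mul_eq (p := p) hG0 h3
      have h5 : ordProj[p] (Nat.card G) ∣ _ := h4.trans (Nat.mul_dvd_mul_left _
        (ordProj_dvd_sol hp _ C rfl))
      refine ((hp.pow_dvd_iff_le_factorization hG0).1 hpa |> pow_dvd_pow p).trans (h5.trans ?_)
      apply Nat.mul_dvd_mul_left
      rw [solC_eq_sol_centralizer, sol_pow_eq_sol_ordProj hp (not_le.1 hab).le]
  · intro c hc g
    simp only [hX, Finset.mem_filter, Finset.mem_univ, true_and] at hc ⊢
    rw [conj_pow, hc]; group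

end Cfsg.Agent.H19
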