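import Mathlib
import Cfsg.Agent.Lib.Lead.Burnside
import Cfsg.Agent.Lib.H22.Osima2
import Cfsg.Agent.Lib.H21.CharLinear
import Cfsg.Agent.Lib.H18.Syl
import Cfsg.Agent.Lib.H17.PrimeGraph
import Cfsg.Agent.Lib.H19.Basic

/-!
# Kazarin's theorem: the normal closure of an element with a conjugacy class of prime-power size
is solvable.

Block orthogonality for the principal `r`-block, `r` a prime different from `p`:
every member of the principal block does not vanish at `x`, so by Burnside it is linear or has degree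
divisible by `p`.
-/

set_option autoImplicit false
set_option linter.style.haveILetI false

namespace Cfsg.Agent.H19

open Cfsg Cfsg.Agent.H21 Module
open scoped ComplexConjugate

universe u

section core

variable {G : Type u} [Group G] [Finite G]

theorem degree_one_of_norm_gen (χ : IrrCharacter G) {x : G}
    (hgen : Subgroup.normalClosure ({x} : Set G) = ⊤)
    (hnorm : ‖χ.1 x‖ = charDegree χ.1) : charDegree χ.1 = 1 := by
  classical
  haveI := Fintype.ofFinite G
  haveI : Fintype (IrrCharacter G) := Fintype.ofFinite _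
  obtain ⟨n, ρ, hirr, hρ⟩ := χ.2
  have hdeg : charDegree χ.1 = n := by
    rw [← hρ]; simp [charDegree, Representation.char_one]
  have hinvρ : ∀ g : G, ρ g⁻¹ * ρ g = 1 := fun g => by rw [← map_mul]; simp
  let Z : Subgroup G :=
    { carrier := {g | ∃ c : ℂ, ρ g = c • (1 : End ℂ (Fin n → ℂ))}
      mul_mem' := by
        rintro a b ⟨c, hc⟩ ⟨d, hd⟩
        refine ⟨c * d, ?_⟩
        rw [map_mul, hc, hd, smul_mul_smul_comm, mul_one]
      one_mem' := ⟨1, by simp⟩
      inv_mem' := by
        rintro a ⟨c, hc⟩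
        by_cases hn : n = 0
        · subst hn
          exact ⟨0, by
            ext v i
            exact i.elim0⟩
        have hc0 : c ≠ 0 := by
          rintro rfl
          have h1 := hinvρ a
          rw [hc] at h1
          simp only [zero_smul, mul_zero] at h1
          haveI : Nontrivial (End ℂ (Fin n → ℂ)) := by
            haveI : Nonempty (Fin n) := ⟨⟨0, Nat.pos_of_ne_zero hn⟩⟩
            infer_instance
          exact zero_ne_one h1
        refine ⟨c⁻¹, ?_⟩
        have h1 := hinvρ a
        rw [hc] at h1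
        have h2 : ρ a⁻¹ = c⁻¹ • ((ρ a⁻¹) * (c • (1 : End ℂ (Fin n → ℂ)))) := by
          rw [mul_smul_comm, smul_smul, inv_mul_cancel₀ hc0, one_smul, mul_one]
        rw [h2, h1] }
  have hZn : Z.Normal := by
    constructor
    rintro a ⟨c, hc⟩ g
    refine ⟨c, ?_⟩
    rw [map_mul, map_mul, hc, mul_smul_comm, smul_mul_assoc, mul_one, ← map_mul, mul_inv_cancel,
      map_one]
  have hfin : finrank ℂ (Fin n → ℂ) = n := by simp
  have hxZ : x ∈ Z := by
    apply (norm_character_eq_finrank_iff ρ x).1
    rw [hρ, hnorm, hdeg, hfin]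
  have htop : Z = ⊤ := by
    rw [eq_top_iff, ← hgen]
    apply Subgroup.normalClosure_le_normal
    rintro y rfl
    exact hxZ
  have hall : ∀ g : G, ‖χ.1 g‖ = n := by
    intro g
    have hg : g ∈ Z := by rw [htop]; exact Subgroup.mem_top g
    have := (norm_character_eq_finrank_iff ρ g).2 hg
    rw [hρ, hfin] at this
    exact this
  have h1 := classInner_irr χ χ
  rw [if_pos rfl] at h1
  unfold classInner at h1
  have h2 : ∀ g : G, χ.1 g * conj (χ.1 g) = ((n : ℂ)) ^ 2 := by
    intro g
    rw [Complex.mul_conj, Complex.normSq_eq_norm_sq, hall g]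
    push_cast
    rfl
  simp only [h2] at h1
  rw [Finset.sum_const, Finset.card_univ, nsmul_eq_mul, Nat.card_eq_fintype_card] at h1
  have hne0 : (Fintype.card G : ℂ) ≠ 0 := by
    exact_mod_cast Fintype.card_ne_zero
  rw [inv_mul_cancel_left₀ hne0] at h1
  have h3 : n ^ 2 = 1 := by exact_mod_cast h1
  rw [hdeg]
  exact (Nat.pow_eq_one.mp h3).resolve_right (by norm_num)

/-- `1 + p β = 0` is impossible for an algebraic integer `β`. -/
theorem one_add_prime_mul_ne_zero {p : ℕ} (hp : p.Prime) {β : ℂ} (hint : IsIntegral ℤ β)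
    (h : (1 : ℂ) + (p : ℂ) * β = 0) : False := by
  have hp0 : (p : ℂ) ≠ 0 := by exact_mod_cast hp.ne_zero
  have hval : β = ((-(1 : ℚ) / p : ℚ) : ℂ) := by
    push_cast
    field_simp
    linear_combination h
  rw [hval] at hint
  have hrat : IsIntegral ℤ (-(1 : ℚ) / p : ℚ) :=
    (isIntegral_algebraMap_iff (B := ℂ) (A := ℚ) (R := ℤ) (algebraMap ℚ ℂ).injective).1 hint
  obtain ⟨z, hz⟩ := IsIntegrallyClosed.isIntegral_iff.mp hrat
  have hz2 : (z : ℚ) * p = -1 := by
    have hpQ : (p : ℚ) ≠ 0 := by exact_mod_cast hp.ne_zero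
    have : ((z : ℤ) : ℚ) = -(1 : ℚ) / p := by simpa using hz
    rw [this]; field_simp
  have hz3 : z * (p : ℤ) = -1 := by exact_mod_cast hz2
  have hdvd : (p : ℤ) ∣ 1 := ⟨-z, by linarith⟩
  have hunit : p ∣ 1 := by exact_mod_cast hdvd
  exact hp.one_lt.ne' (Nat.dvd_one.1 hunit)

/-- A `q`-power root of unity congruent to `1` modulo `M` is `1`, when `q` is not in `M`. -/
theorem eq_one_of_root_of_mli {M : Ideal AlgInt} [hP : M.IsPrime] {r q : ℕ} (hM : IsPModular r M)
    (hrq : r ≠ q) (hq : q.Prime) {ζ : ℂ} (hint : IsIntegral ℤ ζ) :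
    ∀ e : ℕ, ζ ^ q ^ e = 1 → MemLocalIdeal M (1 - ζ) → ζ = 1 := by
  intro e
  induction e with
  | zero =>
    intro h _
    simpa using h
  | succ e ih =>
    intro h hm
    apply ih _ hm
    set η := ζ ^ q ^ e with hη
    by_contra hne
    have hηq : η ^ q = 1 := by
      rw [hη, ← pow_mul, ← pow_succ]
      exact h
    have hsum : ∑ i ∈ Finset.range q, η ^ i = 0 := by
      rw [geom_sum_eq hne, hηq, sub_self, zero_div]
    have hζlocal : MemLocalRing M ζ := H22.mlr_of_isIntegral hint
    have hpow : ∀ n : ℕ, MemLocalIdeal M (1 - ζ ^ n) := by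
      intro n
      have h1 := mul_neg_geom_sum ζ n
      rw [← h1]
      refine H22.mli_mul_right hm ?_
      exact H22.mlr_sum _ _ fun i _ => H22.mlr_of_isIntegral (hint.pow i)
    have hq1 : MemLocalIdeal M (∑ i ∈ Finset.range q, (1 - η ^ i)) := by
      refine H22.mli_sum _ _ fun i _ => ?_
      have : η ^ i = ζ ^ (q ^ e * i) := by rw [hη, pow_mul]
      rw [this]
      exact hpow _
    rw [Finset.sum_sub_distrib, hsum, sub_zero] at hq1
    simp only [Finset.sum_const, Finset.card_range, nsmul_eq_mul, mul_one] at hq1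
    have := (H22.mli_natCast_iff hM q).mp hq1
    exact hrq ((Nat.prime_dvd_prime_iff_eq hM.1 hq).mp this)

/-- The heart of the proof. -/
theorem kazarin_core {x y : G} {p q r k e : ℕ} (hp : p.Prime) (hq : q.Prime) (hr : r.Prime)
    (hrp : r ≠ p) (hrq : r ≠ q) (hx : orderOf x = q ^ e)
    (hidx : (Subgroup.centralizer ({x} : Set G)).index = p ^ k)
    (hgen : Subgroup.normalClosure ({x} : Set G) = ⊤)
    (hy : y ∈ commutator G) (hyr : r ∣ orderOf y) : False := by
  classical
  haveI := Fintype.ofFinite G
  haveI : Fintype (IrrCharacter G) := Fintype.ofFinite _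
  haveI : Fact r.Prime := ⟨hr⟩
  obtain ⟨M, hM⟩ := exists_pModular hr
  haveI : M.IsPrime := hM.2.1.isPrime
  let one : IrrCharacter G := ⟨fun _ => 1, isIrrCharacter_one⟩
  set B : Set (IrrCharacter G) := principalBlock M G with hBdef
  have hB : IsPBlock M B := ⟨one, rfl⟩
  have horth := H22.block_orth_singular_regular hM hB (x := y) (y := 1) hyr (by
    rw [orderOf_one]; exact fun h => hr.one_lt.ne' (Nat.dvd_one.mp h))
  have hone : one ∈ B := by
    intro g
    rw [sub_self]
    exact H22.mli_zero
  have hPnot : ¬ MemLocalIdeal M ((p ^ k : ℕ) : ℂ) := by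
    rw [H22.mli_natCast_iff hM]
    intro h
    exact hrp ((Nat.prime_dvd_prime_iff_eq hr hp).mp (hr.dvd_of_dvd_pow h))
  -- dichotomy
  have hdich : ∀ χ ∈ B, χ = one ∨ p ∣ charDegree χ.1 := by
    intro χ hχ
    have h0 := hχ x
    have hχchar : IsCharacter G χ.1 := isCharacter_of_irr χ.2
    have hd0 : (charDegree χ.1 : ℂ) ≠ 0 := by exact_mod_cast (irr_charDegree_pos χ.2).ne'
    have hc1 : centralChar (fun _ : G => (1 : ℂ)) x = ((p ^ k : ℕ) : ℂ) := by
      unfold centralChar
      rw [hidx]
      simp
    have hc2 : centralChar χ.1 x = ((p ^ k : ℕ) : ℂ) * χ.1 x / χ.1 1 := by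
      unfold centralChar
      rw [hidx]
    rw [hc1, hc2] at h0
    have hval : χ.1 x ≠ 0 := by
      intro h
      rw [h, mul_zero, zero_div, sub_zero] at h0
      exact hPnot h0
    by_cases hd : p ∣ charDegree χ.1
    · exact Or.inr hd
    left
    have hcop : (charDegree χ.1).Coprime (Subgroup.centralizer ({x} : Set G)).index := by
      rw [hidx]
      exact Nat.Coprime.pow_right _ ((Nat.Prime.coprime_iff_not_dvd hp).2 hd).symm
    have hnorm := (Lead.irr_value_zero_or_norm χ x hcop).resolve_left hval
    have hdeg1 := degree_one_of_norm_gen χ hgen hnorm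
    have hχ1 : χ.1 1 = 1 := linear_one hχchar hdeg1
    rw [hχ1, div_one, ← mul_one_sub] at h0
    -- now `1 - χ x` lies in the ideal
    have hint : IsIntegral ℤ (χ.1 x) := isCharacter_isIntegral hχchar x
    have hm1 : MemLocalIdeal M (1 - χ.1 x) := by
      have hm2 := (H22.mli_mul_iff (H22.mlr_natCast _) (H22.mlr_sub H22.mlr_one (H22.mlr_of_isIntegral hint))).mp h0
      exact hm2.resolve_left hPnot
    have hpowχ : ∀ (g : G) (n : ℕ), χ.1 (g ^ n) = χ.1 g ^ n := by
      intro g n
      induction n with
      | zero => simpa using hχ1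
      | succ n ih => rw [pow_succ, linear_mul hχchar hdeg1, ih, pow_succ]
    have hroot : χ.1 x ^ q ^ e = 1 := by
      rw [← hpowχ, ← hx, pow_orderOf_eq_one, hχ1]
    have hx1 : χ.1 x = 1 := eq_one_of_root_of_mli hM hrq hq hint e hroot hm1
    -- the kernel
    let K : Subgroup G :=
      { carrier := {g | χ.1 g = 1}
        mul_mem' := by
          intro a b ha hb
          change χ.1 (a * b) = 1
          rw [linear_mul hχchar hdeg1]
          rw [show χ.1 a = 1 from ha, show χ.1 b = 1 from hb, one_mul]
        one_mem' := hχ1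
        inv_mem' := by
          intro a ha
          change χ.1 a⁻¹ = 1
          have h1 : χ.1 (a * a⁻¹) = χ.1 a * χ.1 a⁻¹ := linear_mul hχchar hdeg1 _ _
          rw [mul_inv_cancel, hχ1, show χ.1 a = 1 from ha, one_mul] at h1
          exact h1.symm }
    have hKn : K.Normal := by
      constructor
      intro a ha g
      change χ.1 (g * a * g⁻¹) = 1
      rw [H22.irr_conj']
      exact ha
    have htop : K = ⊤ := by
      rw [eq_top_iff, ← hgen]
      apply Subgroup.normalClosure_le_normal
      rintro z rfl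
      exact hx1
    apply Subtype.ext
    funext g
    have : g ∈ K := by rw [htop]; exact Subgroup.mem_top g
    exact this
  -- the sum
  have hterm : ∀ χ ∈ Finset.univ.erase one, ∃ β : ℂ, IsIntegral ℤ β ∧
      H22.eB B χ * (χ.1 y * conj (χ.1 1)) = (p : ℂ) * β := by
    intro χ hχ
    have hne : χ ≠ one := (Finset.mem_erase.1 hχ).1
    by_cases hχB : χ ∈ B
    · obtain ⟨c, hc⟩ := (hdich χ hχB).resolve_left hne
      refine ⟨(c : ℂ) * χ.1 y, ?_, ?_⟩
      · have hcint : IsIntegral ℤ (c : ℂ) := by
          simpa using isIntegral_algebraMap (R := ℤ) (A := ℂ) (x := (c : ℤ))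
        exact hcint.mul (isCharacter_isIntegral (isCharacter_of_irr χ.2) y)
      · rw [H22.eB_apply_mem hχB, one_eq_charDegree (isCharacter_of_irr χ.2), hc]
        push_cast
        simp only [map_mul, map_natCast]
        ring
    · exact ⟨0, isIntegral_zero, by rw [H22.eB_apply_not_mem hχB]; simp⟩
  choose! β hβ1 hβ2 using hterm
  rw [← Finset.add_sum_erase _ _ (Finset.mem_univ one)] at horth
  have hone1 : H22.eB B one * (one.1 y * conj (one.1 1)) = 1 := by
    rw [H22.eB_apply_mem hone]
    simp [one]
  rw [hone1, Finset.sum_congr rfl hβ2, ← Finset.mul_sum] at horth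
  exact one_add_prime_mul_ne_zero hp (IsIntegral.sum _ fun χ hχ => hβ1 χ hχ) horth

/-- If `G` is the normal closure of a `q`-element with `p`-power class size then `G` is solvable. -/
theorem isSolvable_of_gen {x : G} {p q k e : ℕ} (hp : p.Prime) (hq : q.Prime) (hx : orderOf x = q ^ e)
    (hidx : (Subgroup.centralizer ({x} : Set G)).index = p ^ k)
    (hgen : Subgroup.normalClosure ({x} : Set G) = ⊤) : Group.IsSolvable G := by
  classical
  set D := commutator G with hD
  have hprimes : ∀ r : ℕ, r.Prime → r ∣ Nat.card D → r = p ∨ r = q := by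
    intro r hr hdvd
    by_contra hno
    push Not at hno
    haveI : Fact r.Prime := ⟨hr⟩
    obtain ⟨y, hy⟩ := exists_prime_orderOf_dvd_card' (G := D) r hdvd
    refine kazarin_core (x := x) (y := y.1) hp hq hr hno.1 hno.2 hx hidx hgen y.2 ?_
    rw [Subgroup.orderOf_coe, hy]
  have hcard : ∃ a b : ℕ, Nat.card D = p ^ a * q ^ b := by
    set n := Nat.card D with hn
    have hn0 : n ≠ 0 := Nat.card_pos.ne'
    refine ⟨n.factorization p, (ordCompl[p] n).primeFactorsList.length, ?_⟩
    have h1 : ordCompl[p] n = q ^ (ordCompl[p] n).primeFactorsList.length := by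
      apply Nat.eq_prime_pow_of_unique_prime_dvd (Nat.ordCompl_pos p hn0).ne'
      intro d hd hdd
      have h2 : d ∣ n := hdd.trans (Nat.ordCompl_dvd n p)
      rcases hprimes d hd h2 with h | h
      · subst h
        exact absurd hdd (Nat.not_dvd_ordCompl hd hn0)
      · exact h
    rw [← h1]
    exact (Nat.ordProj_mul_ordCompl_eq_self n p).symm
  obtain ⟨a, b, hab⟩ := hcard
  haveI hDs : Group.IsSolvable D := Lead.burnside_two_prime p q a b hp hq hab
  haveI : Group.IsSolvable (Abelianization G) := Group.isSolvable_of_comm (fun a b => mul_comm a b)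
  refine Group.isSolvable_of_ker_le_range D.subtype (Abelianization.of (G := G)) ?_
  rw [Abelianization.ker_of, Subgroup.range_subtype]

end core

theorem isSolvable_of_subgroup_top {G : Type*} [Group G] (h : Group.IsSolvable (⊤ : Subgroup G)) :
    Group.IsSolvable G :=
  solvable_of_surjective (f := (⊤ : Subgroup G).subtype) (fun x => ⟨⟨x, Subgroup.mem_top x⟩, rfl⟩)

theorem index_centralizer_of_isConj {G : Type*} [Group G] [Finite G] {x y : G} (h : IsConj x y) :
    (Subgroup.centralizer ({x} : Set G)).index = (Subgroup.centralizer ({y} : Set G)).index := by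
  classical
  haveI := Fintype.ofFinite G
  haveI : Fintype (IrrCharacter G) := Fintype.ofFinite _
  rw [← card_isConj_eq_index, ← card_isConj_eq_index]
  exact Nat.card_congr (Equiv.subtypeEquivRight fun z => ⟨fun h' => h'.trans h, fun h' => h'.trans h.symm⟩)

/-- Kazarin for elements of prime power order. -/
theorem kazarin_pp_aux : ∀ n : ℕ, ∀ (G : Type u) [Group G] [Finite G], Nat.card G = n →
    ∀ (x : G) (p q k e : ℕ), p.Prime → q.Prime → orderOf x = q ^ e →
    (Subgroup.centralizer ({x} : Set G)).index = p ^ k →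
    Group.IsSolvable (Subgroup.normalClosure ({x} : Set G)) := by
  intro n
  induction n using Nat.strong_induction_on with
  | _ n ih =>
  intro G _ _ hn x p q k e hp hq hx hidx
  classical
  set N := Subgroup.normalClosure ({x} : Set G) with hN
  by_cases htop : N = ⊤
  · haveI := isSolvable_of_gen hp hq hx hidx htop
    exact Group.isSolvable_of_isSolvable_injective (f := N.subtype) N.subtype_injective
  haveI hNn : N.Normal := Subgroup.normalClosure_normal
  have hlt : Nat.card N < n := by
    rw [← hn]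
    have h1 := N.card_mul_index
    have h2 : N.index ≠ 1 := fun h => htop (Subgroup.index_eq_one.mp h)
    have h3 : N.index ≠ 0 := Subgroup.index_ne_zero_of_finite
    have h4 : 0 < Nat.card N := Nat.card_pos
    rw [← h1]
    have : 2 ≤ N.index := by omega
    nlinarith
  -- a maximal normal solvable subgroup of `N`
  let 𝓢 : Set (Subgroup N) := {K | K.Normal ∧ Group.IsSolvable K}
  have hbot : (⊥ : Subgroup N) ∈ 𝓢 := ⟨inferInstance, Group.isSolvable_of_comm (fun a b => Subsingleton.elim _ _)⟩
  obtain ⟨R, -, hRmax⟩ := (Set.toFinite 𝓢).exists_le_maximal hbot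
  have hRn : R.Normal := hRmax.prop.1
  have hRs : Group.IsSolvable R := hRmax.prop.2
  have hsup : ∀ K ∈ 𝓢, K ≤ R := by
    rintro K ⟨hKn, hKs⟩
    have h1 : R ⊔ K ∈ 𝓢 := by
      refine ⟨Subgroup.sup_normal R K, ?_⟩
      refine Cfsg.Agent.H17.sol_sup R K ?_ hRs hKs
      rw [Subgroup.normalizer_eq_top_iff.mpr hRn]
      exact le_top
    have h2 := hRmax.le_of_ge h1 le_sup_left
    exact le_sup_right.trans h2
  -- conjugates of `x`
  have hconj : ∀ y : N, IsConj x (y : G) → y ∈ R := by
    intro y hy
    have hord : orderOf y = q ^ e := by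
      rw [← Subgroup.orderOf_coe, ← hx]
      obtain ⟨c, hc⟩ := isConj_iff.mp hy
      rw [← hc, ← MulAut.conj_apply]
      exact MulEquiv.orderOf_eq _ _
    have hidx1 : (Subgroup.centralizer ({(y : G)} : Set G)).index = p ^ k := by
      rw [← index_centralizer_of_isConj hy, hidx]
    have hc1 : Subgroup.centralizer ({y} : Set N) = (Subgroup.centralizer ({(y : G)} : Set G)).subgroupOf N := by
      ext z
      rw [Subgroup.mem_subgroupOf, Subgroup.mem_centralizer_singleton_iff, Subgroup.mem_centralizer_singleton_iff]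
      constructor
      · intro h
        exact congrArg Subtype.val h
      · intro h
        exact Subtype.ext h
    have hidx2 : ∃ j, (Subgroup.centralizer ({y} : Set N)).index = p ^ j := by
      rw [hc1]
      have h1 : (Subgroup.centralizer ({(y : G)} : Set G)).relIndex N ∣ p ^ k := by
        rw [← hidx1]
        exact Cfsg.Agent.H18.relIndex_dvd_index_of_normal_right _ _
      obtain ⟨j, -, hj⟩ := (Nat.dvd_prime_pow hp).mp h1
      exact ⟨j, hj⟩
    obtain ⟨j, hj⟩ := hidx2
    have hsol := ih _ hlt N rfl y p q j e hp hq hord hj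
    have hmem : Subgroup.normalClosure ({y} : Set N) ∈ 𝓢 := ⟨Subgroup.normalClosure_normal, hsol⟩
    exact hsup _ hmem (Subgroup.subset_normalClosure rfl)
  have hRtop : R = ⊤ := by
    rw [eq_top_iff]
    rintro ⟨z, hz⟩ -
    have hle : N ≤ R.map N.subtype := by
      show Subgroup.closure (Group.conjugatesOfSet ({x} : Set G)) ≤ R.map N.subtype
      rw [Subgroup.closure_le]
      intro w hw
      obtain ⟨a, ha, hwa⟩ := Group.mem_conjugatesOfSet_iff.mp hw
      obtain rfl : a = x := ha
      have hwN : w ∈ N := Subgroup.conjugatesOfSet_subset_normalClosure hw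
      exact ⟨⟨w, hwN⟩, hconj ⟨w, hwN⟩ hwa, rfl⟩
    obtain ⟨w, hw, hwz⟩ := hle hz
    have : w = ⟨z, hz⟩ := Subtype.ext hwz
    rwa [← this]
  rw [hRtop] at hRs
  exact isSolvable_of_subgroup_top hRs

/-- **Kazarin's theorem.** -/
theorem kazarin_aux {G : Type u} [Group G] [Finite G] : ∀ n : ℕ, ∀ x : G, orderOf x = n → ∀ p k : ℕ, p.Prime →
    (Subgroup.centralizer ({x} : Set G)).index = p ^ k →
    Group.IsSolvable (Subgroup.normalClosure ({x} : Set G)) := by
  intro n
  induction n using Nat.strong_induction_on with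
  | _ n ih =>
  intro x hx p k hp hidx
  classical
  by_cases hn1 : n = 1
  · exact kazarin_pp_aux _ G rfl x p 2 k 0 hp Nat.prime_two (by rw [hx, hn1]; simp) hidx
  set q := n.minFac with hq
  have hqp : q.Prime := Nat.minFac_prime hn1
  haveI : Fact q.Prime := ⟨hqp⟩
  have hqn : q ∣ n := Nat.minFac_dvd n
  have hn0 : 0 < n := by rw [← hx]; exact orderOf_pos x
  obtain ⟨a, b, hab, hcomm, ⟨j, hj⟩, hbq, haz, hbz⟩ := exists_primary_decomp q x
  have hcentr : ∀ c ∈ Subgroup.zpowers x, ∃ l, (Subgroup.centralizer ({c} : Set G)).index = p ^ l := by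
    intro c hc
    have hle : Subgroup.centralizer ({x} : Set G) ≤ Subgroup.centralizer ({c} : Set G) := by
      intro z hz
      rw [Subgroup.mem_centralizer_singleton_iff] at hz ⊢
      obtain ⟨i, rfl⟩ := Subgroup.mem_zpowers_iff.mp hc
      exact ((Commute.zpow_right (show Commute z x from hz) i))
    have h1 : (Subgroup.centralizer ({c} : Set G)).index ∣ p ^ k := by
      rw [← hidx]
      exact Subgroup.index_dvd_of_le hle
    obtain ⟨l, -, hl⟩ := (Nat.dvd_prime_pow hp).mp h1
    exact ⟨l, hl⟩
  obtain ⟨la, hla⟩ := hcentr a haz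
  obtain ⟨lb, hlb⟩ := hcentr b hbz
  have hSa := kazarin_pp_aux _ G rfl a p q la j hp hqp hj hla
  have hbn : orderOf b ∣ n := by
    rw [← hx]
    exact orderOf_dvd_of_mem_zpowers hbz
  have hblt : orderOf b < n := by
    refine lt_of_le_of_ne (Nat.le_of_dvd hn0 hbn) ?_
    intro h
    rw [h] at hbq
    exact hqp.one_lt.ne' (Nat.Coprime.eq_one_of_dvd hbq.symm hqn)
  have hSb := ih _ hblt b rfl p lb hp hlb
  set Na := Subgroup.normalClosure ({a} : Set G) with hNa
  set Nb := Subgroup.normalClosure ({b} : Set G) with hNb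
  haveI hNan : Na.Normal := Subgroup.normalClosure_normal
  haveI hNbn : Nb.Normal := Subgroup.normalClosure_normal
  have hsup : Group.IsSolvable ↥(Na ⊔ Nb) := by
    refine Cfsg.Agent.H17.sol_sup Na Nb ?_ hSa hSb
    rw [Subgroup.normalizer_eq_top_iff.mpr hNan]
    exact le_top
  have hle : Subgroup.normalClosure ({x} : Set G) ≤ Na ⊔ Nb := by
    apply Subgroup.normalClosure_le_normal
    intro z hz
    have hz' : z = x := hz
    rw [SetLike.mem_coe, hz', hab]
    exact Subgroup.mul_mem _ (Subgroup.mem_sup_left (Subgroup.subset_normalClosure rfl))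
      (Subgroup.mem_sup_right (Subgroup.subset_normalClosure rfl))
  exact Group.isSolvable_of_isSolvable_injective (f := Subgroup.inclusion hle) (Subgroup.inclusion_injective hle)

/-- **Kazarin's theorem**: the normal closure of an element with prime-power class size is solvable. -/
theorem kazarin {G : Type u} [Group G] [Finite G] (x : G) {p k : ℕ} (hp : p.Prime)
    (hidx : (Subgroup.centralizer ({x} : Set G)).index = p ^ k) :
    Group.IsSolvable (Subgroup.normalClosure ({x} : Set G)) :=
  kazarin_aux _ x rfl p k hp hidx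

end Cfsg.Agent.H19
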