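import Cfsg.Agent.Lib.H13.FrobFusion
import Cfsg.Agent.Lib.H19.CyclicSylow
import Cfsg.Agent.Lib.H19.Lifts
import Cfsg.Agent.Lib.H19.Basic

/-! Groups in which non-abelian subgroups are self-normalizing (helper19). -/

set_option autoImplicit false
set_option linter.style.haveILetI false

namespace Cfsg.Agent.H19

open Cfsg

section

variable {G : Type*} [Group G]

/-- Every non-abelian subgroup is self-normalizing. -/
def SelfNorm (G : Type*) [Group G] : Prop :=
  ∀ H : Subgroup G, ¬ IsMulCommutative H → Subgroup.normalizer (H : Set G) = H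

theorem isMulCommutative_of_forall {H : Subgroup G} (h : ∀ a ∈ H, ∀ b ∈ H, a * b = b * a) :
    IsMulCommutative H :=
  ⟨⟨fun a b => Subtype.ext (h a a.2 b b.2)⟩⟩

theorem mul_comm_of_isMulCommutative {H : Subgroup G} (h : IsMulCommutative H) {a b : G}
    (ha : a ∈ H) (hb : b ∈ H) : a * b = b * a :=
  congrArg Subtype.val (h.is_comm.comm ⟨a, ha⟩ ⟨b, hb⟩)

theorem SelfNorm.normal_abelian (h : SelfNorm G) {N : Subgroup G} (hN : N.Normal) (hne : N ≠ ⊤) :
    IsMulCommutative N := by
  by_contra hc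
  have := h N hc
  rw [Subgroup.normalizer_eq_top_iff.mpr hN] at this
  exact hne this.symm

variable [Finite G]

theorem card_prime_of_selfNormalizing [Nontrivial G]
    (hT : ∀ W : Subgroup G, W ≠ ⊥ → Subgroup.normalizer (W : Set G) = W) : (Nat.card G).Prime := by
  classical
  have h1 : Nat.card G ≠ 1 := Finite.one_lt_card.ne'
  obtain ⟨q, hq, hd⟩ := Nat.exists_prime_and_dvd h1
  haveI : Fact q.Prime := ⟨hq⟩
  obtain ⟨x, hx⟩ := exists_prime_orderOf_dvd_card' q hd
  have hWb : Subgroup.zpowers x ≠ ⊥ := by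
    intro h
    rw [Subgroup.zpowers_eq_bot] at h
    rw [h, orderOf_one] at hx
    exact hq.ne_one hx.symm
  have hWp : IsPGroup q (Subgroup.zpowers x) := isPGroup_zpowers_of_orderOf (k := 1) (by rw [hx, pow_one])
  obtain ⟨P, hP⟩ := hWp.exists_le_sylow
  have hPW : (P : Subgroup G) = Subgroup.zpowers x := by
    by_contra hne
    have hlt : Subgroup.zpowers x < (P : Subgroup G) := lt_of_le_of_ne hP (Ne.symm hne)
    obtain ⟨r, hr1, hr2, hr3⟩ := exists_mem_normalizer_of_lt hlt P.isPGroup'.isNilpotent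
    rw [hT _ hWb] at hr3
    exact hr2 hr3
  have hN : Subgroup.normalizer ((P : Subgroup G) : Set G) ≤
      Subgroup.centralizer ((P : Subgroup G) : Set G) := by
    rw [hPW, hT _ hWb]
    rintro _ ⟨i, rfl⟩
    rw [Subgroup.mem_centralizer_iff]
    rintro _ ⟨j, rfl⟩
    simp only
    rw [← zpow_add, ← zpow_add, add_comm]
  obtain ⟨R, hRn, hRc⟩ := burnside_complement P hN
  have hcard := hRc.card_mul
  have hRb : R = ⊥ := by
    by_contra hne
    have h2 := hT R hne
    rw [Subgroup.normalizer_eq_top_iff.mpr hRn] at h2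
    have h3 : Nat.card (P : Subgroup G) = 1 := by
      rw [← h2, Subgroup.card_top] at hcard
      have hpos : 0 < Nat.card G := Nat.card_pos
      nlinarith
    rw [hPW, Nat.card_zpowers, hx] at h3
    exact hq.ne_one h3
  rw [hRb, Subgroup.card_bot, one_mul, hPW, Nat.card_zpowers, hx] at hcard
  rw [← hcard]
  exact hq

/-- The quotient of the normalizer by the centralizer of an abelian subgroup has prime order, if nontrivial. -/
theorem SelfNorm.quot_prime (hS : SelfNorm G) {Q : Subgroup G} (hab : IsMulCommutative Q) {g : G}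
    (hg : g ∈ Subgroup.normalizer (Q : Set G)) (hgC : g ∉ Subgroup.centralizer (Q : Set G)) :
    (Nat.card (Subgroup.normalizer (Q : Set G) ⧸
      (Subgroup.centralizer (Q : Set G)).subgroupOf (Subgroup.normalizer (Q : Set G)))).Prime := by
  classical
  set M := Subgroup.normalizer (Q : Set G) with hM
  set C := Subgroup.centralizer (Q : Set G) with hC
  have hCM : C ≤ M := Subgroup.centralizer_le_normalizer _
  have hQC : Q ≤ C := by
    intro a ha
    rw [hC, Subgroup.mem_centralizer_iff]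
    intro b hb
    exact mul_comm_of_isMulCommutative hab hb ha
  haveI hCn : (C.subgroupOf M).Normal := by
    constructor
    rintro ⟨c, hcM⟩ hc ⟨m, hm⟩
    rw [Subgroup.mem_subgroupOf] at hc ⊢
    show m * c * m⁻¹ ∈ C
    rw [hC, Subgroup.mem_centralizer_iff] at hc ⊢
    intro q hq
    have h1 : m⁻¹ * q * m ∈ Q := by
      have := (Subgroup.mem_normalizer_iff.mp (Subgroup.inv_mem _ hm) q).mp hq
      simpa using this
    have h2 := hc _ h1
    calc q * (m * c * m⁻¹) = m * ((m⁻¹ * q * m) * c) * m⁻¹ := by group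
      _ = m * (c * (m⁻¹ * q * m)) * m⁻¹ := by rw [h2]
      _ = _ := by group
  let π : M →* M ⧸ C.subgroupOf M := QuotientGroup.mk' _
  have hπ : ∀ m : M, π m = 1 ↔ (m : G) ∈ C := by
    intro m
    show ((m : M ⧸ C.subgroupOf M) = 1) ↔ _
    rw [QuotientGroup.eq_one_iff, Subgroup.mem_subgroupOf]
  haveI : Nontrivial (M ⧸ C.subgroupOf M) := by
    refine ⟨⟨π ⟨g, hg⟩, 1, ?_⟩⟩
    intro h
    exact hgC ((hπ _).mp h)
  apply card_prime_of_selfNormalizing
  intro W hW
  apply le_antisymm _ Subgroup.le_normalizer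
  intro t ht
  obtain ⟨m, rfl⟩ := QuotientGroup.mk'_surjective (C.subgroupOf M) t
  set HM : Subgroup M := W.comap π with hHM
  set H : Subgroup G := HM.map M.subtype with hH
  have hnc : ¬ IsMulCommutative H := by
    intro hc
    obtain ⟨⟨w, hwW⟩, hw⟩ := Subgroup.ne_bot_iff_exists_ne_one.mp hW
    obtain ⟨n, rfl⟩ := QuotientGroup.mk'_surjective (C.subgroupOf M) w
    have hn : (n : G) ∉ C := by
      intro h3
      apply hw
      apply Subtype.ext
      exact (hπ n).mpr h3
    rw [hC, Subgroup.mem_centralizer_iff] at hn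
    push Not at hn
    obtain ⟨q, hq, hqn⟩ := hn
    have hnH : (n : G) ∈ H := ⟨n, hwW, rfl⟩
    have hqM : q ∈ M := Subgroup.le_normalizer hq
    have hqH : q ∈ H := by
      refine ⟨⟨q, hqM⟩, ?_, rfl⟩
      show π ⟨q, hqM⟩ ∈ W
      rw [(hπ _).mpr (hQC hq)]
      exact W.one_mem
    exact hqn (mul_comm_of_isMulCommutative hc hqH hnH)
  have hNH := hS H hnc
  have hmN : (m : G) ∈ Subgroup.normalizer (H : Set G) := by
    apply mem_normalizer_of_conj_le
    rintro _ ⟨h, hh, rfl⟩
    refine ⟨m * h * m⁻¹, ?_, rfl⟩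
    show π (m * h * m⁻¹) ∈ W
    have h1 : π h ∈ W := hh
    rw [map_mul, map_mul, map_inv]
    exact (Subgroup.mem_normalizer_iff.mp ht (π h)).mp h1
  rw [hNH] at hmN
  obtain ⟨m', hm', hm'2⟩ := hmN
  have : m' = m := Subtype.ext hm'2
  rw [← this]
  exact hm'

/-- A Frattini argument in the ambient group. -/
theorem frattini_ambient {C S : Subgroup G} {r : ℕ} [Fact r.Prime] (hSC : S ≤ C) (hSp : IsPGroup r S)
    (hSi : ¬ r ∣ (S.subgroupOf C).index) {m : G} (hm : m ∈ Subgroup.normalizer (C : Set G)) :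
    ∃ c ∈ C, c * m ∈ Subgroup.normalizer (S : Set G) := by
  classical
  let Y₁ : Subgroup C := S.subgroupOf C
  let S' : Subgroup G := S.map (MulAut.conj m).toMonoidHom
  have hS'C : S' ≤ C := by
    rintro _ ⟨s, hs, rfl⟩
    exact (Subgroup.mem_normalizer_iff.mp hm s).mp (hSC hs)
  let Y₂ : Subgroup C := S'.subgroupOf C
  have hc1 : Nat.card Y₁ = Nat.card S := Nat.card_congr (Subgroup.subgroupOfEquivOfLe hSC).toEquiv
  have hc2 : Nat.card Y₂ = Nat.card S' := Nat.card_congr (Subgroup.subgroupOfEquivOfLe hS'C).toEquiv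
  have hc3 : Nat.card S' = Nat.card S :=
    (Nat.card_congr (S.equivMapOfInjective _ (MulAut.conj m).injective).toEquiv).symm
  have hp1 : IsPGroup r Y₁ := hSp.comap_subtype
  have hS'p : IsPGroup r S' := hSp.map _
  have hp2 : IsPGroup r Y₂ := hS'p.comap_subtype
  have hi2 : ¬ r ∣ Y₂.index := by
    have h1 := Y₁.card_mul_index
    have h2 := Y₂.card_mul_index
    have h3 : Nat.card Y₁ = Nat.card Y₂ := by rw [hc1, hc2, hc3]
    have h4 : Y₂.index = Y₁.index := by
      rw [← h3] at h2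
      exact Nat.eq_of_mul_eq_mul_left Nat.card_pos (h2.trans h1.symm)
    rw [h4]
    exact hSi
  let S₁ : Sylow r C := hp1.toSylow hSi
  let S₂ : Sylow r C := hp2.toSylow hi2
  obtain ⟨c, hc⟩ := MulAction.exists_smul_eq C S₂ S₁
  refine ⟨c, c.2, ?_⟩
  apply mem_normalizer_of_conj_le
  intro s hs
  have h1 : (⟨m * s * m⁻¹, hS'C ⟨s, hs, rfl⟩⟩ : C) ∈ (S₂ : Subgroup C) := by
    show (⟨m * s * m⁻¹, hS'C ⟨s, hs, rfl⟩⟩ : C) ∈ Y₂
    rw [Subgroup.mem_subgroupOf]
    exact ⟨s, hs, rfl⟩
  have h2 : c * (⟨m * s * m⁻¹, hS'C ⟨s, hs, rfl⟩⟩ : C) * c⁻¹ ∈ (S₁ : Subgroup C) := by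
    rw [← hc, Sylow.coe_subgroup_smul]
    exact Subgroup.mem_map_of_mem _ h1
  have h3 : c * (⟨m * s * m⁻¹, hS'C ⟨s, hs, rfl⟩⟩ : C) * c⁻¹ ∈ Y₁ := h2
  rw [Subgroup.mem_subgroupOf] at h3
  have h4 : (c : G) * (m * s * m⁻¹) * (c : G)⁻¹ ∈ S := h3
  have e : (c : G) * m * s * ((c : G) * m)⁻¹ = (c : G) * (m * s * m⁻¹) * (c : G)⁻¹ := by group
  rw [e]
  exact h4

/-- Frobenius' condition when a Sylow subgroup is non-abelian. -/
theorem SelfNorm.frobCond (hS : SelfNorm G) {r : ℕ} [hr : Fact r.Prime] (R : Sylow r G)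
    (hR : ¬ IsMulCommutative (R : Subgroup G)) : H13.FrobCond r G := by
  classical
  suffices H : ∀ k : ℕ, ∀ Q : Subgroup G, Nat.card G - Nat.card Q = k → IsPGroup r Q →
      ∀ g ∈ Subgroup.normalizer (Q : Set G), (orderOf g).Coprime r →
        g ∈ Subgroup.centralizer (Q : Set G) by
    intro Q hQ g hg hgc
    exact H _ Q rfl hQ g hg hgc
  intro k
  induction k using Nat.strong_induction_on with
  | _ k ih =>
  intro Q hk hQ g hg hgc
  by_cases hab : IsMulCommutative Q
  swap
  · rw [hS Q hab] at hg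
    obtain ⟨j, hj⟩ := orderOf_of_mem_isPGroup hQ hg
    have h1 : orderOf g = 1 := by
      rw [hj] at hgc
      rw [hj]
      rcases Nat.eq_zero_or_pos j with h0 | h0
      · rw [h0, pow_zero]
      · exfalso
        have h2 := (Nat.coprime_pow_left_iff h0 r r).mp hgc
        rw [Nat.coprime_self] at h2
        exact hr.out.ne_one h2
    rw [orderOf_eq_one_iff] at h1
    rw [h1]
    exact Subgroup.one_mem _
  by_contra hgC
  set M := Subgroup.normalizer (Q : Set G) with hM
  set C := Subgroup.centralizer (Q : Set G) with hC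
  have hCM : C ≤ M := Subgroup.centralizer_le_normalizer _
  have hQC : Q ≤ C := by
    intro a ha
    rw [hC, Subgroup.mem_centralizer_iff]
    intro b hb
    exact mul_comm_of_isMulCommutative hab hb ha
  have hprime := hS.quot_prime hab hg hgC
  haveI hCn : (C.subgroupOf M).Normal := by
    constructor
    rintro ⟨c, hcM⟩ hc ⟨m, hm⟩
    rw [Subgroup.mem_subgroupOf] at hc ⊢
    show m * c * m⁻¹ ∈ C
    rw [hC, Subgroup.mem_centralizer_iff] at hc ⊢
    intro q hq
    have h1 : m⁻¹ * q * m ∈ Q := by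
      have := (Subgroup.mem_normalizer_iff.mp (Subgroup.inv_mem _ hm) q).mp hq
      simpa using this
    have h2 := hc _ h1
    calc q * (m * c * m⁻¹) = m * ((m⁻¹ * q * m) * c) * m⁻¹ := by group
      _ = m * (c * (m⁻¹ * q * m)) * m⁻¹ := by rw [h2]
      _ = _ := by group
  let π : M →* M ⧸ C.subgroupOf M := QuotientGroup.mk' _
  have hπ : ∀ m : M, π m = 1 ↔ (m : G) ∈ C := by
    intro m
    show ((m : M ⧸ C.subgroupOf M) = 1) ↔ _
    rw [QuotientGroup.eq_one_iff, Subgroup.mem_subgroupOf]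
  set q := Nat.card (M ⧸ C.subgroupOf M) with hq
  haveI : Fact q.Prime := ⟨hprime⟩
  have hord : ∀ m : M, (m : G) ∉ C → orderOf (π m) = q := by
    intro m hm
    apply orderOf_eq_prime
    · exact pow_card_eq_one'
    · intro h
      exact hm ((hπ m).mp h)
  have hdvd : ∀ m : M, (m : G) ∉ C → q ∣ orderOf (m : G) := by
    intro m hm
    rw [← hord m hm, Subgroup.orderOf_coe]
    exact orderOf_map_dvd _ _
  have hqr : q ≠ r := by
    intro h
    have h1 := hdvd ⟨g, hg⟩ hgC
    rw [h] at h1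
    exact (Nat.Prime.coprime_iff_not_dvd hr.out).mp hgc.symm h1
  have hrel : ∀ a ∈ M, (∃ j, orderOf a = r ^ j) → a ∈ C := by
    rintro a haM ⟨j, hj⟩
    by_contra hne
    have h1 := hdvd ⟨a, haM⟩ hne
    simp only at h1
    rw [hj] at h1
    exact hqr ((Nat.prime_dvd_prime_iff_eq hprime hr.out).mp (hprime.dvd_of_dvd_pow h1))
  -- a Sylow subgroup of the centralizer
  have hQ₁ : IsPGroup r (Q.subgroupOf C) := hQ.comap_subtype
  obtain ⟨S₁, hS₁⟩ := hQ₁.exists_le_sylow
  set S : Subgroup G := (S₁ : Subgroup C).map C.subtype with hSdef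
  have hSC : S ≤ C := Subgroup.map_subtype_le _
  have hQS : Q ≤ S := by
    intro a ha
    exact ⟨⟨a, hQC ha⟩, hS₁ (Subgroup.mem_subgroupOf.mpr ha), rfl⟩
  have hSp : IsPGroup r S := (S₁.isPGroup').map _
  have hSsub : S.subgroupOf C = (S₁ : Subgroup C) := by
    ext y
    rw [Subgroup.mem_subgroupOf]
    constructor
    · rintro ⟨y', hy', hy'2⟩
      have : y' = y := Subtype.ext hy'2
      exact this ▸ hy'
    · intro hy
      exact ⟨y, hy, rfl⟩
  have hSi : ¬ r ∣ (S.subgroupOf C).index := by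
    rw [hSsub]
    exact S₁.not_dvd_index
  have hCnormM : ∀ m ∈ M, m ∈ Subgroup.normalizer (C : Set G) := by
    intro m hm
    apply mem_normalizer_of_conj_le
    intro c hc
    have := hCn.conj_mem ⟨c, hCM hc⟩ (Subgroup.mem_subgroupOf.mpr hc) ⟨m, hm⟩
    exact Subgroup.mem_subgroupOf.mp this
  obtain ⟨c, hc, hcg⟩ := frattini_ambient hSC hSp hSi (hCnormM g hg)
  set g₁ := c * g with hg₁
  have hg₁M : g₁ ∈ M := M.mul_mem (hCM hc) hg
  have hg₁C : g₁ ∉ C := by
    intro h
    apply hgC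
    have : g = c⁻¹ * g₁ := by rw [hg₁]; group
    rw [this]
    exact C.mul_mem (C.inv_mem hc) h
  obtain ⟨a, b, hab', -, ha, hb, ha', hb'⟩ := exists_pi_decomp ({r} : Set ℕ) g₁
  have hzM : Subgroup.zpowers g₁ ≤ M := (Subgroup.zpowers_le).mpr hg₁M
  have hzN : Subgroup.zpowers g₁ ≤ Subgroup.normalizer (S : Set G) := (Subgroup.zpowers_le).mpr hcg
  have haC : a ∈ C := by
    apply hrel a (hzM ha')
    have h1 : ∀ s : ℕ, s.Prime → s ∣ orderOf a → s = r := ha
    refine ⟨(orderOf a).primeFactorsList.length, ?_⟩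
    exact Nat.eq_prime_pow_of_unique_prime_dvd (orderOf_pos a).ne' (fun {d} hd hdd => h1 d hd hdd)
  have hbC : b ∉ C := by
    intro h
    apply hg₁C
    rw [hab']
    exact C.mul_mem haC h
  have hbco : (orderOf b).Coprime r := by
    rw [Nat.coprime_comm, Nat.Prime.coprime_iff_not_dvd hr.out]
    intro h
    exact hb r hr.out h rfl
  by_cases hSQ : S = Q
  · -- then `Q` is Sylow in `G`
    obtain ⟨P, hP⟩ := hQ.exists_le_sylow
    by_cases hPQ : (P : Subgroup G) = Q
    · apply hR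
      obtain ⟨x, hx⟩ := MulAction.exists_smul_eq G P R
      have habP : IsMulCommutative (P : Subgroup G) := hPQ ▸ hab
      apply isMulCommutative_of_forall
      intro u hu v hv
      rw [← hx, Sylow.coe_subgroup_smul] at hu hv
      obtain ⟨u', hu', rfl⟩ := hu
      obtain ⟨v', hv', rfl⟩ := hv
      have := mul_comm_of_isMulCommutative habP hu' hv'
      show (x * u' * x⁻¹) * (x * v' * x⁻¹) = (x * v' * x⁻¹) * (x * u' * x⁻¹)
      calc (x * u' * x⁻¹) * (x * v' * x⁻¹) = x * (u' * v') * x⁻¹ := by group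
        _ = x * (v' * u') * x⁻¹ := by rw [this]
        _ = _ := by group
    · have hlt : Q < (P : Subgroup G) := lt_of_le_of_ne hP (Ne.symm hPQ)
      obtain ⟨u, hu1, hu2, hu3⟩ := exists_mem_normalizer_of_lt hlt P.isPGroup'.isNilpotent
      have huC : u ∈ C := hrel u hu3 (orderOf_of_mem_isPGroup P.isPGroup' hu1)
      -- `u` lies in `S₁`
      have hup : IsPGroup r (Subgroup.zpowers (⟨u, huC⟩ : C)) := by
        obtain ⟨j, hj⟩ := orderOf_of_mem_isPGroup P.isPGroup' hu1
        apply isPGroup_zpowers_of_orderOf (k := j)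
        rw [Subgroup.orderOf_mk, hj]
      have hun : Subgroup.zpowers (⟨u, huC⟩ : C) ≤ Subgroup.normalizer ((S₁ : Subgroup C) : Set C) := by
        rw [Subgroup.zpowers_le]
        apply mem_normalizer_of_conj_le
        intro s hs
        have h1 : (s : G) ∈ S := ⟨s, hs, rfl⟩
        rw [hSQ] at h1
        have h2 : u * s * u⁻¹ ∈ Q := (Subgroup.mem_normalizer_iff.mp hu3 s).mp h1
        have h3 : u * s * u⁻¹ ∈ S := hSQ ▸ h2
        obtain ⟨s', hs', hs'2⟩ := h3
        have : s' = (⟨u, huC⟩ : C) * s * (⟨u, huC⟩ : C)⁻¹ := Subtype.ext hs'2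
        rw [← this]
        exact hs'
      have hsup := IsPGroup.to_sup_of_normal_left' S₁.isPGroup' hup hun
      have heq := S₁.is_maximal' hsup le_sup_left
      have hu4 : (⟨u, huC⟩ : C) ∈ (S₁ : Subgroup C) := by
        rw [← heq]
        exact Subgroup.mem_sup_right (Subgroup.mem_zpowers _)
      have hu5 : u ∈ S := ⟨_, hu4, rfl⟩
      rw [hSQ] at hu5
      exact hu2 hu5
  · -- induction
    have hlt : Q < S := lt_of_le_of_ne hQS (Ne.symm hSQ)
    have hcard : Nat.card Q < Nat.card S := by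
      apply lt_of_le_of_ne (Subgroup.card_le_of_le hQS)
      intro h
      exact hSQ (Subgroup.eq_of_le_of_card_ge hQS h.ge).symm
    have hcardG : Nat.card S ≤ Nat.card G := Subgroup.card_le_card_group S
    have hlt2 : Nat.card G - Nat.card S < k := by omega
    have := ih _ hlt2 S rfl hSp b (hzN hb') hbco
    apply hbC
    rw [hC, Subgroup.mem_centralizer_iff]
    intro x hx
    exact (Subgroup.mem_centralizer_iff.mp this) x (hQS hx)

end

end Cfsg.Agent.H19
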