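import Mathlib
import Cfsg.Agent.Lib.H19.Kazarin
import Cfsg.Agent.Lib.H19.FrobCount
import Cfsg.Agent.Lib.H19.Lifts
import Cfsg.Agent.Lib.H01.Hall
import Cfsg.Agent.Lib.H01.Solv2
import Cfsg.Agent.Lib.H21.BlockBasics
import Cfsg.Agent.Lib.H22.PDegCount
import Cfsg.Agent.Lib.H13.Residual
import Cfsg.Agent.Lib.H19.SelfNorm

/-!
Consequences of Kazarin's theorem: abelian `p`-complements.
-/

set_option autoImplicit false
set_option linter.style.haveILetI false

namespace Cfsg.Agent.H19

open Cfsg Cfsg.Agent.H21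
open scoped Pointwise

universe u

variable {G : Type u} [Group G] [Finite G]

theorem ncard_class_eq_index (x : G) :
    (ConjClasses.mk x).carrier.ncard = (Subgroup.centralizer ({x} : Set G)).index := by
  have h1 := card_class_mul_card_centralizer x
  have h2 := (Subgroup.centralizer ({x} : Set G)).card_mul_index
  have h3 : 0 < Nat.card (Subgroup.centralizer ({x} : Set G)) := Nat.card_pos
  have h4 : Nat.card (Subgroup.centralizer ({x} : Set G)) * (ConjClasses.mk x).carrier.ncard =
      Nat.card (Subgroup.centralizer ({x} : Set G)) * (Subgroup.centralizer ({x} : Set G)).index := by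
    rw [h2, ← h1]; ring
  exact Nat.eq_of_mul_eq_mul_left h3 h4

/-- A largest normal solvable subgroup. -/
theorem exists_max_normal_solvable (G : Type u) [Group G] [Finite G] :
    ∃ R : Subgroup G, R.Normal ∧ Group.IsSolvable R ∧
      ∀ K : Subgroup G, K.Normal → Group.IsSolvable K → K ≤ R := by
  classical
  let 𝓢 : Set (Subgroup G) := {K | K.Normal ∧ Group.IsSolvable K}
  have hbot : (⊥ : Subgroup G) ∈ 𝓢 :=
    ⟨inferInstance, Group.isSolvable_of_comm (fun a b => Subsingleton.elim _ _)⟩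
  obtain ⟨R, -, hRmax⟩ := (Set.toFinite 𝓢).exists_le_maximal hbot
  have hRn : R.Normal := hRmax.prop.1
  have hRs : Group.IsSolvable R := hRmax.prop.2
  refine ⟨R, hRn, hRs, fun K hKn hKs => ?_⟩
  have h1 : R ⊔ K ∈ 𝓢 := by
    refine ⟨Subgroup.sup_normal R K, ?_⟩
    refine Cfsg.Agent.H17.sol_sup R K ?_ hRs hKs
    rw [Subgroup.normalizer_eq_top_iff.mpr hRn]
    exact le_top
  have h2 := hRmax.le_of_ge h1 le_sup_left
  exact le_sup_right.trans h2

/-- If `R` is normal solvable with `p`-group quotient then `G` is solvable. -/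
theorem isSolvable_of_pGroup_quotient {R : Subgroup G} [R.Normal] (hR : Group.IsSolvable R) {p : ℕ}
    [Fact p.Prime] (hq : IsPGroup p (G ⧸ R)) : Group.IsSolvable G := by
  haveI : Group.IsNilpotent (G ⧸ R) := hq.isNilpotent
  refine Group.isSolvable_of_ker_le_range R.subtype (QuotientGroup.mk' R) ?_
  rw [QuotientGroup.ker_mk', Subgroup.range_subtype]

/-- Regular classes of `p`-power size force solvability. -/
theorem isSolvable_of_regular_classes {p : ℕ} (hp : p.Prime)
    (h : ∀ x : G, (orderOf x).Coprime p → ∃ k : ℕ, (Subgroup.centralizer ({x} : Set G)).index = p ^ k) :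
    Group.IsSolvable G := by
  classical
  haveI : Fact p.Prime := ⟨hp⟩
  obtain ⟨R, hRn, hRs, hR⟩ := exists_max_normal_solvable G
  have hle : Cfsg.pResidual p G ≤ R := by
    rw [Cfsg.pResidual, Subgroup.closure_le]
    intro x hx
    obtain ⟨k, hk⟩ := h x hx
    have h1 := kazarin x hp hk
    exact hR _ Subgroup.normalClosure_normal h1 (Subgroup.subset_normalClosure rfl)
  have hq : IsPGroup p (G ⧸ R) := by
    intro y
    obtain ⟨x, rfl⟩ := QuotientGroup.mk_surjective y
    obtain ⟨k, hk⟩ := Cfsg.Agent.H13.isPGroup_quotient_pResidual (p := p) (G := G) (x : G ⧸ Cfsg.pResidual p G)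
    refine ⟨k, ?_⟩
    have h2 : x ^ p ^ k ∈ Cfsg.pResidual p G := by
      rw [← QuotientGroup.eq_one_iff]
      exact hk
    show ((x ^ p ^ k : G) : G ⧸ R) = 1
    rw [QuotientGroup.eq_one_iff]
    exact hle h2
  exact isSolvable_of_pGroup_quotient hRs hq

/-- The hypothesis passes to quotients. -/
theorem regular_classes_quotient {p : ℕ} (hp : p.Prime) (N : Subgroup G) [N.Normal]
    (h : ∀ x : G, (orderOf x).Coprime p → ∃ k : ℕ, (Subgroup.centralizer ({x} : Set G)).index = p ^ k) :
    ∀ y : G ⧸ N, (orderOf y).Coprime p →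
      ∃ k : ℕ, (Subgroup.centralizer ({y} : Set (G ⧸ N))).index = p ^ k := by
  intro y hy
  have hpy : ¬ p ∣ orderOf y := fun hd => hp.one_lt.ne' (Nat.Coprime.eq_one_of_dvd hy.symm hd)
  obtain ⟨x, hxy, hx⟩ := exists_pi_lift (QuotientGroup.mk' N) (QuotientGroup.mk'_surjective N) {r | r ≠ p} y
    (fun r _ hd hrp => hpy (hrp ▸ hd))
  have hxc : (orderOf x).Coprime p := by
    refine ((Nat.Prime.coprime_iff_not_dvd hp).mpr ?_).symm
    intro hd
    exact hx p hp hd rfl
  obtain ⟨k, hk⟩ := h x hxc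
  have h1 := index_centralizer_eq_fibCount_mul N x
  have h2 : (Subgroup.centralizer ({(x : G ⧸ N)} : Set (G ⧸ N))).index ∣ p ^ k := by
    rw [← hk, h1]
    exact Dvd.intro_left _ rfl
  obtain ⟨j, -, hj⟩ := (Nat.dvd_prime_pow hp).mp h2
  refine ⟨j, ?_⟩
  rw [← hxy]
  exact hj

/-- Every regular class of `p`-power size: abelian `p`-complement. -/
theorem exists_abelian_complement {p : ℕ} (hp : p.Prime)
    (h : ∀ x : G, (orderOf x).Coprime p → ∃ k : ℕ, (Subgroup.centralizer ({x} : Set G)).index = p ^ k) :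
    ∃ H : Subgroup G, IsMulCommutative H ∧ ¬ p ∣ Nat.card H ∧ ∃ k : ℕ, H.index = p ^ k := by
  classical
  haveI : Fact p.Prime := ⟨hp⟩
  haveI hsol : Group.IsSolvable G := isSolvable_of_regular_classes hp h
  set O := pCore p G with hOdef
  haveI hOn : O.Normal := Cfsg.Agent.H01.pCore_normal p
  have hOp : IsPGroup p O := Cfsg.Agent.H01.pCore_isPGroup p
  haveI hQs : Group.IsSolvable (G ⧸ O) := solvable_of_surjective (QuotientGroup.mk'_surjective O)
  have hO : pCore p (G ⧸ O) = ⊥ := Cfsg.Agent.H22.pCore_quot_eq_bot p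
  have hQ := regular_classes_quotient hp O h
  set F := fittingSubgroup (G ⧸ O) with hFdef
  haveI hFn : F.Normal := Cfsg.Agent.H01.fitting_normal
  haveI hFnil : Group.IsNilpotent F := Cfsg.Agent.H01.fitting_nilpotent
  have hFp : ¬ p ∣ Nat.card F := by
    intro hd
    obtain T : Sylow p F := default
    haveI hTn : (T : Subgroup F).Normal := inferInstance
    haveI hchar : (T : Subgroup F).Characteristic := Sylow.characteristic_of_normal T hTn
    have hTn' : ((T : Subgroup F).map F.subtype).Normal := inferInstance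
    have hTp : IsPGroup p ((T : Subgroup F).map F.subtype) := T.isPGroup'.map _
    have hle := Cfsg.Agent.H01.le_pCore hTn' hTp
    rw [hO, le_bot_iff, Subgroup.map_eq_bot_iff_of_injective _ F.subtype_injective] at hle
    have hcard := T.card_eq_multiplicity
    rw [hle, Subgroup.card_bot] at hcard
    have h1 : 0 < (Nat.card F).factorization p := hp.factorization_pos_of_dvd Nat.card_pos.ne' hd
    have h2 := Nat.one_lt_pow h1.ne' hp.one_lt
    omega
  have hcentr : ∀ y : G ⧸ O, (orderOf y).Coprime p → y ∈ F ∧ ∀ f ∈ F, y * f = f * y := by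
    intro y hy
    obtain ⟨k, hk⟩ := hQ y hy
    have h1 : (Subgroup.centralizer ({y} : Set (G ⧸ O))).relIndex F ∣ p ^ k := by
      rw [← hk]
      exact Cfsg.Agent.H18.relIndex_dvd_index_of_normal_right _ _
    have h2 : (Subgroup.centralizer ({y} : Set (G ⧸ O))).relIndex F ∣ Nat.card F :=
      Subgroup.index_dvd_card _
    have h3 : (Subgroup.centralizer ({y} : Set (G ⧸ O))).relIndex F = 1 := by
      have hc : (p ^ k).Coprime (Nat.card F) :=
        Nat.Coprime.pow_left _ ((Nat.Prime.coprime_iff_not_dvd hp).mpr hFp)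
      exact Nat.Coprime.eq_one_of_dvd (Nat.Coprime.coprime_dvd_left h1 hc) h2
    have h4 : F ≤ Subgroup.centralizer ({y} : Set (G ⧸ O)) := Subgroup.relIndex_eq_one.mp h3
    have h5 : ∀ f ∈ F, y * f = f * y := by
      intro f hf
      have := h4 hf
      rw [Subgroup.mem_centralizer_singleton_iff] at this
      exact this.symm
    refine ⟨?_, h5⟩
    apply Cfsg.Agent.H01.centralizer_fitting_le
    rw [Subgroup.mem_centralizer_iff]
    intro f hf
    exact (h5 f hf).symm
  have hFreg : ∀ a ∈ F, (orderOf a).Coprime p := by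
    intro a ha
    have h1 : orderOf a ∣ Nat.card F := by
      rw [← Subgroup.orderOf_mk a ha]
      exact orderOf_dvd_natCard _
    exact Nat.Coprime.coprime_dvd_left h1 ((Nat.Prime.coprime_iff_not_dvd hp).mpr hFp).symm
  have hQF : IsPGroup p ((G ⧸ O) ⧸ F) := by
    intro z
    obtain ⟨y, rfl⟩ := QuotientGroup.mk_surjective z
    obtain ⟨a, b, hab, -, ⟨k, hk⟩, hb, -, -⟩ := exists_primary_decomp p y
    refine ⟨k, ?_⟩
    have hbF : b ∈ F := (hcentr b hb).1
    have h1 : ((b : G ⧸ O) : (G ⧸ O) ⧸ F) = 1 := (QuotientGroup.eq_one_iff b).mpr hbF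
    rw [hab, QuotientGroup.mk_mul, h1, mul_one, ← QuotientGroup.mk_pow, ← hk, pow_orderOf_eq_one]
    rfl
  obtain ⟨a, ha⟩ := hQF.exists_card_eq
  obtain ⟨b, hb⟩ := hOp.exists_card_eq
  set m := Nat.card F with hm
  have hcard : Nat.card G = m * p ^ (a + b) := by
    have h1 := Subgroup.card_eq_card_quotient_mul_card_subgroup O
    have h2 := Subgroup.card_eq_card_quotient_mul_card_subgroup F
    rw [h1, h2, ha, hb, pow_add]
    ring
  have hcop : m.Coprime (p ^ (a + b)) :=
    Nat.Coprime.pow_right _ ((Nat.Prime.coprime_iff_not_dvd hp).mpr hFp).symm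
  obtain ⟨H, hHc, -⟩ := Cfsg.Agent.H01.hall_containment _ G rfl m (p ^ (a + b)) hcard hcop ⊥ (by simp)
  have hHreg : ∀ x ∈ H, (orderOf x).Coprime p := by
    intro x hx
    have h1 : orderOf x ∣ Nat.card H := by
      rw [← Subgroup.orderOf_mk x hx]
      exact orderOf_dvd_natCard _
    rw [hHc] at h1
    exact Nat.Coprime.coprime_dvd_left h1 ((Nat.Prime.coprime_iff_not_dvd hp).mpr hFp).symm
  have himg : ∀ x ∈ H, ((x : G ⧸ O)) ∈ F := by
    intro x hx
    refine (hcentr _ ?_).1
    exact Nat.Coprime.coprime_dvd_left (orderOf_map_dvd (QuotientGroup.mk' O) x) (hHreg x hx)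
  have hinf : H ⊓ O = ⊥ := by
    refine Subgroup.inf_eq_bot_of_coprime ?_
    rw [hHc, hb]
    exact Nat.Coprime.pow_right _ ((Nat.Prime.coprime_iff_not_dvd hp).mpr hFp).symm
  have hHab : IsMulCommutative H := by
    refine isMulCommutative_of_forall ?_
    intro x hx y hy
    have h1 : ((x * y * (y * x)⁻¹ : G) : G ⧸ O) = 1 := by
      have hxreg := hHreg x hx
      have h2 := (hcentr (x : G ⧸ O)
        (Nat.Coprime.coprime_dvd_left (orderOf_map_dvd (QuotientGroup.mk' O) x) hxreg)).2 _ (himg y hy)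
      rw [QuotientGroup.mk_mul, QuotientGroup.mk_inv, QuotientGroup.mk_mul, QuotientGroup.mk_mul, h2]
      group
    have h3 : x * y * (y * x)⁻¹ ∈ H ⊓ O :=
      ⟨H.mul_mem (H.mul_mem hx hy) (H.inv_mem (H.mul_mem hy hx)), (QuotientGroup.eq_one_iff _).mp h1⟩
    rw [hinf, Subgroup.mem_bot, mul_inv_eq_one] at h3
    exact h3
  refine ⟨H, hHab, ?_, a + b, ?_⟩
  · rw [hHc]
    exact hFp
  · have h1 := H.card_mul_index
    rw [hHc, hcard] at h1
    exact Nat.eq_of_mul_eq_mul_left (Nat.pos_of_ne_zero (by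
      intro h0
      rw [h0] at hcard
      have := Nat.card_pos (α := G)
      omega)) h1

/-- An abelian `p`-complement: regular classes have `p`-power size. -/
theorem regular_classes_of_abelian_complement {p : ℕ} (hp : p.Prime) (H : Subgroup G)
    (hH : IsMulCommutative H) (hHc : ¬ p ∣ Nat.card H) {k : ℕ} (hk : H.index = p ^ k) :
    ∀ x : G, (orderOf x).Coprime p → ∃ k : ℕ, (Subgroup.centralizer ({x} : Set G)).index = p ^ k := by
  classical
  haveI : Fact p.Prime := ⟨hp⟩
  have hHab : ∀ a ∈ H, ∀ b ∈ H, a * b = b * a := fun a ha b hb =>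
    congrArg Subtype.val (hH.is_comm.comm ⟨a, ha⟩ ⟨b, hb⟩)
  obtain ⟨R, hRn, hRs, hR⟩ := exists_max_normal_solvable G
  have hidx : ∀ a ∈ H, ∃ j : ℕ, (Subgroup.centralizer ({a} : Set G)).index = p ^ j := by
    intro a ha
    have h1 : H ≤ Subgroup.centralizer ({a} : Set G) := by
      intro b hb
      rw [Subgroup.mem_centralizer_singleton_iff]
      exact hHab b hb a ha
    have h2 := Subgroup.index_dvd_of_le h1
    rw [hk] at h2
    obtain ⟨j, -, hj⟩ := (Nat.dvd_prime_pow hp).mp h2
    exact ⟨j, hj⟩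
  have hHR : H ≤ R := by
    intro a ha
    obtain ⟨j, hj⟩ := hidx a ha
    exact hR _ Subgroup.normalClosure_normal (kazarin a hp hj) (Subgroup.subset_normalClosure rfl)
  have hq : IsPGroup p (G ⧸ R) := by
    have h1 : R.index ∣ p ^ k := by
      rw [← hk]
      exact Subgroup.index_dvd_of_le hHR
    obtain ⟨j, -, hj⟩ := (Nat.dvd_prime_pow hp).mp h1
    exact IsPGroup.of_card (n := j) (by rw [← Subgroup.index_eq_card]; exact hj)
  haveI hsol : Group.IsSolvable G := isSolvable_of_pGroup_quotient hRs hq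
  intro x hx
  set m := Nat.card H with hm
  have hcard : Nat.card G = m * p ^ k := by
    rw [← hk]
    exact (H.card_mul_index).symm
  have hcop : m.Coprime (p ^ k) :=
    Nat.Coprime.pow_right _ ((Nat.Prime.coprime_iff_not_dvd hp).mpr hHc).symm
  obtain ⟨H₁, hH₁, hxH₁⟩ := Cfsg.Agent.H01.hall_containment _ G rfl m (p ^ k) hcard hcop
    (Subgroup.zpowers x) (by rw [Nat.card_zpowers]; exact Nat.Coprime.pow_right _ hx)
  obtain ⟨g, hg⟩ := Cfsg.Agent.H01.hall_conj _ G rfl m (p ^ k) hcard hcop H H₁ rfl hH₁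
  have hxm : x ∈ MulAut.conj g • H := by
    rw [hg]
    exact hxH₁ (Subgroup.mem_zpowers x)
  rw [mem_conj_smul] at hxm
  have h1 : H₁ ≤ Subgroup.centralizer ({x} : Set G) := by
    intro y hy
    rw [← hg, mem_conj_smul] at hy
    rw [Subgroup.mem_centralizer_singleton_iff]
    have h2 := hHab _ hy _ hxm
    have h3 : g * (g⁻¹ * y * g * (g⁻¹ * x * g)) * g⁻¹ = g * (g⁻¹ * x * g * (g⁻¹ * y * g)) * g⁻¹ := by
      rw [h2]
    simpa [mul_assoc] using h3
  have h2 := Subgroup.index_dvd_of_le h1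
  have h3 : H₁.index = p ^ k := by
    have h4 := H₁.card_mul_index
    rw [hH₁, hcard] at h4
    exact Nat.eq_of_mul_eq_mul_left (Nat.pos_of_ne_zero (by
      intro h0
      rw [h0] at hcard
      have := Nat.card_pos (α := G)
      omega)) h4
  rw [h3] at h2
  obtain ⟨j, -, hj⟩ := (Nat.dvd_prime_pow hp).mp h2
  exact ⟨j, hj⟩

end Cfsg.Agent.H19
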