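import Cfsg.Agent.Lib.H19.Ito

/-! Itô's theorem on groups with two conjugacy class sizes, the counting part (helper19). -/

set_option autoImplicit false
set_option linter.style.haveILetI false

namespace Cfsg.Agent.H19

open Cfsg

/-- The arithmetic core of the partition argument. -/
theorem ito_arith {m z n k D D' : ℕ} (hz : 0 < z) (hzm : z ∣ m) (hm : 0 < m) (hn : 1 < n)
    (hco : D.Coprime D') (hDD : D * D' = m * n) (hG : m * n + k * z = z + k * m)
    (h1 : D ∣ Nat.gcd D z + k * (Nat.gcd D m - Nat.gcd D z))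
    (h2 : D' ∣ Nat.gcd D' z + k * (Nat.gcd D' m - Nat.gcd D' z))
    (hlt1 : Nat.gcd D z < Nat.gcd D m) (hlt2 : Nat.gcd D' z < Nat.gcd D' m) : False := by
  have hmd : m ∣ D * D' := hDD ▸ dvd_mul_right m n
  have hzd : z ∣ D * D' := hzm.trans hmd
  have hαα : Nat.gcd D m * Nat.gcd D' m = m := by
    have h3 := Nat.Coprime.gcd_mul m hco
    rw [Nat.gcd_eq_left hmd] at h3
    rw [Nat.gcd_comm D, Nat.gcd_comm D']
    exact h3.symm
  have hζζ : Nat.gcd D z * Nat.gcd D' z = z := by
    have h3 := Nat.Coprime.gcd_mul z hco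
    rw [Nat.gcd_eq_left hzd] at h3
    rw [Nat.gcd_comm D, Nat.gcd_comm D']
    exact h3.symm
  generalize hα : Nat.gcd D m = α at *
  generalize hα' : Nat.gcd D' m = α' at *
  have hζα : Nat.gcd D z ∣ α := by
    rw [← hα]
    exact Nat.dvd_gcd (Nat.gcd_dvd_left D z) ((Nat.gcd_dvd_right D z).trans hzm)
  have hζα' : Nat.gcd D' z ∣ α' := by
    rw [← hα']
    exact Nat.dvd_gcd (Nat.gcd_dvd_left D' z) ((Nat.gcd_dvd_right D' z).trans hzm)
  have hαD : α ∣ D := hα ▸ Nat.gcd_dvd_left D m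
  have hαD' : α' ∣ D' := hα' ▸ Nat.gcd_dvd_left D' m
  generalize hζ : Nat.gcd D z = ζ at *
  generalize hζ' : Nat.gcd D' z = ζ' at *
  obtain ⟨a, rfl⟩ := hζα
  obtain ⟨b, rfl⟩ := hζα'
  obtain ⟨n₁, rfl⟩ := hαD
  obtain ⟨n₂, rfl⟩ := hαD'
  have hζ0 : 0 < ζ := by
    rcases Nat.eq_zero_or_pos ζ with h | h
    · rw [h, zero_mul] at hζζ
      omega
    · exact h
  have hζ'0 : 0 < ζ' := by
    rcases Nat.eq_zero_or_pos ζ' with h | h
    · rw [h, mul_zero] at hζζ
      omega
    · exact h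
  have ha2 : 2 ≤ a := by
    by_contra h
    have : a ≤ 1 := by omega
    have h3 : ζ * a ≤ ζ * 1 := Nat.mul_le_mul_left _ this
    omega
  have hb2 : 2 ≤ b := by
    by_contra h
    have : b ≤ 1 := by omega
    have h3 : ζ' * b ≤ ζ' * 1 := Nat.mul_le_mul_left _ this
    omega
  obtain ⟨s, rfl⟩ : ∃ s, a = s + 1 := ⟨a - 1, by omega⟩
  obtain ⟨u, rfl⟩ : ∃ u, b = u + 1 := ⟨b - 1, by omega⟩
  have hs : 0 < s := by omega
  have hu : 0 < u := by omega
  have hmz : m = z * ((s + 1) * (u + 1)) := by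
    rw [← hαα, ← hζζ]
    ring
  have hnn : n = n₁ * n₂ := by
    have h3 : m * (n₁ * n₂) = m * n := by
      rw [← hDD, ← hαα]
      ring
    exact (Nat.eq_of_mul_eq_mul_left hm h3).symm
  -- the reduced relation
  set w := s * u + s + u with hw
  have hw1 : (s + 1) * (u + 1) = w + 1 := by rw [hw]; ring
  have hG' : (w + 1) * n = 1 + k * w := by
    rw [hmz, hw1] at hG
    have h3 : z * ((w + 1) * n + k) = z * (1 + k * (w + 1)) := by
      calc z * ((w + 1) * n + k) = z * (w + 1) * n + k * z := by ring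
        _ = z + k * (z * (w + 1)) := hG
        _ = z * (1 + k * (w + 1)) := by ring
    have h4 := Nat.eq_of_mul_eq_mul_left hz h3
    have h5 : (w + 1) * n + k = 1 + k * w + k := by
      rw [h4]
      ring
    omega
  have hζsub : ζ * (s + 1) - ζ = ζ * s := by
    rw [mul_add, mul_one]
    omega
  have hζ'sub : ζ' * (u + 1) - ζ' = ζ' * u := by
    rw [mul_add, mul_one]
    omega
  rw [hζsub] at h1
  rw [hζ'sub] at h2
  have h1' : (s + 1) * n₁ ∣ 1 + k * s := by
    have h3 : ζ * ((s + 1) * n₁) ∣ ζ * (1 + k * s) := by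
      calc ζ * ((s + 1) * n₁) = ζ * (s + 1) * n₁ := by ring
        _ ∣ ζ + k * (ζ * s) := h1
        _ = ζ * (1 + k * s) := by ring
    exact Nat.dvd_of_mul_dvd_mul_left hζ0 h3
  have h2' : (u + 1) * n₂ ∣ 1 + k * u := by
    have h3 : ζ' * ((u + 1) * n₂) ∣ ζ' * (1 + k * u) := by
      calc ζ' * ((u + 1) * n₂) = ζ' * (u + 1) * n₂ := by ring
        _ ∣ ζ' + k * (ζ' * u) := h2
        _ = ζ' * (1 + k * u) := by ring
    exact Nat.dvd_of_mul_dvd_mul_left hζ'0 h3
  -- the key identities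
  have key1 : w * (1 + k * s) = (s + 1) * (u + s * (u + 1) * n) := by
    have h3 : w * (1 + k * s) + s = (s + 1) * (u + s * (u + 1) * n) + s := by
      calc w * (1 + k * s) + s = w + s * (1 + k * w) := by ring
        _ = w + s * ((w + 1) * n) := by rw [hG']
        _ = (s + 1) * (u + s * (u + 1) * n) + s := by rw [← hw1]; rw [hw]; ring
    omega
  have key2 : w * (1 + k * u) = (u + 1) * (s + u * (s + 1) * n) := by
    have h3 : w * (1 + k * u) + u = (u + 1) * (s + u * (s + 1) * n) + u := by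
      calc w * (1 + k * u) + u = w + u * (1 + k * w) := by ring
        _ = w + u * ((w + 1) * n) := by rw [hG']
        _ = (u + 1) * (s + u * (s + 1) * n) + u := by rw [← hw1]; rw [hw]; ring
    omega
  have hn₁n : n₁ ∣ n := hnn ▸ dvd_mul_right n₁ n₂
  have hn₂n : n₂ ∣ n := hnn ▸ dvd_mul_left n₂ n₁
  have hn₁u : n₁ ∣ u := by
    have h3 : (s + 1) * n₁ ∣ (s + 1) * (u + s * (u + 1) * n) := by
      rw [← key1]
      exact h1'.trans (dvd_mul_left _ _)
    have h4 := Nat.dvd_of_mul_dvd_mul_left (by omega) h3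
    exact (Nat.dvd_add_left (hn₁n.trans (dvd_mul_left _ _))).mp h4
  have hn₂s : n₂ ∣ s := by
    have h3 : (u + 1) * n₂ ∣ (u + 1) * (s + u * (s + 1) * n) := by
      rw [← key2]
      exact h2'.trans (dvd_mul_left _ _)
    have h4 := Nat.dvd_of_mul_dvd_mul_left (by omega) h3
    exact (Nat.dvd_add_left (hn₂n.trans (dvd_mul_left _ _))).mp h4
  have hle1 := Nat.le_of_dvd hu hn₁u
  have hle2 := Nat.le_of_dvd hs hn₂s
  have hnle : n ≤ u * s := by
    rw [hnn]
    exact Nat.mul_le_mul hle1 hle2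
  have hwn : w ∣ n - 1 := by
    have h3 : w * n + (n - 1) = k * w := by
      have h4 : (w + 1) * n = w * n + n := by ring
      omega
    have h4 : w ∣ w * n + (n - 1) := by
      rw [h3]
      exact dvd_mul_left _ _
    exact (Nat.dvd_add_right (dvd_mul_right w n)).mp h4
  have hwle := Nat.le_of_dvd (by omega) hwn
  have : u * s ≤ w := by
    rw [hw]
    nlinarith
  omega

variable {G : Type*} [Group G] [Finite G]

/-- The number of solutions of `x ^ D = 1` in an abelian subgroup. -/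
theorem count_abelian (A : Subgroup G) (hab : ∀ a ∈ A, ∀ b ∈ A, a * b = b * a) {D D' : ℕ}
    (hco : D.Coprime D') (hdvd : Nat.card A ∣ D * D') :
    Nat.card {g : G // g ∈ A ∧ g ^ D = 1} = Nat.gcd D (Nat.card A) := by
  classical
  let B : Subgroup G :=
    { carrier := {g | g ∈ A ∧ g ^ D = 1}
      mul_mem' := by
        rintro a b ⟨ha, ha'⟩ ⟨hb, hb'⟩
        refine ⟨A.mul_mem ha hb, ?_⟩
        have hc : Commute a b := hab a ha b hb
        rw [hc.mul_pow, ha', hb', one_mul]
      one_mem' := ⟨A.one_mem, one_pow D⟩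
      inv_mem' := by
        rintro a ⟨ha, ha'⟩
        exact ⟨A.inv_mem ha, by rw [inv_pow, ha', inv_one]⟩ }
  have hB : Nat.card {g : G // g ∈ A ∧ g ^ D = 1} = Nat.card B := rfl
  have hBA : B ≤ A := fun g hg => hg.1
  have hb0 : (Nat.card B).Coprime D' := by
    by_contra hne
    obtain ⟨q, hq, hq1, hq2⟩ := Nat.Prime.not_coprime_iff_dvd.mp hne
    haveI : Fact q.Prime := ⟨hq⟩
    obtain ⟨y, hy⟩ := exists_prime_orderOf_dvd_card' q hq1
    have h1 : orderOf (y : G) ∣ D := orderOf_dvd_of_pow_eq_one y.2.2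
    rw [Subgroup.orderOf_coe, hy] at h1
    have h2 := Nat.dvd_gcd h1 hq2
    rw [hco] at h2
    exact hq.ne_one (Nat.dvd_one.mp h2)
  have hb1 : Nat.card B ∣ Nat.gcd D (Nat.card A) := by
    apply Nat.dvd_gcd
    · exact hb0.dvd_of_dvd_mul_right ((Subgroup.card_dvd_of_le hBA).trans hdvd)
    · exact Subgroup.card_dvd_of_le hBA
  have hb2 : Nat.gcd D (Nat.card A) ∣ Nat.card B := by
    have h1 := dvd_sol (G := A) (m := Nat.gcd D (Nat.card A)) (Nat.gcd_dvd_right _ _)
    have h2 : sol A (Nat.gcd D (Nat.card A)) = Nat.card B := by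
      unfold sol
      apply Nat.card_congr
      refine ⟨fun u => ⟨u.1.1, u.1.2, ?_⟩, fun g => ⟨⟨g.1, g.2.1⟩, ?_⟩, ?_, ?_⟩
      · obtain ⟨c, hc⟩ := Nat.gcd_dvd_left D (Nat.card A)
        have h3 : ((u.1 : A) : G) ^ Nat.gcd D (Nat.card A) = 1 := by
          have := congrArg Subtype.val u.2
          simpa using this
        have h4 : ((u.1 : A) : G) ^ D = (((u.1 : A) : G) ^ Nat.gcd D (Nat.card A)) ^ c := by
          rw [← pow_mul, ← hc]
        rw [h4, h3, one_pow]
      · apply Subtype.ext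
        have h3 : ((g.1 : G)) ^ Nat.gcd D (Nat.card A) = 1 :=
          pow_gcd_eq_one.mpr ⟨g.2.2,
            orderOf_dvd_iff_pow_eq_one.mp (Subgroup.orderOf_dvd_natCard A g.2.1)⟩
        simpa using h3
      · intro u
        rfl
      · intro g
        rfl
    rwa [h2] at h1
  rw [hB]
  exact Nat.dvd_antisymm hb1 hb2

theorem card_filter_eq {X : Type*} [Fintype X] (P : X → Prop) [DecidablePred P] :
    (Finset.univ.filter P).card = Nat.card {g // P g} := by
  rw [Nat.card_eq_fintype_card, Fintype.card_subtype]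

theorem card_split {X : Type*} [Fintype X] (P R : X → Prop) [DecidablePred P] [DecidablePred R] :
    (Finset.univ.filter P).card = (Finset.univ.filter (fun x => R x ∧ P x)).card +
      (Finset.univ.filter (fun x => ¬ R x ∧ P x)).card := by
  classical
  rw [← Finset.card_union_of_disjoint]
  · congr 1
    ext x
    simp only [Finset.mem_filter, Finset.mem_univ, true_and, Finset.mem_union]
    tauto
  · rw [Finset.disjoint_left]
    intro x h1 h2
    simp only [Finset.mem_filter, Finset.mem_univ, true_and] at h1 h2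
    exact h2.1 h1.1

/-- The partition argument. -/
theorem partition_contra {n : ℕ} (hn : 1 < n)
    (hnc : ∀ x : G, x ∉ Subgroup.center G → (cz x).index = n)
    (hab : ∀ x : G, x ∉ Subgroup.center G → ∀ a ∈ cz x, ∀ b ∈ cz x, a * b = b * a)
    {D D' : ℕ} (hco : D.Coprime D') (hDD : D * D' = Nat.card G)
    {x a a' : G} (hx : x ∉ Subgroup.center G) (ha : a ∈ cz x) (ha1 : a ∉ Subgroup.center G)
    (haD : a ^ D = 1) (ha' : a' ∈ cz x) (ha'1 : a' ∉ Subgroup.center G) (ha'D : a' ^ D' = 1) : False := by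
  classical
  haveI := Fintype.ofFinite G
  set Z := Subgroup.center G with hZ
  let NC : Finset G := Finset.univ.filter (· ∉ Z)
  let Comp : Finset (Subgroup G) := NC.image cz
  set k := Comp.card with hk
  have hZcz : ∀ g : G, Z ≤ cz g := by
    intro g z hz
    rw [mem_cz]
    exact (Subgroup.mem_center_iff.mp hz g).symm
  have hCompdesc : ∀ A ∈ Comp, ∃ g₀ : G, g₀ ∉ Z ∧ A = cz g₀ := by
    intro A hA
    obtain ⟨g₀, hg₀, rfl⟩ := Finset.mem_image.mp hA
    exact ⟨g₀, (Finset.mem_filter.mp hg₀).2, rfl⟩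
  -- the fibres
  have hfib' : ∀ (Q : G → Prop), (Finset.univ.filter (fun g => ¬ g ∈ Z ∧ Q g)).card =
      ∑ A ∈ Comp, (Finset.univ.filter (fun g => g ∈ A ∧ g ∉ Z ∧ Q g)).card := by
    intro Q
    rw [Finset.card_eq_sum_card_fiberwise (f := cz) (t := Comp) (by
      intro g hg
      have hg' := (Finset.mem_filter.mp hg).2
      exact Finset.mem_coe.mpr (Finset.mem_image_of_mem cz (Finset.mem_filter.mpr ⟨Finset.mem_univ g, hg'.1⟩)))]
    apply Finset.sum_congr rfl
    intro A hA
    obtain ⟨g₀, hg₀, rfl⟩ := hCompdesc A hA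
    congr 1
    ext g
    simp only [Finset.mem_filter, Finset.mem_univ, true_and]
    constructor
    · rintro ⟨⟨h1, h2⟩, h3⟩
      refine ⟨?_, h1, h2⟩
      rw [← h3, mem_cz]
    · rintro ⟨h1, h2, h3⟩
      refine ⟨⟨h2, h3⟩, ?_⟩
      symm
      apply eq_of_le_of_index_eq
      · intro c hc
        rw [mem_cz]
        exact hab g₀ hg₀ c hc g h1
      · rw [hnc g₀ hg₀, hnc g h2]
  have hcount : ∀ (Q : G → Prop) (c c₀ : ℕ),
      (Finset.univ.filter (fun g => g ∈ Z ∧ Q g)).card = c₀ →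
      (∀ A ∈ Comp, (Finset.univ.filter (fun g => g ∈ A ∧ Q g)).card = c) →
      (Finset.univ.filter Q).card = c₀ + k * (c - c₀) := by
    intro Q c c₀ h0 hc
    have hsplit : ∀ A ∈ Comp, (Finset.univ.filter (fun g => g ∈ A ∧ g ∉ Z ∧ Q g)).card = c - c₀ := by
      intro A hA
      obtain ⟨g₀, hg₀, rfl⟩ := hCompdesc A hA
      have h1 := card_split (fun g => g ∈ cz g₀ ∧ Q g) (fun g => g ∈ Z)
      have h2 : (Finset.univ.filter (fun g => g ∈ Z ∧ g ∈ cz g₀ ∧ Q g)) =
          Finset.univ.filter (fun g => g ∈ Z ∧ Q g) := by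
        ext g
        simp only [Finset.mem_filter, Finset.mem_univ, true_and]
        exact ⟨fun h => ⟨h.1, h.2.2⟩, fun h => ⟨h.1, hZcz g₀ h.1, h.2⟩⟩
      have h3 : (Finset.univ.filter (fun g => ¬ g ∈ Z ∧ g ∈ cz g₀ ∧ Q g)) =
          Finset.univ.filter (fun g => g ∈ cz g₀ ∧ g ∉ Z ∧ Q g) := by
        ext g
        simp only [Finset.mem_filter, Finset.mem_univ, true_and]
        tauto
      rw [h2, h3, h0, hc _ hA] at h1
      omega
    have h2 := card_split Q (fun g => g ∈ Z)
    rw [h0, hfib' Q, Finset.sum_congr rfl hsplit, Finset.sum_const, smul_eq_mul] at h2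
    exact h2
  set m := Nat.card (cz x) with hm
  set z := Nat.card Z with hz
  have hmn : m * n = Nat.card G := by
    rw [hm, ← hnc x hx]
    exact (cz x).card_mul_index
  have hcards : ∀ A ∈ Comp, Nat.card A = m := by
    intro A hA
    obtain ⟨g₀, hg₀, rfl⟩ := hCompdesc A hA
    have h1 := (cz g₀).card_mul_index
    rw [hnc g₀ hg₀, ← hmn] at h1
    have hn0 : 0 < n := by omega
    exact Nat.eq_of_mul_eq_mul_right hn0 h1
  have hZab : ∀ a ∈ Z, ∀ b ∈ Z, a * b = b * a := by
    intro a _ b hb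
    exact (Subgroup.mem_center_iff.mp hb a)
  have hdvdG : Nat.card G ∣ D * D' := by rw [hDD]
  have hm0 : 0 < m := Nat.card_pos
  have hz0 : 0 < z := Nat.card_pos
  have hzm : z ∣ m := Subgroup.card_dvd_of_le (hZcz x)
  have hmdvd : m ∣ D * D' := by
    rw [hDD, ← hmn]
    exact dvd_mul_right m n
  have hzdvd : z ∣ D * D' := hzm.trans hmdvd
  have hco' : D'.Coprime D := hco.symm
  have hdvd' : D * D' = D' * D := mul_comm _ _
  -- total count
  have hG₀ : Nat.card G = z + k * (m - z) := by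
    have h1 := hcount (fun _ => True) m z (by
      rw [card_filter_eq]
      apply Nat.card_congr
      exact Equiv.subtypeEquivRight (fun g => by simp)) (by
      intro A hA
      rw [card_filter_eq, ← hcards A hA]
      apply Nat.card_congr
      exact Equiv.subtypeEquivRight (fun g => by simp))
    rw [card_filter_eq] at h1
    rw [← h1]
    apply Nat.card_congr
    exact (Equiv.subtypeUnivEquiv (fun g => trivial)).symm
  have hcomp_ab : ∀ A ∈ Comp, ∀ a ∈ A, ∀ b ∈ A, a * b = b * a := by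
    intro A hA
    obtain ⟨g₀, hg₀, rfl⟩ := hCompdesc A hA
    exact hab g₀ hg₀
  have hsolD : sol G D = Nat.gcd D z + k * (Nat.gcd D m - Nat.gcd D z) := by
    have h1 := hcount (fun g => g ^ D = 1) (Nat.gcd D m) (Nat.gcd D z) (by
      rw [card_filter_eq]
      exact count_abelian Z hZab hco hzdvd) (by
      intro A hA
      rw [card_filter_eq, ← hcards A hA]
      exact count_abelian A (hcomp_ab A hA) hco (by rw [hcards A hA]; exact hmdvd))
    rw [card_filter_eq] at h1
    exact h1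
  have hsolD' : sol G D' = Nat.gcd D' z + k * (Nat.gcd D' m - Nat.gcd D' z) := by
    have h1 := hcount (fun g => g ^ D' = 1) (Nat.gcd D' m) (Nat.gcd D' z) (by
      rw [card_filter_eq]
      exact count_abelian Z hZab hco' (by rw [← hdvd']; exact hzdvd)) (by
      intro A hA
      rw [card_filter_eq, ← hcards A hA]
      exact count_abelian A (hcomp_ab A hA) hco' (by rw [hcards A hA, ← hdvd']; exact hmdvd))
    rw [card_filter_eq] at h1
    exact h1
  have hF1 : D ∣ sol G D := dvd_sol (hDD ▸ dvd_mul_right D D')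
  have hF2 : D' ∣ sol G D' := dvd_sol (hDD ▸ dvd_mul_left D' D)
  rw [hsolD] at hF1
  rw [hsolD'] at hF2
  have hlt : ∀ (E E' : ℕ), E.Coprime E' → E * E' = Nat.card G → ∀ a : G, a ∈ cz x → a ∉ Z → a ^ E = 1 →
      Nat.gcd E z < Nat.gcd E m := by
    intro E E' hE hEE a ha ha1 haE
    have hdz : z ∣ E * E' := by rw [hEE, ← hmn]; exact hzm.trans (dvd_mul_right m n)
    have hdm : m ∣ E * E' := by rw [hEE, ← hmn]; exact dvd_mul_right m n
    rw [← count_abelian Z hZab hE hdz, ← count_abelian (cz x) (hab x hx) hE hdm, ← card_filter_eq, ← card_filter_eq]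
    apply Finset.card_lt_card
    rw [Finset.ssubset_iff_of_subset]
    · refine ⟨a, ?_, ?_⟩
      · simp only [Finset.mem_filter, Finset.mem_univ, true_and]
        exact ⟨ha, haE⟩
      · simp only [Finset.mem_filter, Finset.mem_univ, true_and]
        exact fun h => ha1 h.1
    · intro g
      simp only [Finset.mem_filter, Finset.mem_univ, true_and]
      exact fun h => ⟨hZcz x h.1, h.2⟩
  have hlt1 := hlt D D' hco hDD a ha ha1 haD
  have hlt2 := hlt D' D hco' (by rw [mul_comm]; exact hDD) a' ha' ha'1 ha'D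
  have hGz : m * n + k * z = z + k * m := by
    rw [hmn, hG₀]
    have hzle : z ≤ m := Nat.le_of_dvd hm0 hzm
    obtain ⟨e, he⟩ := Nat.exists_eq_add_of_le hzle
    rw [he]
    simp only [add_tsub_cancel_left]
    ring
  exact ito_arith hz0 hzm hm0 hn hco (by rw [hDD, hmn]) hGz hF1 hF2 hlt1 hlt2

end Cfsg.Agent.H19
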