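import Cfsg.Agent.Lib.H19.Sp1

/-! Groups with cyclic Sylow `p`-subgroups and abelian `p'`-subgroups: reduction steps (helper19). -/

set_option autoImplicit false
set_option linter.style.haveILetI false

namespace Cfsg.Agent.H19.Sp

open Subgroup
open scoped Pointwise

universe u

variable {G : Type u} [Group G] {p : ℕ}

theorem card_sup_dvd [Finite G] {X Y : Subgroup G} (hYX : Y ≤ normalizer (X : Set G)) :
    Nat.card (X ⊔ Y : Subgroup G) ∣ Nat.card X * Nat.card Y := by
  have hset : ((X ⊔ Y : Subgroup G) : Set G) = (X : Set G) * (Y : Set G) := by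
    ext z
    constructor
    · intro hz
      obtain ⟨x, hx, y, hy, rfl⟩ := H01.exists_mul_of_mem_sup hYX hz
      exact Set.mul_mem_mul hx hy
    · rintro ⟨x, hx, y, hy, rfl⟩
      exact mul_mem (mem_sup_left hx) (mem_sup_right hy)
  have h1 : Nat.card (X ⊔ Y : Subgroup G) = Nat.card ((X : Set G) * (Y : Set G) : Set G) :=
    Nat.card_congr (Equiv.setCongr hset)
  rw [h1]
  exact Dvd.intro _ (H18.card_set_mul_mul_card_inf X Y)

theorem Hyp.comm_of_normalizes [Finite G] [Fact p.Prime] (h : Hyp p G) {X Y : Subgroup G}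
    (hX : ¬ p ∣ Nat.card X) (hY : ¬ p ∣ Nat.card Y) (hYX : Y ≤ normalizer (X : Set G)) :
    ∀ x ∈ X, ∀ y ∈ Y, x * y = y * x := by
  intro x hx y hy
  apply h.2 (X ⊔ Y) _ x (mem_sup_left hx) y (mem_sup_right hy)
  intro hd
  rcases (Fact.out : p.Prime).dvd_mul.1 (hd.trans (card_sup_dvd hYX)) with h1 | h1
  · exact hX h1
  · exact hY h1

theorem mem_of_pow_mem {Γ : Type*} [Group Γ] [Finite Γ] {K : Subgroup Γ} {z : Γ} {I : ℕ}
    (h : z ^ I ∈ K) (hc : I.Coprime (orderOf z)) : z ∈ K := by
  obtain ⟨m, hm⟩ := exists_pow_eq_self_of_coprime hc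
  rw [← hm]
  exact K.pow_mem h m

theorem normal_of_normal_hall [Finite G] {M T : Subgroup G} (hM : M.Normal) (hTM : T ≤ M)
    (hT : M ≤ normalizer (T : Set G)) (hcop : (Nat.card T).Coprime (T.relIndex M)) : T.Normal := by
  constructor
  intro n hn g
  have hz : g * n * g⁻¹ ∈ M := hM.conj_mem n (hTM hn) g
  haveI hT' : (T.subgroupOf M).Normal := (normal_subgroupOf_iff_le_normalizer hTM).mpr hT
  have h1 : ((⟨g * n * g⁻¹, hz⟩ : M) ^ (T.subgroupOf M).index) ∈ T.subgroupOf M :=
    Subgroup.pow_index_mem _ _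
  have h2 : (⟨g * n * g⁻¹, hz⟩ : M) ^ Nat.card T = 1 := by
    apply Subtype.ext
    show (g * n * g⁻¹) ^ Nat.card T = 1
    rw [conj_pow]
    have h5 : (⟨n, hn⟩ : T) ^ Nat.card T = 1 := pow_card_eq_one'
    have h6 : n ^ Nat.card T = 1 := congrArg Subtype.val h5
    rw [h6]; simp
  have h3 : (T.subgroupOf M).index.Coprime (orderOf (⟨g * n * g⁻¹, hz⟩ : M)) :=
    (Nat.Coprime.coprime_dvd_left (orderOf_dvd_of_pow_eq_one h2) hcop).symm
  have h4 := mem_of_pow_mem h1 h3
  exact Subgroup.mem_subgroupOf.1 h4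

theorem conc_of_burnside [Finite G] [Fact p.Prime] (P : Sylow p G)
    (hP : normalizer ((P : Subgroup G) : Set G) ≤ centralizer ((P : Subgroup G) : Set G)) :
    Conc p G := by
  left
  have hc := MonoidHom.ker_transferSylow_isComplement' P hP
  refine ⟨(MonoidHom.transferSylow P hP).ker, inferInstance, ?_, ?_⟩
  · rw [← hc.index_eq_card]
    exact P.not_dvd_index
  · rw [hc.symm.index_eq_card]
    exact IsPGroup.iff_card.1 P.2

theorem sylow_eq_of_normal [Finite G] [Fact p.Prime] (A B : Sylow p G) (hA : (A : Subgroup G).Normal) :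
    A = B := by
  obtain ⟨g, rfl⟩ := MulAction.exists_smul_eq G A B
  exact Sylow.smul_eq_of_normal.symm

/-- A `p`-element normalizing a Sylow subgroup lies in it. -/
theorem mem_sylow_of_normalizer [Finite G] [Fact p.Prime] (P : Sylow p G) {a : G} {k : ℕ}
    (ha : orderOf a = p ^ k) (haN : a ∈ normalizer ((P : Subgroup G) : Set G)) :
    a ∈ (P : Subgroup G) := by
  have h1 : IsPGroup p (zpowers a) := isPGroup_zpowers_of_orderOf ha
  have h2 : zpowers a ≤ normalizer ((P : Subgroup G) : Set G) := by
    rw [Subgroup.zpowers_le]; exact haN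
  have h3 : IsPGroup p ((zpowers a) ⊔ (P : Subgroup G) : Subgroup G) :=
    h1.to_sup_of_normal_right' P.2 h2
  have h4 := P.is_maximal' h3 le_sup_right
  rw [← h4]
  exact mem_sup_left (mem_zpowers a)

/-- A non-central action gives a `p'`-element. -/
theorem exists_pprime_of_not_le [Finite G] [Fact p.Prime] (P : Sylow p G) (hc : IsCyclic P)
    (hP : ¬ normalizer ((P : Subgroup G) : Set G) ≤ centralizer ((P : Subgroup G) : Set G)) :
    ∃ t ∈ normalizer ((P : Subgroup G) : Set G), ¬ p ∣ orderOf t ∧ ∃ x : G,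
      zpowers x = (P : Subgroup G) ∧ t * x * t⁻¹ ≠ x := by
  have hcomm : ∀ a ∈ (P : Subgroup G), ∀ b ∈ (P : Subgroup G), a * b = b * a := by
    intro a ha b hb
    have : (⟨a, ha⟩ * ⟨b, hb⟩ : (P : Subgroup G)) = ⟨b, hb⟩ * ⟨a, ha⟩ :=
      (IsCyclic.commGroup (α := (P : Subgroup G))).mul_comm _ _
    exact congrArg Subtype.val this
  obtain ⟨n, hn, hn2⟩ := SetLike.not_le_iff_exists.1 hP
  obtain ⟨a, b, hab, hcm, ⟨k, hk⟩, hb, ha', hb'⟩ := exists_primary_decomp p n
  have hzn : zpowers n ≤ normalizer ((P : Subgroup G) : Set G) := by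
    rw [Subgroup.zpowers_le]; exact hn
  have haP := mem_sylow_of_normalizer P hk (hzn ha')
  have hbnc : b ∉ centralizer ((P : Subgroup G) : Set G) := by
    intro hb2
    apply hn2
    rw [hab]
    apply mul_mem _ hb2
    rw [Subgroup.mem_centralizer_iff]
    intro y hy
    exact hcomm y hy a haP
  obtain ⟨⟨x, hxP⟩, hx⟩ := IsCyclic.exists_generator (α := (P : Subgroup G))
  have hzx : zpowers x = (P : Subgroup G) := by
    apply le_antisymm
    · rw [Subgroup.zpowers_le]; exact hxP
    · intro y hy
      obtain ⟨i, hi⟩ := hx ⟨y, hy⟩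
      exact ⟨i, congrArg Subtype.val hi⟩
  refine ⟨b, hzn hb', ?_, x, hzx, ?_⟩
  · intro hd
    exact (Nat.Prime.coprime_iff_not_dvd Fact.out).1 hb.symm hd
  · intro hne
    apply hbnc
    have h1 : b ∈ centralizer ((zpowers x : Subgroup G) : Set G) := by
      rw [Subgroup.mem_centralizer_iff]
      intro y hy
      obtain ⟨i, rfl⟩ := hy
      have : Commute b x := by
        show b * x = x * b
        rw [mul_inv_eq_iff_eq_mul] at hne
        exact hne
      exact (this.zpow_right i).eq.symm
    rwa [hzx] at h1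

/-- Reduction modulo a normal `p'`-subgroup. -/
theorem step1 [Finite G] [Fact p.Prime] (h : Hyp p G) (V : Subgroup G) [hVn : V.Normal]
    (hV : ¬ p ∣ Nat.card V) (IH : Conc p (G ⧸ V)) : Conc p G := by
  have hs : Function.Surjective (QuotientGroup.mk' V) := QuotientGroup.mk'_surjective V
  have hcard : ∀ K : Subgroup (G ⧸ V), Nat.card (K.comap (QuotientGroup.mk' V)) =
      Nat.card V * Nat.card K := by
    intro K
    rw [card_comap_eq _ hs, QuotientGroup.ker_mk']
  rcases IH with ⟨K, hKn, hK, n, hn⟩ | ⟨S, hSn, hS, hSi⟩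
  · left
    refine ⟨K.comap (QuotientGroup.mk' V), hKn.comap _, ?_, n, ?_⟩
    · rw [hcard]
      intro hd
      rcases (Fact.out : p.Prime).dvd_mul.1 hd with h1 | h1
      · exact hV h1
      · exact hK h1
    · rw [Subgroup.index_comap_of_surjective K hs]; exact hn
  · obtain ⟨P⟩ : Nonempty (Sylow p G) := Sylow.nonempty
    have hPc : IsCyclic P := h.1 P P.2
    have hPS : (P : Subgroup G).map (QuotientGroup.mk' V) = S := by
      have h1 := sylow_eq_of_normal (hS.toSylow hSi) (P.mapSurjective hs) hSn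
      have h2 := congrArg (fun X : Sylow p (G ⧸ V) => (X : Subgroup (G ⧸ V))) h1
      simp only [Sylow.coe_mapSurjective] at h2
      exact h2.symm
    let U := S.comap (QuotientGroup.mk' V)
    have hUn : U.Normal := hSn.comap _
    have hPU : (P : Subgroup G) ≤ U := by
      intro x hx
      show (QuotientGroup.mk' V) x ∈ S
      rw [← hPS]
      exact mem_map_of_mem _ hx
    have hUsup : U ≤ (P : Subgroup G) ⊔ V := by
      intro u hu
      have h1 : (QuotientGroup.mk' V) u ∈ (P : Subgroup G).map (QuotientGroup.mk' V) := by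
        rw [hPS]; exact hu
      obtain ⟨x, hx, hxu⟩ := h1
      have h2 : x⁻¹ * u ∈ V := by
        rw [← QuotientGroup.ker_mk' V, MonoidHom.mem_ker, map_mul, map_inv, hxu]
        simp
      have h3 : u = x * (x⁻¹ * u) := by group
      rw [h3]
      exact mul_mem_sup hx h2
    by_cases hcent : normalizer ((P : Subgroup G) : Set G) ≤ centralizer ((P : Subgroup G) : Set G)
    · exact conc_of_burnside P hcent
    · obtain ⟨t, htN, hto, x, hzx, hne⟩ := exists_pprime_of_not_le P hPc hcent
      have hxP : x ∈ (P : Subgroup G) := by rw [← hzx]; exact mem_zpowers x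
      obtain ⟨e, he⟩ := orderOf_of_mem_isPGroup P.2 hxP
      have htx : t * x * t⁻¹ ∈ zpowers x := by
        rw [hzx]
        exact (Subgroup.mem_normalizer_iff.1 htN x).1 hxP
      obtain ⟨k, hk⟩ : ∃ k : ℕ, t * x * t⁻¹ = x ^ k := by
        rw [← mem_powers_iff_mem_zpowers] at htx
        obtain ⟨k, hk⟩ := htx
        exact ⟨k, hk.symm⟩
      have hxy := mem_zpowers_commutator hk (pow_orderOf_eq_one t) hto he hne
      have htV : ∀ v ∈ V, t * v = v * t := by
        intro v hv
        have h1 : zpowers t ≤ normalizer (V : Set G) := by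
          rw [Subgroup.normalizer_eq_top V]; exact le_top
        have h2 := h.comm_of_normalizes hV (by rwa [Nat.card_zpowers]) h1 v hv t (mem_zpowers t)
        exact h2.symm
      have hyV : t * x * t⁻¹ * x⁻¹ ∈ centralizer (V : Set G) := by
        rw [Subgroup.mem_centralizer_iff]
        intro v hv
        have h1 : x⁻¹ * v * x ∈ V := by
          have := hVn.conj_mem v hv x⁻¹
          simpa using this
        have h2 : t * (x⁻¹ * v * x) = (x⁻¹ * v * x) * t := htV _ h1
        have h3 : t * v = v * t := htV v hv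
        have h2' : t⁻¹ * (x⁻¹ * v * x) = (x⁻¹ * v * x) * t⁻¹ :=
          (show Commute t (x⁻¹ * v * x) from h2).inv_left.eq
        calc v * (t * x * t⁻¹ * x⁻¹) = (t * v) * x * t⁻¹ * x⁻¹ := by rw [h3]; group
          _ = t * x * ((x⁻¹ * v * x) * t⁻¹) * x⁻¹ := by group
          _ = t * x * (t⁻¹ * (x⁻¹ * v * x)) * x⁻¹ := by rw [h2']
          _ = t * x * t⁻¹ * x⁻¹ * v := by group
      have hxV : (P : Subgroup G) ≤ centralizer (V : Set G) := by
        rw [← hzx, Subgroup.zpowers_le]
        exact (zpowers_le.2 hyV) hxy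
      have hVP : V ≤ normalizer ((P : Subgroup G) : Set G) :=
        (Subgroup.le_centralizer_iff.1 hxV).trans (Subgroup.centralizer_le_normalizer _)
      have hUN : U ≤ normalizer ((P : Subgroup G) : Set G) :=
        hUsup.trans (sup_le Subgroup.le_normalizer hVP)
      have hcop : (Nat.card (P : Subgroup G)).Coprime ((P : Subgroup G).relIndex U) := by
        obtain ⟨a, ha⟩ := IsPGroup.iff_card.1 P.2
        rw [ha]
        apply Nat.Coprime.pow_left
        rw [Nat.Prime.coprime_iff_not_dvd Fact.out]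
        intro hd
        apply P.not_dvd_index
        rw [← Subgroup.relIndex_mul_index hPU]
        exact hd.mul_right _
      have hPn := normal_of_normal_hall hUn hPU hUN hcop
      exact Or.inr ⟨P, hPn, P.2, P.not_dvd_index⟩

/-- Two subgroups generating a cyclic `p`-group are comparable. -/
theorem le_or_le_of_cyclic [Finite G] [Fact p.Prime] {X Y : Subgroup G}
    (hc : IsCyclic (X ⊔ Y : Subgroup G)) (hp : IsPGroup p (X ⊔ Y : Subgroup G)) : X ≤ Y ∨ Y ≤ X := by
  have hX : IsPGroup p X := hp.to_le le_sup_left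
  have hY : IsPGroup p Y := hp.to_le le_sup_right
  obtain ⟨a, ha⟩ := IsPGroup.iff_card.1 hX
  obtain ⟨b, hb⟩ := IsPGroup.iff_card.1 hY
  have key : ∀ {A B : Subgroup G}, A ≤ X ⊔ Y → B ≤ X ⊔ Y → Nat.card A ∣ Nat.card B → A ≤ B := by
    intro A B hA hB hd z hz
    have h1 : (⟨z, hA hz⟩ : (X ⊔ Y : Subgroup G)) ^ Nat.card (B.subgroupOf (X ⊔ Y)) = 1 := by
      apply Subtype.ext
      show z ^ Nat.card (B.subgroupOf (X ⊔ Y)) = 1
      rw [H01.card_subgroupOf_of_le hB]
      have h5 : (⟨z, hz⟩ : A) ^ Nat.card A = 1 := pow_card_eq_one'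
      have h6 : z ^ Nat.card A = 1 := congrArg Subtype.val h5
      obtain ⟨c, hc⟩ := hd
      rw [hc, pow_mul, h6, one_pow]
    exact Subgroup.mem_subgroupOf.1 (mem_of_pow_card_eq_one _ h1)
  rcases le_total a b with hab | hab
  · left
    apply key le_sup_left le_sup_right
    rw [ha, hb]
    exact pow_dvd_pow _ hab
  · right
    apply key le_sup_right le_sup_left
    rw [ha, hb]
    exact pow_dvd_pow _ hab

/-- Reduction modulo a normal `p`-subgroup. -/
theorem step2 [Finite G] [Fact p.Prime] (h : Hyp p G) (V : Subgroup G) [hVn : V.Normal]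
    (hV : IsPGroup p V) (IH : Conc p (G ⧸ V)) : Conc p G := by
  have hs : Function.Surjective (QuotientGroup.mk' V) := QuotientGroup.mk'_surjective V
  have hcard : ∀ K : Subgroup (G ⧸ V), Nat.card (K.comap (QuotientGroup.mk' V)) =
      Nat.card V * Nat.card K := by
    intro K
    rw [card_comap_eq _ hs, QuotientGroup.ker_mk']
  obtain ⟨a, ha⟩ := IsPGroup.iff_card.1 hV
  rcases IH with ⟨K, hKn, hK, n, hn⟩ | ⟨S, hSn, hS, hSi⟩
  · let L := K.comap (QuotientGroup.mk' V)
    have hLn : L.Normal := hKn.comap _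
    have hVL : V ≤ L := by
      intro v hv
      show (QuotientGroup.mk' V) v ∈ K
      have : (QuotientGroup.mk' V) v = 1 := by
        rw [← MonoidHom.mem_ker, QuotientGroup.ker_mk']; exact hv
      rw [this]; exact K.one_mem
    haveI hV' : (V.subgroupOf L).Normal := Subgroup.normal_subgroupOf
    have hcard2 : Nat.card (V.subgroupOf L) = Nat.card V := H01.card_subgroupOf_of_le hVL
    have hidx : (V.subgroupOf L).index = Nat.card K := by
      have h1 := Subgroup.card_mul_index (V.subgroupOf L)
      rw [hcard2, hcard] at h1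
      have hpos : 0 < Nat.card V := Nat.card_pos
      exact (Nat.eq_of_mul_eq_mul_left hpos h1)
    have hcop0 : (Nat.card V).Coprime (Nat.card K) := by
      rw [ha]
      apply Nat.Coprime.pow_left
      exact (Nat.Prime.coprime_iff_not_dvd Fact.out).2 hK
    have hcop : (Nat.card (V.subgroupOf L)).Coprime (V.subgroupOf L).index := by
      rw [hcard2, hidx]; exact hcop0
    obtain ⟨A₀, hA₀⟩ := Subgroup.exists_right_complement'_of_coprime hcop
    have hA₀card : Nat.card A₀ = Nat.card K := by
      rw [← hidx]; exact hA₀.symm.index_eq_card.symm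
    let A := A₀.map L.subtype
    have hAcard : Nat.card A = Nat.card K := by
      rw [Subgroup.card_map_of_injective L.subtype_injective, hA₀card]
    have hAL : A ≤ L := by
      rintro _ ⟨x, _, rfl⟩
      exact x.2
    have hdec : ∀ l ∈ L, ∃ v ∈ V, ∃ b ∈ A, l = v * b := by
      intro l hl
      obtain ⟨⟨v, b⟩, hvb⟩ := (hA₀.existsUnique ⟨l, hl⟩).exists
      refine ⟨((v : L) : G), v.2, ((b : L) : G), ⟨b, b.2, rfl⟩, ?_⟩
      exact (congrArg Subtype.val hvb).symm
    let M := normalizer (A : Set G)
    have hM : V ⊔ M = ⊤ := by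
      rw [eq_top_iff]
      intro g _
      have hD : MulAut.conj g • A ≤ L := by
        intro x hx
        rw [H01.mem_conj_smul_iff] at hx
        have := hLn.conj_mem _ (hAL hx) g
        simpa [mul_assoc] using this
      have hLN : L ≤ normalizer (V : Set G) := by
        rw [Subgroup.normalizer_eq_top V]; exact le_top
      have hsolv : Group.IsSolvable V := by
        haveI := hV.isNilpotent
        infer_instance
      obtain ⟨l, hl, hlA⟩ := H01.conj_rel (L := L) (N := V) (H := A) (K := MulAut.conj g • A) hVL hLN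
        hAL hD (by rw [hAcard]; exact hcop0) (by rw [hAcard, hcard]) (H01.card_conj_smul _ _)
        (Or.inl hsolv)
      obtain ⟨v, hv, b, hb, rfl⟩ := hdec l hl
      have h1 : (v * b)⁻¹ * g ∈ M := by
        rw [H01.mem_normalizer_iff_smul, H01.conj_mul_smul, ← hlA, ← H01.conj_mul_smul]
        simp
      have h2 : g = v * (b * ((v * b)⁻¹ * g)) := by group
      rw [h2]
      exact mul_mem_sup hv (mul_mem (Subgroup.le_normalizer hb) h1)
    obtain ⟨R⟩ : Nonempty (Sylow p M) := Sylow.nonempty
    let R' := (R : Subgroup M).map M.subtype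
    have hR'M : R' ≤ M := by
      rintro _ ⟨x, _, rfl⟩
      exact x.2
    have hR'p : IsPGroup p R' := R.2.map _
    have hT : IsPGroup p (V ⊔ R' : Subgroup G) := hV.to_sup_of_normal_left hR'p
    have hTc := h.1 _ hT
    rcases le_or_le_of_cyclic hTc hT with h1 | h1
    · have hVM : V ≤ M := h1.trans hR'M
      have hMtop : M = ⊤ := by
        rw [← hM, sup_eq_right.2 hVM]
      have hAn : A.Normal := Subgroup.normalizer_eq_top_iff.1 hMtop
      left
      refine ⟨A, hAn, by rw [hAcard]; exact hK, a + n, ?_⟩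
      have h2 := Subgroup.card_mul_index A
      have h3 := Subgroup.card_mul_index L
      rw [hcard, Subgroup.index_comap_of_surjective K hs, hn] at h3
      rw [hAcard] at h2
      have hpos : 0 < Nat.card K := Nat.card_pos
      apply Nat.eq_of_mul_eq_mul_left hpos
      rw [h2, ← h3, ha, pow_add]
      ring
    · right
      refine ⟨V, hVn, hV, ?_⟩
      have h2 : V.index = V.relIndex M := by
        have h3 := Subgroup.relIndex_sup_left M V
        rw [hM, Subgroup.relIndex_top_right] at h3
        exact h3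
      rw [h2]
      intro hd
      apply R.not_dvd_index
      have h3 : R'.subgroupOf M = (R : Subgroup M) := Subgroup.comap_map_eq_self_of_injective M.subtype_injective _
      have h4 : R'.relIndex M = (R : Subgroup M).index := by
        rw [Subgroup.relIndex, h3]
      rw [← h4]
      exact hd.trans (Subgroup.relIndex_dvd_of_le_left M h1)
  · right
    refine ⟨S.comap (QuotientGroup.mk' V), hSn.comap _, ?_, ?_⟩
    · obtain ⟨b, hb⟩ := IsPGroup.iff_card.1 hS
      apply IsPGroup.of_card (n := a + b)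
      rw [hcard, ha, hb, pow_add]
    · rw [Subgroup.index_comap_of_surjective S hs]; exact hSi

end Cfsg.Agent.H19.Sp
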