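import Mathlib
import Cfsg.Agent.Lib.H01.Coprime4
import Cfsg.Agent.Lib.H01.Basic

/-! An automorphism of order prime to `|P|` which is trivial on `P/Φ(P)` is trivial (helper19). -/

set_option autoImplicit false
set_option linter.style.haveILetI false

namespace Cfsg.Agent.H19

universe u

theorem aut_eq_one_of_frattini {P : Type u} [Group P] [Finite P] (ψ : MulAut P)
    (hcop : (orderOf ψ).Coprime (Nat.card P)) (h : ∀ x : P, ψ x * x⁻¹ ∈ frattini P) : ψ = 1 := by
  classical
  haveI : Finite (MulAut P) := by
    have : Function.Injective (fun f : MulAut P => (f : P → P)) := by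
      intro f g hfg
      exact MulEquiv.ext (fun x => congrFun hfg x)
    exact Finite.of_injective _ this
  let φ : MulAut P →* MulAut P := MonoidHom.id _
  let G := SemidirectProduct P (MulAut P) φ
  let inl : P →* G := SemidirectProduct.inl
  let inr : MulAut P →* G := SemidirectProduct.inr
  have hinl : Function.Injective inl := SemidirectProduct.inl_injective
  have hinr : Function.Injective inr := SemidirectProduct.inr_injective
  haveI : Finite G := Finite.of_equiv _ (SemidirectProduct.equivProd (φ := φ)).symm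
  have hconj : ∀ (f : MulAut P) (x : P), inr f * inl x * (inr f)⁻¹ = inl (f x) := by
    intro f x
    rw [← map_inv]
    exact (SemidirectProduct.inl_aut (φ := φ) f x).symm
  set K : Subgroup G := inl.range with hK
  set a : G := inr ψ with ha
  set A : Subgroup G := Subgroup.zpowers a with hA
  have haord : orderOf a = orderOf ψ := orderOf_injective inr hinr ψ
  -- powers
  have hpow : ∀ n : ℕ, ∀ x : P, (ψ ^ n) x * x⁻¹ ∈ frattini P := by
    intro n
    induction n with
    | zero => intro x; simp
    | succ n ih =>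
      intro x
      have h1 : (ψ ^ (n + 1)) x = ψ ((ψ ^ n) x) := by
        rw [pow_succ']
        rfl
      rw [h1]
      have h2 := h ((ψ ^ n) x)
      have h3 := ih x
      have h4 := Subgroup.mul_mem _ h2 h3
      simpa [mul_assoc] using h4
  have hAmem : ∀ y ∈ A, ∃ n : ℕ, y = inr (ψ ^ n) := by
    intro y hy
    obtain ⟨n, hn, rfl⟩ := (mem_powers_iff_mem_zpowers.mpr hy)
    exact ⟨n, by rw [map_pow]⟩
  have hAK : A ≤ Subgroup.normalizer (K : Set G) := by
    intro y hy
    obtain ⟨n, rfl⟩ := hAmem y hy
    rw [Subgroup.mem_normalizer_iff]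
    intro z
    constructor
    · rintro ⟨x, rfl⟩
      rw [hconj]
      exact ⟨_, rfl⟩
    · rintro ⟨x, hx⟩
      refine ⟨((ψ ^ n)⁻¹) x, ?_⟩
      have h1 : inr (ψ ^ n) * inl (((ψ ^ n)⁻¹) x) * (inr (ψ ^ n))⁻¹ = inl x := by
        rw [hconj]
        simp
      rw [hx] at h1
      exact mul_left_cancel (mul_right_cancel h1)
  have hKcard : Nat.card K = Nat.card P := by
    rw [hK]
    exact (Nat.card_congr (MonoidHom.ofInjective hinl).toEquiv).symm
  have hcop' : (Nat.card A).Coprime (Nat.card (frattini K)) := by
    rw [hA, Nat.card_zpowers, haord]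
    apply Nat.Coprime.coprime_dvd_right _ hcop
    rw [← hKcard]
    exact Subgroup.card_subgroup_dvd_card _
  -- the map `P → K`
  let e : P →* K := inl.rangeRestrict
  have he : Function.Surjective e := inl.rangeRestrict_surjective
  have htriv : ∀ y ∈ A, ∀ k ∈ K, y * k * y⁻¹ * k⁻¹ ∈ (frattini K).map K.subtype := by
    intro y hy k hk
    obtain ⟨n, rfl⟩ := hAmem y hy
    obtain ⟨x, rfl⟩ := hk
    rw [hconj, ← map_inv, ← map_mul]
    have h1 := hpow n x
    have h2 : e ((ψ ^ n) x * x⁻¹) ∈ frattini K :=
      frattini_le_comap_frattini_of_surjective he h1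
    exact ⟨_, h2, rfl⟩
  have hcen := Cfsg.Agent.H01.centralizes_of_trivial_on_frattini_quotient A K hAK hcop' htriv
  have haA : a ∈ A := Subgroup.mem_zpowers a
  have h5 := hcen haA
  rw [Subgroup.mem_centralizer_iff] at h5
  apply MulEquiv.ext
  intro x
  have h6 := h5 (inl x) ⟨x, rfl⟩
  -- `inl x * a = a * inl x`
  have h7 : a * inl x * a⁻¹ = inl x := by
    rw [← h6, mul_inv_cancel_right]
  rw [ha, hconj] at h7
  exact hinl h7

end Cfsg.Agent.H19
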