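import Mathlib

/-!
Lower bound for the order of a `p`-group of given derived length.
-/

set_option autoImplicit false

namespace Cfsg.Agent.H19

open Subgroup
open scoped commutatorElement

universe u

variable {P : Type u} [Group P]

/-- iterated commutator with the whole group. -/
def Kc (N : Subgroup P) : ℕ → Subgroup P
  | 0 => N
  | a + 1 => ⁅Kc N a, (⊤ : Subgroup P)⁆

@[simp] theorem Kc_zero (N : Subgroup P) : Kc N 0 = N := rfl

theorem Kc_succ (N : Subgroup P) (a : ℕ) : Kc N (a + 1) = ⁅Kc N a, (⊤ : Subgroup P)⁆ := rfl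

instance Kc_normal (N : Subgroup P) [hN : N.Normal] (a : ℕ) : (Kc N a).Normal := by
  induction a with
  | zero => exact hN
  | succ a ih =>
    rw [Kc_succ]
    exact Subgroup.commutator_normal _ _

theorem Kc_succ_le (N : Subgroup P) [N.Normal] (a : ℕ) : Kc N (a + 1) ≤ Kc N a := by
  rw [Kc_succ]
  exact Subgroup.commutator_le_left _ _

theorem Kc_add_le (N : Subgroup P) [N.Normal] (a b : ℕ) : Kc N (a + b) ≤ Kc N a := by
  induction b with
  | zero => exact le_rfl
  | succ b ih => exact (Kc_succ_le N (a + b)).trans ih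

theorem three_mod (A B C T : Subgroup P) [hT : T.Normal]
    (h1 : ⁅⁅B, C⁆, A⁆ ≤ T) (h2 : ⁅⁅C, A⁆, B⁆ ≤ T) : ⁅⁅A, B⁆, C⁆ ≤ T := by
  have key : ∀ X : Subgroup P, X ≤ T ↔ X.map (QuotientGroup.mk' T) = ⊥ := by
    intro X
    rw [Subgroup.map_eq_bot_iff, QuotientGroup.ker_mk']
  rw [key] at h1 h2 ⊢
  simp only [Subgroup.map_commutator] at h1 h2 ⊢
  exact Subgroup.commutator_commutator_eq_bot_of_rotate h1 h2

theorem chain (N : Subgroup P) [N.Normal] (b : ℕ) : ∀ a : ℕ,
    ⁅Kc N a, Kc (⊤ : Subgroup P) b⁆ ≤ Kc N (a + b + 1) := by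
  induction b with
  | zero =>
    intro a
    exact le_rfl
  | succ b ih =>
    intro a
    rw [Subgroup.commutator_comm, Kc_succ ⊤ b]
    have e : a + (b + 1) + 1 = a + b + 1 + 1 := by ring
    rw [e]
    apply three_mod
    · rw [Subgroup.commutator_comm ⊤ (Kc N a), ← Kc_succ]
      have e2 : a + b + 1 + 1 = (a + 1) + b + 1 := by ring
      rw [e2]
      exact ih (a + 1)
    · rw [Kc_succ N (a + b + 1)]
      exact Subgroup.commutator_mono (ih a) le_rfl

/-- generating set whose pairwise commutators lie in a normal subgroup. -/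
theorem comm_le_of_gen (A : Subgroup P) [hA : A.Normal] (S : Set P)
    (hS : ∀ s ∈ S, ∀ t ∈ S, ⁅s, t⁆ ∈ A) : ⁅closure S, closure S⁆ ≤ A := by
  have hc : ∀ a b : P, ⁅a, b⁆ ∈ A ↔ Commute (QuotientGroup.mk' A a) (QuotientGroup.mk' A b) := by
    intro a b
    rw [← commutatorElement_eq_one_iff_commute, ← map_commutatorElement,
      QuotientGroup.mk'_apply, QuotientGroup.eq_one_iff]
  have h1 : ∀ s ∈ S, ∀ g ∈ closure S, ⁅g, s⁆ ∈ A := by
    intro s hs g hg
    induction hg using closure_induction with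
    | mem x hx => exact hS x hx s hs
    | one => simp [A.one_mem]
    | mul x y _ _ hx hy =>
      rw [hc] at hx hy ⊢
      rw [map_mul]
      exact hx.mul_left hy
    | inv x _ hx =>
      rw [hc] at hx ⊢
      rw [map_inv]
      exact hx.inv_left
  rw [Subgroup.commutator_le]
  intro g hg h hh
  induction hh using closure_induction with
  | mem x hx => exact h1 x hx g hg
  | one => simp [A.one_mem]
  | mul x y _ _ hx hy =>
    rw [hc] at hx hy ⊢
    rw [map_mul]
    exact hx.mul_right hy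
  | inv x _ hx =>
    rw [hc] at hx ⊢
    rw [map_inv]
    exact hx.inv_right

theorem normal_of_comm_le (A N : Subgroup P) (hAN : A ≤ N) (h : ⁅N, (⊤ : Subgroup P)⁆ ≤ A) :
    A.Normal := by
  constructor
  intro a ha g
  have h3 : g * a * g⁻¹ = a * (a⁻¹ * g * a * g⁻¹) := by group
  have h4 : a⁻¹ * g * a * g⁻¹ = ⁅a⁻¹, g⁆ := by
    simp [commutatorElement_def]
  rw [h3, h4]
  refine A.mul_mem ha ?_
  exact h (Subgroup.commutator_mem_commutator (N.inv_mem (hAN ha)) (Subgroup.mem_top _))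

/-- `N / [N,P]` is cyclic. -/
def CycTop (N : Subgroup P) : Prop :=
  ∃ x ∈ N, N ≤ zpowers x ⊔ ⁅N, (⊤ : Subgroup P)⁆

/-- the derived series of a subgroup. -/
def Dser (N : Subgroup P) : ℕ → Subgroup P
  | 0 => N
  | j + 1 => ⁅Dser N j, Dser N j⁆

theorem Dser_succ' (N : Subgroup P) (j : ℕ) : Dser N (j + 1) = Dser ⁅N, N⁆ j := by
  induction j with
  | zero => rfl
  | succ j ih =>
    change ⁅Dser N (j + 1), Dser N (j + 1)⁆ = ⁅Dser ⁅N, N⁆ j, Dser ⁅N, N⁆ j⁆
    rw [ih]

theorem Dser_top (j : ℕ) : Dser (⊤ : Subgroup P) j = derivedSeries P j := by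
  induction j with
  | zero => rfl
  | succ j ih =>
    change ⁅Dser ⊤ j, Dser ⊤ j⁆ = ⁅derivedSeries P j, derivedSeries P j⁆
    rw [ih]

variable (p : ℕ)

/-- `log_p` of the order. -/
noncomputable def ell (L : Subgroup P) : ℕ := Nat.log p (Nat.card L)

variable {p} [Finite P] [hp : Fact p.Prime] (hP : IsPGroup p P)

include hP

theorem card_ell (L : Subgroup P) : Nat.card L = p ^ ell p L := by
  obtain ⟨k, hk⟩ := IsPGroup.iff_card.mp (hP.to_subgroup L)
  unfold ell
  rw [hk, Nat.log_pow hp.out.one_lt]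

theorem ell_mono {L M : Subgroup P} (h : L ≤ M) : ell p L ≤ ell p M := by
  have h1 := Subgroup.card_dvd_of_le h
  rw [card_ell hP L, card_ell hP M] at h1
  exact (Nat.pow_dvd_pow_iff_le_right hp.out.one_lt).mp h1

theorem eq_of_ell_le {L M : Subgroup P} (h : L ≤ M) (h2 : ell p M ≤ ell p L) : L = M := by
  apply Subgroup.eq_of_le_of_card_ge h
  rw [card_ell hP L, card_ell hP M]
  exact Nat.pow_le_pow_right hp.out.pos h2

theorem ell_lt {L M : Subgroup P} (h : L ≤ M) (hne : L ≠ M) : ell p L + 1 ≤ ell p M := by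
  by_contra hcon
  exact hne (eq_of_ell_le hP h (by omega))

theorem ell_bot_lt {L : Subgroup P} (h : L ≠ ⊥) : 1 ≤ ell p L := by
  have := ell_lt hP (bot_le : ⊥ ≤ L) h.symm
  omega

theorem comm_ne (K : Subgroup P) [hK : K.Normal] (h : K ≠ ⊥) :
    ⁅K, (⊤ : Subgroup P)⁆ ≠ K := by
  intro heq
  haveI : Group.IsNilpotent P := hP.isNilpotent
  obtain ⟨n, hn⟩ := _root_.nilpotent_iff_lowerCentralSeries.mp (inferInstance : Group.IsNilpotent P)
  have hle : ∀ a : ℕ, K ≤ (⊤ : Subgroup P).lowerCentralSeries a := by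
    intro a
    induction a with
    | zero => exact le_top
    | succ a ih =>
      rw [Subgroup.lowerCentralSeries_succ, ← heq]
      exact Subgroup.commutator_mono ih le_top
  apply h
  rw [eq_bot_iff, ← hn]
  exact hle n

theorem ell_comm_lt (K : Subgroup P) [hK : K.Normal] (h : K ≠ ⊥) :
    ell p ⁅K, (⊤ : Subgroup P)⁆ + 1 ≤ ell p K :=
  ell_lt hP (Subgroup.commutator_le_left _ _) (comm_ne hP K h)

theorem ell_chain (N : Subgroup P) [N.Normal] (a b : ℕ) (h : Kc N (a + b) ≠ ⊥) :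
    ell p (Kc N (a + b)) + b ≤ ell p (Kc N a) := by
  induction b with
  | zero => simp
  | succ b ih =>
    have hne : Kc N (a + b) ≠ ⊥ := by
      intro h0
      apply h
      rw [eq_bot_iff, ← h0]
      exact Kc_succ_le N (a + b)
    have h1 := ih hne
    have h2 := ell_comm_lt hP (Kc N (a + b)) hne
    rw [← Kc_succ] at h2
    have e : a + (b + 1) = a + b + 1 := rfl
    rw [e]
    omega

omit hP [Finite P] hp in
theorem comm_le_Kc (N : Subgroup P) [N.Normal] (s : ℕ) (hs : N ≤ Kc ⊤ s) :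
    ⁅N, N⁆ ≤ Kc N (s + 1) := by
  have := chain N s 0
  rw [zero_add] at this
  exact (Subgroup.commutator_mono le_rfl hs).trans this

omit hP [Finite P] hp in
theorem comm_le_N_K (N : Subgroup P) [N.Normal] (a s : ℕ) (hs : N ≤ Kc ⊤ s) :
    ⁅N, Kc N a⁆ ≤ Kc N (a + s + 1) := by
  rw [Subgroup.commutator_comm]
  exact (Subgroup.commutator_mono le_rfl hs).trans (chain N s a)

omit hP [Finite P] hp in
/-- the derived subgroup when `N / [N,P]` is cyclic -/
theorem comm_le_of_cyc (N : Subgroup P) [hN : N.Normal] (h : CycTop N) :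
    ⁅N, N⁆ ≤ ⁅N, Kc N 1⁆ := by
  obtain ⟨x, hx, hle⟩ := h
  have hK1 : Kc N 1 ≤ N := Kc_succ_le N 0
  haveI : (Kc N 1).Normal := inferInstance
  have hT : (⁅N, Kc N 1⁆).Normal := Subgroup.commutator_normal _ _
  have hle2 : N ≤ closure (insert x (Kc N 1 : Set P)) := by
    refine hle.trans (sup_le ?_ ?_)
    · rw [Subgroup.zpowers_eq_closure]
      apply Subgroup.closure_mono
      simp
    · intro y hy
      exact subset_closure (Set.mem_insert_of_mem _ hy)
  refine (Subgroup.commutator_mono hle2 hle2).trans ?_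
  apply comm_le_of_gen
  intro s hs t ht
  rcases hs with rfl | hs <;> rcases ht with rfl | ht
  · simp [Subgroup.one_mem]
  · exact Subgroup.commutator_mem_commutator hx ht
  · rw [← commutatorElement_inv]
    exact Subgroup.inv_mem _ (Subgroup.commutator_mem_commutator hx hs)
  · exact Subgroup.commutator_mem_commutator (hK1 hs) ht

theorem ell_two_of_not_cyc (N : Subgroup P) [hN : N.Normal] (hne : N ≠ ⊥) (h : ¬ CycTop N) :
    ell p (Kc N 1) + 2 ≤ ell p N := by
  have hK1 : Kc N 1 ≤ N := Kc_succ_le N 0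
  have hlt : Kc N 1 ≠ N := comm_ne hP N hne
  obtain ⟨x, hx, hx'⟩ := SetLike.exists_of_lt (lt_of_le_of_ne hK1 hlt)
  have h1 : Kc N 1 ≤ zpowers x ⊔ Kc N 1 := le_sup_right
  have h2 : zpowers x ⊔ Kc N 1 ≤ N :=
    sup_le ((Subgroup.zpowers_le).mpr hx) hK1
  have h3 : Kc N 1 ≠ zpowers x ⊔ Kc N 1 := by
    intro he
    apply hx'
    rw [he]
    exact Subgroup.mem_sup_left (Subgroup.mem_zpowers x)
  have h4 : zpowers x ⊔ Kc N 1 ≠ N := by
    intro he
    apply h
    refine ⟨x, hx, ?_⟩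
    exact le_of_eq he.symm
  have h5 := ell_lt hP h1 h3
  have h6 := ell_lt hP h2 h4
  omega

omit hP [Finite P] hp in
/-- criterion for `N'` to be cyclic modulo `[N',P]`. -/
theorem cyc_of_two (N L : Subgroup P) [hN : N.Normal] (x y : P) (hx : x ∈ N) (hy : y ∈ N)
    (hL : L ≤ N) (hle : N ≤ zpowers x ⊔ zpowers y ⊔ L)
    (hcomm : ⁅N, L⁆ ≤ ⁅⁅N, N⁆, (⊤ : Subgroup P)⁆) : CycTop ⁅N, N⁆ := by
  have hN' : (⁅N, N⁆).Normal := Subgroup.commutator_normal _ _
  have hc : ⁅x, y⁆ ∈ ⁅N, N⁆ := Subgroup.commutator_mem_commutator hx hy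
  refine ⟨⁅x, y⁆, hc, ?_⟩
  set A := zpowers ⁅x, y⁆ ⊔ ⁅⁅N, N⁆, (⊤ : Subgroup P)⁆ with hA
  have hAN : A ≤ ⁅N, N⁆ := sup_le ((Subgroup.zpowers_le).mpr hc) (Subgroup.commutator_le_left _ _)
  haveI hAn : A.Normal := normal_of_comm_le A ⁅N, N⁆ hAN le_sup_right
  have hle2 : N ≤ closure (insert x (insert y (L : Set P))) := by
    refine hle.trans (sup_le (sup_le ?_ ?_) ?_)
    · rw [Subgroup.zpowers_eq_closure]
      apply Subgroup.closure_mono
      simp
    · rw [Subgroup.zpowers_eq_closure]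
      apply Subgroup.closure_mono
      simp
    · intro z hz
      exact subset_closure (Set.mem_insert_of_mem _ (Set.mem_insert_of_mem _ hz))
  refine (Subgroup.commutator_mono hle2 hle2).trans ?_
  apply comm_le_of_gen
  have hsub : ∀ s ∈ insert x (insert y (L : Set P)), s ∈ N := by
    intro s hs
    rcases hs with rfl | rfl | hs
    · exact hx
    · exact hy
    · exact hL hs
  have hmain : ∀ s ∈ insert x (insert y (L : Set P)), ∀ t ∈ (L : Set P), ⁅s, t⁆ ∈ A := by
    intro s hs t ht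
    exact (le_sup_right : _ ≤ A) (hcomm (Subgroup.commutator_mem_commutator (hsub s hs) ht))
  have hsw : ∀ s t : P, ⁅s, t⁆ ∈ A → ⁅t, s⁆ ∈ A := by
    intro s t h
    rw [← commutatorElement_inv]
    exact A.inv_mem h
  have hxy : ⁅x, y⁆ ∈ A := (le_sup_left : _ ≤ A) (Subgroup.mem_zpowers _)
  intro s hs t ht
  rcases ht with rfl | rfl | ht
  · rcases hs with rfl | rfl | hs
    · simp [A.one_mem]
    · exact hsw _ _ hxy
    · exact hsw _ _ (hmain _ (Set.mem_insert _ _) s hs)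
  · rcases hs with rfl | rfl | hs
    · exact hxy
    · simp [A.one_mem]
    · exact hsw _ _ (hmain _ (Set.mem_insert_of_mem _ (Set.mem_insert _ _)) s hs)
  · exact hmain s hs t ht

/-- item (a) -/
theorem ell_comm_add (N : Subgroup P) [hN : N.Normal] (s : ℕ) (hs : N ≤ Kc ⊤ s)
    (hne : ⁅N, N⁆ ≠ ⊥) : ell p ⁅N, N⁆ + s + 2 ≤ ell p N := by
  have hNne : N ≠ ⊥ := by
    rintro rfl
    apply hne
    rw [eq_bot_iff]
    exact Subgroup.commutator_le_left _ _
  by_cases hc : CycTop N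
  · have h1 : ⁅N, N⁆ ≤ Kc N (0 + (s + 2)) := by
      refine (comm_le_of_cyc N hc).trans ?_
      have := comm_le_N_K N 1 s hs
      have e : 1 + s + 1 = 0 + (s + 2) := by ring
      rwa [e] at this
    have h2 : Kc N (0 + (s + 2)) ≠ ⊥ := by
      intro h0
      rw [h0, le_bot_iff] at h1
      exact hne h1
    have h3 := ell_chain hP N 0 (s + 2) h2
    have h4 := ell_mono hP h1
    rw [Kc_zero] at h3
    omega
  · have h1 : ⁅N, N⁆ ≤ Kc N (1 + s) := by
      have := comm_le_Kc N s hs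
      rwa [add_comm s 1] at this
    have h2 : Kc N (1 + s) ≠ ⊥ := by
      intro h0
      rw [h0, le_bot_iff] at h1
      exact hne h1
    have h3 := ell_chain hP N 1 s h2
    have h4 := ell_mono hP h1
    have h5 := ell_two_of_not_cyc hP N hNne hc
    omega

/-- item (c) -/
theorem cyc_of_eq (N : Subgroup P) [hN : N.Normal] (s : ℕ) (hs : N ≤ Kc ⊤ s)
    (hne : ⁅N, N⁆ ≠ ⊥) (heq : ell p N = ell p ⁅N, N⁆ + s + 2) : CycTop ⁅N, N⁆ := by
  have hNne : N ≠ ⊥ := by
    rintro rfl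
    apply hne
    rw [eq_bot_iff]
    exact Subgroup.commutator_le_left _ _
  have hK1N : Kc N 1 ≤ N := Kc_succ_le N 0
  by_cases hc : CycTop N
  · -- `N = ⟨x⟩ K₁`
    have h1 : ⁅N, N⁆ ≤ Kc N (2 + s) := by
      refine (comm_le_of_cyc N hc).trans ?_
      have := comm_le_N_K N 1 s hs
      have e : 1 + s + 1 = 2 + s := by ring
      rwa [e] at this
    have h2 : Kc N (2 + s) ≠ ⊥ := by
      intro h0
      rw [h0, le_bot_iff] at h1
      exact hne h1
    have h3 := ell_chain hP N 2 s h2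
    have h4 := ell_mono hP h1
    have hK2ne : Kc N 2 ≠ ⊥ := by
      intro h0
      apply h2
      rw [eq_bot_iff, ← h0]
      exact Kc_add_le N 2 s
    have hK1ne : Kc N 1 ≠ ⊥ := by
      intro h0
      apply hK2ne
      rw [eq_bot_iff, ← h0]
      exact Kc_succ_le N 1
    have h5 : ell p (Kc N 2) + 1 ≤ ell p (Kc N 1) := ell_comm_lt hP (Kc N 1) hK1ne
    have h6 : ell p (Kc N 1) + 1 ≤ ell p N := ell_comm_lt hP N hNne
    have h7 : ⁅N, N⁆ = Kc N (2 + s) := eq_of_ell_le hP h1 (by omega)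
    have h8 : ell p (Kc N 1) = ell p (Kc N 2) + 1 := by omega
    obtain ⟨x, hx, hxle⟩ := hc
    have hK21 : Kc N 2 ≤ Kc N 1 := Kc_succ_le N 1
    obtain ⟨y, hy, hy'⟩ := SetLike.exists_of_lt (lt_of_le_of_ne hK21 (comm_ne hP (Kc N 1) hK1ne))
    have h9 : zpowers y ⊔ Kc N 2 = Kc N 1 := by
      apply eq_of_ell_le hP (sup_le ((Subgroup.zpowers_le).mpr hy) hK21)
      have h10 : Kc N 2 ≠ zpowers y ⊔ Kc N 2 := by
        intro he
        apply hy'
        rw [he]
        exact Subgroup.mem_sup_left (Subgroup.mem_zpowers y)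
      have h11 := ell_lt hP (le_sup_right : Kc N 2 ≤ zpowers y ⊔ Kc N 2) h10
      omega
    apply cyc_of_two N (Kc N 2) x y hx (hK1N hy) (hK21.trans hK1N)
    · refine hxle.trans (sup_le ?_ ?_)
      · exact le_sup_of_le_left le_sup_left
      · change Kc N 1 ≤ _
        rw [← h9, sup_assoc]
        exact le_sup_right
    · have h12 := comm_le_N_K N 2 s hs
      have e : Kc N (2 + s + 1) = ⁅⁅N, N⁆, (⊤ : Subgroup P)⁆ := by
        rw [h7, Kc_succ]
      rw [e] at h12
      exact h12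
  · have h1 : ⁅N, N⁆ ≤ Kc N (1 + s) := by
      have := comm_le_Kc N s hs
      rwa [add_comm s 1] at this
    have h2 : Kc N (1 + s) ≠ ⊥ := by
      intro h0
      rw [h0, le_bot_iff] at h1
      exact hne h1
    have h3 := ell_chain hP N 1 s h2
    have h4 := ell_mono hP h1
    have h5 := ell_two_of_not_cyc hP N hNne hc
    have h7 : ⁅N, N⁆ = Kc N (1 + s) := eq_of_ell_le hP h1 (by omega)
    have h8 : ell p N = ell p (Kc N 1) + 2 := by omega
    have hlt : Kc N 1 ≠ N := comm_ne hP N hNne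
    obtain ⟨x, hx, hx'⟩ := SetLike.exists_of_lt (lt_of_le_of_ne hK1N hlt)
    have ha : Kc N 1 ≤ zpowers x ⊔ Kc N 1 := le_sup_right
    have hb : zpowers x ⊔ Kc N 1 ≤ N := sup_le ((Subgroup.zpowers_le).mpr hx) hK1N
    have hab : Kc N 1 ≠ zpowers x ⊔ Kc N 1 := by
      intro he
      apply hx'
      rw [he]
      exact Subgroup.mem_sup_left (Subgroup.mem_zpowers x)
    have hba : zpowers x ⊔ Kc N 1 ≠ N := by
      intro he
      apply hc
      exact ⟨x, hx, le_of_eq he.symm⟩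
    obtain ⟨y, hy, hy'⟩ := SetLike.exists_of_lt (lt_of_le_of_ne hb hba)
    have hy2 : zpowers x ⊔ Kc N 1 ≠ zpowers y ⊔ (zpowers x ⊔ Kc N 1) := by
      intro he
      apply hy'
      rw [he]
      exact Subgroup.mem_sup_left (Subgroup.mem_zpowers y)
    have h10 := ell_lt hP (le_sup_right :
      zpowers x ⊔ Kc N 1 ≤ zpowers y ⊔ (zpowers x ⊔ Kc N 1)) hy2
    have h11 := ell_lt hP ha hab
    have h12 : zpowers y ⊔ (zpowers x ⊔ Kc N 1) = N := by
      apply eq_of_ell_le hP (sup_le ((Subgroup.zpowers_le).mpr hy) hb)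
      omega
    apply cyc_of_two N (Kc N 1) x y hx hy hK1N
    · refine le_of_eq ?_
      rw [sup_comm (zpowers x) (zpowers y), sup_assoc, h12]
    · have h13 := comm_le_N_K N 1 s hs
      have e : Kc N (1 + s + 1) = ⁅⁅N, N⁆, (⊤ : Subgroup P)⁆ := by
        rw [h7, Kc_succ]
      rw [e] at h13
      exact h13

omit hP [Finite P] hp in
theorem comm_le_lower (N : Subgroup P) (s : ℕ) (hs : N ≤ Kc ⊤ s) :
    ⁅N, N⁆ ≤ Kc ⊤ (2 * s + 1) := by
  have := chain (⊤ : Subgroup P) s s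
  have e : s + s + 1 = 2 * s + 1 := by ring
  rw [e] at this
  exact (Subgroup.commutator_mono hs hs).trans this

omit hP [Finite P] hp in
theorem comm_le_lower_cyc (N : Subgroup P) [hN : N.Normal] (s : ℕ) (hs : N ≤ Kc ⊤ s)
    (hc : CycTop N) : ⁅N, N⁆ ≤ Kc ⊤ (2 * s + 2) := by
  have h1 := comm_le_of_cyc N hc
  have h2 : Kc N 1 ≤ Kc ⊤ (s + 1) := by
    rw [Kc_succ, Kc_succ]
    exact Subgroup.commutator_mono hs le_rfl
  have h3 := chain (⊤ : Subgroup P) (s + 1) s
  have e : s + (s + 1) + 1 = 2 * s + 2 := by ring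
  rw [e] at h3
  exact h1.trans ((Subgroup.commutator_mono hs h2).trans h3)

/-- The bound. -/
theorem der_bound (i : ℕ) : ∀ (N : Subgroup P) (s c : ℕ), N.Normal → c ≤ 1 →
    (c = 1 → CycTop N) → N ≤ Kc ⊤ s → Dser N (i + 2) ≠ ⊥ →
    2 ^ (i + 2) * (s + 1) + 2 ^ (i + 1) * c + 2 * (i + 2) ≤ ell p N + (s + 1) + c + 1 := by
  have hlow : ∀ (N : Subgroup P) (s c : ℕ), N.Normal → c ≤ 1 →
      (c = 1 → CycTop N) → N ≤ Kc ⊤ s → ⁅N, N⁆ ≤ Kc ⊤ (2 * s + 1 + c) := by
    intro N s c hN hc hcyc hs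
    interval_cases c
    · exact comm_le_lower N s hs
    · exact comm_le_lower_cyc N s hs (hcyc rfl)
  induction i with
  | zero =>
    intro N s c hN hc hcyc hs hne
    have hne2 : ⁅⁅N, N⁆, ⁅N, N⁆⁆ ≠ ⊥ := hne
    have hne1 : ⁅N, N⁆ ≠ ⊥ := by
      intro h0
      apply hne2
      rw [h0, eq_bot_iff]
      exact Subgroup.commutator_le_left _ _
    haveI : (⁅N, N⁆).Normal := Subgroup.commutator_normal _ _
    have h1 := ell_comm_add hP N s hs hne1
    have h2 := ell_comm_add hP ⁅N, N⁆ (2 * s + 1 + c) (hlow N s c hN hc hcyc hs) hne2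
    have h3 := ell_bot_lt hP hne2
    norm_num
    omega
  | succ i ih =>
    intro N s c hN hc hcyc hs hne
    have hne' : Dser ⁅N, N⁆ (i + 2) ≠ ⊥ := by
      rw [← Dser_succ']
      exact hne
    have hne1 : ⁅N, N⁆ ≠ ⊥ := by
      intro h0
      apply hne'
      rw [h0]
      have : ∀ j : ℕ, Dser (⊥ : Subgroup P) j = ⊥ := by
        intro j
        induction j with
        | zero => rfl
        | succ j hj =>
          change ⁅Dser ⊥ j, Dser ⊥ j⁆ = ⊥
          rw [hj]
          exact Subgroup.commutator_bot_left _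
      exact this _
    haveI hN' : (⁅N, N⁆).Normal := Subgroup.commutator_normal _ _
    have hs' := hlow N s c hN hc hcyc hs
    have h1 := ell_comm_add hP N s hs hne1
    have e1 : (2 : ℕ) ^ (i + 1 + 2) = 2 * 2 ^ (i + 2) := by ring
    have e2 : (2 : ℕ) ^ (i + 1 + 1) = 2 ^ (i + 2) := by ring
    have e3 : (2 : ℕ) ^ (i + 2) = 2 * 2 ^ (i + 1) := by ring
    have hpos : 1 ≤ 2 ^ (i + 1) := Nat.one_le_two_pow
    by_cases hcyc' : CycTop ⁅N, N⁆
    · have h2 := ih ⁅N, N⁆ (2 * s + 1 + c) 1 hN' le_rfl (fun _ => hcyc') hs' hne'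
      rw [e1, e2]
      have e4 : 2 ^ (i + 2) * (2 * s + 1 + c + 1) = 2 * 2 ^ (i + 2) * (s + 1) + 2 ^ (i + 2) * c := by
        ring
      rw [e4] at h2
      omega
    · have hlt : ell p N ≠ ell p ⁅N, N⁆ + s + 2 := fun he => hcyc' (cyc_of_eq hP N s hs hne1 he)
      have h2 := ih ⁅N, N⁆ (2 * s + 1 + c) 0 hN' (by omega) (by simp) hs' hne'
      rw [e1, e2]
      have e4 : 2 ^ (i + 2) * (2 * s + 1 + c + 1) = 2 * 2 ^ (i + 2) * (s + 1) + 2 ^ (i + 2) * c := by
        ring
      rw [e4] at h2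
      simp only [mul_zero, add_zero] at h2
      omega

end Cfsg.Agent.H19
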