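import Cfsg.Agent.Lib.H19.OmegaFusion

/-!
An element of order prime to `6` normalizing a `2`-group with a cyclic subgroup of index at most `2`
centralizes it (helper19).
-/

set_option autoImplicit false
set_option linter.style.haveILetI false

namespace Cfsg.Agent.H19

open Cfsg Cfsg.Agent.H13
open scoped commutatorElement

variable {G : Type*} [Group G]

theorem card_quot_frattini_le {X : Type*} [Group X] [Finite X] (hX : IsPGroup 2 X) (C : Subgroup X)
    (hC : IsCyclic C) (hidx : C.index ≤ 2) : Nat.card (X ⧸ frattini X) ≤ 4 := by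
  haveI : Fact (Nat.Prime 2) := ⟨Nat.prime_two⟩
  set F := frattini X with hF
  let C' : Subgroup (X ⧸ F) := C.map (QuotientGroup.mk' F)
  have hsurj : Function.Surjective (QuotientGroup.mk' F) := QuotientGroup.mk'_surjective F
  have h1 : C'.index ≤ 2 :=
    (Nat.le_of_dvd (lt_of_le_of_ne (Nat.zero_le _) (fun h => (Subgroup.index_ne_zero_of_finite (H := C)) h.symm))
      (Subgroup.index_map_dvd C hsurj)).trans hidx
  obtain ⟨c, hc⟩ := hC.exists_generator
  have hsq : ∀ x : X, QuotientGroup.mk' F x ^ 2 = 1 := by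
    intro x
    rw [← map_pow]
    exact (QuotientGroup.eq_one_iff _).2 (H01.pow_mem_frattini_of_isPGroup hX x)
  have h2 : Nat.card C' ≤ 2 := by
    have h3 : C' = Subgroup.zpowers (QuotientGroup.mk' F c.1) := by
      apply le_antisymm
      · rintro _ ⟨y, hy, rfl⟩
        obtain ⟨k, hk⟩ := hc ⟨y, hy⟩
        refine ⟨k, ?_⟩
        have : c.1 ^ k = y := congrArg Subtype.val hk
        simp only [← this, map_zpow]
      · rw [Subgroup.zpowers_le]
        exact ⟨c.1, c.2, rfl⟩
    rw [h3, Nat.card_zpowers]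
    exact Nat.le_of_dvd (by norm_num) (orderOf_dvd_of_pow_eq_one (hsq c.1))
  have h4 := C'.card_mul_index
  rw [← h4]
  exact Nat.mul_le_mul h2 h1

/-- Conjugation on the Frattini quotient is trivial. -/
theorem comm_mem_frattini_of_coprime_six [Finite G] {Q : Subgroup G} (hQ : IsPGroup 2 Q)
    (C : Subgroup Q) (hC : IsCyclic C) (hidx : C.index ≤ 2) {g : G}
    (hgN : g ∈ Subgroup.normalizer (Q : Set G)) (hgc : (orderOf g).Coprime 6) :
    ∀ x ∈ Q, ⁅x, g⁆ ∈ (frattini Q).map Q.subtype := by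
  classical
  intro x hx
  haveI : Fact (Nat.Prime 2) := ⟨Nat.prime_two⟩
  have hg' : ∀ y : G, y ∈ Q → g * y * g⁻¹ ∈ Q := fun y hy => (Subgroup.mem_normalizer_iff.1 hgN y).1 hy
  have hg'' : ∀ y : G, y ∈ Q → g⁻¹ * y * g ∈ Q := fun y hy => by
    have := (Subgroup.mem_normalizer_iff.1 (Subgroup.inv_mem _ hgN) y).1 hy
    simpa using this
  let α : Q ≃* Q :=
    { toFun := fun y => ⟨g * y.1 * g⁻¹, hg' _ y.2⟩
      invFun := fun y => ⟨g⁻¹ * y.1 * g, hg'' _ y.2⟩
      left_inv := fun y => by ext; simp [mul_assoc]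
      right_inv := fun y => by ext; simp [mul_assoc]
      map_mul' := fun a b => by ext; simp [mul_assoc] }
  have hα : ∀ y : Q, (α y).1 = g * y.1 * g⁻¹ := fun y => rfl
  set F := frattini Q with hF
  have hmap : F.map α.toMonoidHom = F :=
    (Subgroup.characteristic_iff_map_eq.1 (inferInstance : F.Characteristic)) α
  let f : (Q ⧸ F) ≃* (Q ⧸ F) := QuotientGroup.congr F F α hmap
  have hf : ∀ y : Q, f (y : Q ⧸ F) = ((α y : Q) : Q ⧸ F) := fun y => rfl
  let π : Equiv.Perm (Q ⧸ F) := f.toEquiv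
  have hπ : ∀ (k : ℕ) (y : Q), (π ^ k) (y : Q ⧸ F) =
      ((⟨g ^ k * y.1 * (g ^ k)⁻¹, by
        have : g ^ k ∈ Subgroup.normalizer (Q : Set G) := Subgroup.pow_mem _ hgN k
        exact (Subgroup.mem_normalizer_iff.1 this y.1).1 y.2⟩ : Q) : Q ⧸ F) := by
    intro k
    induction k with
    | zero =>
      intro y
      simp
    | succ k ih =>
      intro y
      rw [pow_succ', Equiv.Perm.mul_apply, ih y]
      show f _ = _
      rw [hf]
      congr 1
      ext
      rw [hα]
      simp only [pow_succ']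
      group
  have hπo : π ^ orderOf g = 1 := by
    ext q
    obtain ⟨y, rfl⟩ := QuotientGroup.mk_surjective q
    rw [hπ]
    simp [pow_orderOf_eq_one]
  have h1 : orderOf π ∣ orderOf g := orderOf_dvd_of_pow_eq_one hπo
  haveI := Fintype.ofFinite (Q ⧸ F)
  have h2 : orderOf π ∣ 24 := by
    have h3 : orderOf π ∣ Nat.card (Equiv.Perm (Q ⧸ F)) := orderOf_dvd_natCard π
    rw [Nat.card_eq_fintype_card, Fintype.card_perm] at h3
    have h4 : Fintype.card (Q ⧸ F) ≤ 4 := by
      rw [← Nat.card_eq_fintype_card]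
      exact card_quot_frattini_le hQ C hC hidx
    exact h3.trans (Nat.factorial_dvd_factorial h4)
  have h3 : (orderOf g).Coprime 24 :=
    Nat.Coprime.coprime_dvd_right (by norm_num : 24 ∣ 6 ^ 3) (Nat.Coprime.pow_right 3 hgc)
  have h4 : orderOf π = 1 := Nat.eq_one_of_dvd_coprimes h3 h1 h2
  have h5 : π = 1 := orderOf_eq_one_iff.1 h4
  have h6 : π ((⟨x⁻¹, Q.inv_mem hx⟩ : Q) : Q ⧸ F) = ((⟨x⁻¹, Q.inv_mem hx⟩ : Q) : Q ⧸ F) := by
    rw [h5]; rfl
  have h7 : (((⟨x⁻¹, Q.inv_mem hx⟩ : Q) : Q ⧸ F)) = ((α ⟨x⁻¹, Q.inv_mem hx⟩ : Q) : Q ⧸ F) := h6.symm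
  rw [QuotientGroup.eq] at h7
  refine ⟨_, h7, ?_⟩
  simp only [Subgroup.coe_subtype, Subgroup.coe_mul, Subgroup.coe_inv, inv_inv, hα, commutatorElement_def]
  group

/-- **Main lemma.** -/
theorem centralizes_of_index_two [Finite G] {T A : Subgroup G} (hT : IsPGroup 2 T) (hA : IsCyclic A)
    (hidx : A.relIndex T ≤ 2) {Q : Subgroup G} (hQT : Q ≤ T) {g : G}
    (hgN : g ∈ Subgroup.normalizer (Q : Set G)) (hgc : (orderOf g).Coprime 6) :
    g ∈ Subgroup.centralizer (Q : Set G) := by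
  haveI : Fact (Nat.Prime 2) := ⟨Nat.prime_two⟩
  have hQ : IsPGroup 2 Q := hT.to_le hQT
  have hgc2 : (orderOf g).Coprime 2 := Nat.Coprime.coprime_dvd_right (by norm_num) hgc
  induction h : Nat.card Q using Nat.strong_induction_on generalizing Q with
  | _ n ih =>
  subst h
  have IH : ∀ R : Subgroup G, R < Q → g ∈ Subgroup.normalizer (R : Set G) → ∀ x ∈ R, g * x = x * g := by
    intro R hRQ hRN
    have h1 := ih (Nat.card R) (card_lt_of_lt hRQ) (Q := R) (hRQ.le.trans hQT) hRN
      (hQ.to_le hRQ.le) rfl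
    intro x hx
    exact (Subgroup.mem_centralizer_iff.mp h1 x hx).symm
  have hfin : (∀ x ∈ Q, g * (g * x * g⁻¹ * x⁻¹) = (g * x * g⁻¹ * x⁻¹) * g) → g ∈ Subgroup.centralizer (Q : Set G) := by
    intro hh
    rw [Subgroup.mem_centralizer_iff]
    intro x hx
    have h1 : g * x * g⁻¹ * x⁻¹ ∈ Q := Q.mul_mem ((Subgroup.mem_normalizer_iff.mp hgN x).mp hx) (Q.inv_mem hx)
    have h2 := eq_one_of_fixed_comm hQ hgc2 h1 (hh x hx)
    have h3 : g * x * g⁻¹ = x := by simpa using congrArg (· * x) h2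
    have h4 : g * x = x * g := by simpa using congrArg (· * g) h3
    exact h4.symm
  apply hfin
  set Zg : Subgroup G := Subgroup.zpowers g with hZg
  have hgZ : g ∈ Zg := Subgroup.mem_zpowers g
  have hZN : Zg ≤ Subgroup.normalizer (Q : Set G) := by
    rw [hZg, Subgroup.zpowers_le]
    exact hgN
  set R : Subgroup G := ⁅Q, Zg⁆ with hR
  have hRQ : R ≤ Q := commutator_le_left_of_le_normalizer hZN
  have hmemR : ∀ x ∈ Q, g * x * g⁻¹ * x⁻¹ ∈ R := by
    intro x hx
    rw [hR, Subgroup.commutator_comm]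
    exact Subgroup.commutator_mem_commutator hgZ hx
  have hRgN : g ∈ Subgroup.normalizer (R : Set G) := by
    have h1 : Zg ≤ Subgroup.normalizer (R : Set G) := by
      rw [hR, Subgroup.commutator_comm]
      exact H05.comm_le_normalizer_left Zg Q
    exact h1 hgZ
  by_cases hRlt : R = Q
  swap
  · have hlt : R < Q := lt_of_le_of_ne hRQ hRlt
    intro x hx
    exact IH R hlt hRgN _ (hmemR x hx)
  by_cases hQ1 : Q = ⊥
  · intro x hx
    rw [hQ1, Subgroup.mem_bot] at hx
    subst hx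
    simp
  exfalso
  set D : Subgroup G := (frattini Q).map Q.subtype with hD
  have hDlt : D < Q := by
    refine lt_of_le_of_ne (Subgroup.map_subtype_le _) ?_
    intro hDeq
    haveI : Nontrivial Q := (Subgroup.nontrivial_iff_ne_bot _).mpr hQ1
    obtain ⟨M, hM⟩ : ∃ M : Subgroup Q, IsCoatom M := by
      rcases eq_top_or_exists_le_coatom (⊥ : Subgroup Q) with h0 | ⟨M, hM, -⟩
      · exact absurd h0 bot_ne_top
      · exact ⟨M, hM⟩
    apply hM.1
    rw [eq_top_iff]
    intro x _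
    have h1 : (x : G) ∈ D := by rw [hDeq]; exact x.2
    obtain ⟨y, hy, hyx⟩ := h1
    have h2 : y = x := Subtype.ext hyx
    rw [← h2]
    exact H01.mem_frattini_iff.mp hy M hM
  -- the cyclic subgroup of `Q`
  let C : Subgroup Q := A.subgroupOf Q
  have hCcyc : IsCyclic C := by
    have : Function.Injective (fun y : C => (⟨y.1.1, y.2⟩ : A)) := by
      intro a b hab
      have := congrArg Subtype.val hab
      exact Subtype.ext (Subtype.ext this)
    exact isCyclic_of_injective
      ({ toFun := fun y : C => (⟨y.1.1, y.2⟩ : A)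
         map_one' := rfl
         map_mul' := fun _ _ => rfl } : C →* A) this
  have hCidx : C.index ≤ 2 := by
    have h1 : A.relIndex T ≠ 0 := by
      rw [Subgroup.relIndex]
      exact Subgroup.index_ne_zero_of_finite
    exact (Subgroup.relIndex_le_of_le_right hQT h1).trans hidx
  apply hDlt.ne
  apply le_antisymm hDlt.le
  rw [← hRlt, hR, Subgroup.commutator_le]
  intro x hx z hz
  obtain ⟨k, rfl⟩ := Subgroup.mem_zpowers_iff.mp hz
  apply comm_mem_frattini_of_coprime_six hQ C hCcyc hCidx (Subgroup.zpow_mem _ hgN k) _ x hx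
  have h1 : orderOf (g ^ k) ∣ orderOf g := by
    apply orderOf_dvd_of_pow_eq_one
    rw [← zpow_natCast, ← zpow_mul, mul_comm, zpow_mul, zpow_natCast, pow_orderOf_eq_one, one_zpow]
  exact Nat.Coprime.coprime_dvd_left h1 hgc

end Cfsg.Agent.H19
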