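import Mathlib
import Cfsg.Agent.Lib.H15.Cyc2
import Cfsg.Agent.Lib.H19.Basic

/-!
Subgroups with normal Sylow `p`-subgroup and cyclic quotient.
-/

set_option autoImplicit false

namespace Cfsg.Agent.H19

open scoped commutatorElement

section dihedral

variable {H : Type*} [Group H] {m : ℕ}

open DihedralGroup in
theorem dih_rotation (e : H ≃* DihedralGroup m) {a : H} (ha : Odd (orderOf a)) :
    ∃ i, e a = r i := by
  rcases h : e a with i | i
  · exact ⟨i, rfl⟩
  · exfalso
    have h1 : orderOf (e a) = orderOf a := MulEquiv.orderOf_eq e a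
    rw [h, orderOf_sr] at h1
    rw [← h1] at ha
    exact absurd ha (by decide)

open DihedralGroup in
/-- an element not commuting with an element of odd order is a reflection. -/
theorem dih_reflection (e : H ≃* DihedralGroup m) {a y : H} (ha : Odd (orderOf a))
    (hna : y * a ≠ a * y) : y * y = 1 ∧ ∀ b : H, Odd (orderOf b) → y * b * y⁻¹ = b⁻¹ := by
  obtain ⟨i, hi⟩ := dih_rotation e ha
  rcases h : e y with j | j
  · exfalso
    apply hna
    apply e.injective
    rw [map_mul, map_mul, hi, h, r_mul_r, r_mul_r, add_comm]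
  · constructor
    · apply e.injective
      rw [map_mul, h, sr_mul_sr, map_one, one_def]
      simp
    · intro b hb
      obtain ⟨k, hk⟩ := dih_rotation e hb
      apply e.injective
      rw [map_mul, map_mul, map_inv, map_inv, h, hk, inv_sr, inv_r, sr_mul_r, sr_mul_sr]
      simp

end dihedral

section cyc

variable {H : Type*} [Group H] [Finite H]

/-- a central Sylow subgroup, cyclic, with cyclic quotient: the group is cyclic. -/
theorem cyc_of_central {p : ℕ} [Fact p.Prime] (S : Sylow p H) [hn : (S : Subgroup H).Normal]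
    (hc : (S : Subgroup H) ≤ Subgroup.center H) (hSc : IsCyclic (S : Subgroup H))
    (hq : IsCyclic (H ⧸ (S : Subgroup H))) : IsCyclic H := by
  classical
  have hcomm : ∀ a b : H, a * b = b * a :=
    commutative_of_cyclic_center_quotient (QuotientGroup.mk' (S : Subgroup H))
      (by rw [QuotientGroup.ker_mk']; exact hc)
  set c := Nat.card (S : Subgroup H) with hcdef
  set m := Nat.card (H ⧸ (S : Subgroup H)) with hmdef
  have hcop : c.Coprime m := by
    have := Sylow.card_coprime_index S
    rw [Subgroup.index_eq_card] at this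
    exact this
  have hcard : Nat.card H = c * m := by
    have := (S : Subgroup H).card_mul_index
    rw [Subgroup.index_eq_card] at this
    exact this.symm
  obtain ⟨s, hs⟩ := hSc.exists_generator
  obtain ⟨z, hz⟩ := hq.exists_generator
  obtain ⟨y, rfl⟩ := QuotientGroup.mk_surjective z
  have hords : orderOf s = c := orderOf_eq_card_of_forall_mem_zpowers hs
  have hordz : orderOf ((y : H ⧸ (S : Subgroup H))) = m := orderOf_eq_card_of_forall_mem_zpowers hz
  have hmpos : 0 < m := Nat.card_pos
  have hcpos : 0 < c := Nat.card_pos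
  set u := y ^ c with hu
  have h1 : u ^ m = 1 := by
    have h2 : y ^ m ∈ (S : Subgroup H) := by
      rw [← QuotientGroup.eq_one_iff, QuotientGroup.mk_pow]
      exact pow_card_eq_one'
    have h3 : (y ^ m) ^ c = 1 := by
      have h5 := pow_card_eq_one' (x := (⟨y ^ m, h2⟩ : (S : Subgroup H)))
      calc (y ^ m) ^ c = (((⟨y ^ m, h2⟩ : (S : Subgroup H)) ^ c : (S : Subgroup H)) : H) := rfl
        _ = 1 := by rw [h5]; rfl
    rw [hu, ← pow_mul, mul_comm, pow_mul]
    exact h3
  have h2 : orderOf u = m := by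
    apply Nat.dvd_antisymm (orderOf_dvd_of_pow_eq_one h1)
    have h3 : orderOf ((u : H) : H ⧸ (S : Subgroup H)) ∣ orderOf u :=
      orderOf_map_dvd (QuotientGroup.mk' (S : Subgroup H)) u
    have h4 : orderOf ((u : H) : H ⧸ (S : Subgroup H)) = m := by
      rw [hu, QuotientGroup.mk_pow, Nat.Coprime.orderOf_pow, hordz]
      rw [hordz]
      exact hcop.symm
    rwa [h4] at h3
  have h3 : Commute (s : H) u := hcomm _ _
  have h4 : orderOf ((s : H) * u) = c * m := by
    rw [h3.orderOf_mul_eq_mul_orderOf_of_coprime, h2, Subgroup.orderOf_coe, hords]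
    rw [h2, Subgroup.orderOf_coe, hords]
    exact hcop
  exact isCyclic_of_orderOf_eq_card _ (by rw [h4, hcard])

end cyc

section pi

variable {G : Type*} [Group G] [Finite G] {p : ℕ} [hp : Fact p.Prime]

/-- `Q⟨x⟩` has a normal Sylow `p`-subgroup with cyclic quotient. -/
theorem pi_of_normal_sup (Q : Subgroup G) (hQ : IsPGroup p Q) (x : G)
    (hx : x ∈ Subgroup.normalizer (Q : Set G)) (H : Subgroup G) (hH : H = Q ⊔ Subgroup.zpowers x) :
    (∀ S : Sylow p H, (S : Subgroup H).Normal) ∧
      (∀ (S : Sylow p H) [(S : Subgroup H).Normal], IsCyclic (H ⧸ (S : Subgroup H))) := by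
  classical
  have hQH : Q ≤ H := hH ▸ le_sup_left
  have hxH : x ∈ H := hH ▸ Subgroup.mem_sup_right (Subgroup.mem_zpowers x)
  let Q' : Subgroup H := Q.subgroupOf H
  haveI hQ'n : Q'.Normal := by
    constructor
    intro n hn g
    rw [Subgroup.mem_subgroupOf] at hn ⊢
    have hle : H ≤ Subgroup.normalizer (Q : Set G) := by
      rw [hH]
      apply sup_le Subgroup.le_normalizer
      rw [Subgroup.zpowers_le]
      exact hx
    exact (Subgroup.mem_normalizer_iff.mp (hle g.2) n.1).mp hn
  have hQ'p : IsPGroup p Q' := by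
    have e : Q' ≃* Q := Subgroup.subgroupOfEquivOfLe hQH
    exact hQ.of_equiv e.symm
  let x' : H := ⟨x, hxH⟩
  let π := QuotientGroup.mk' Q'
  have hcyc : IsCyclic (H ⧸ Q') := by
    refine ⟨⟨π x', ?_⟩⟩
    intro z
    obtain ⟨y, rfl⟩ := QuotientGroup.mk'_surjective Q' z
    let K : Subgroup H := (Subgroup.zpowers (π x')).comap π
    have h1 : H ≤ K.map H.subtype := by
      conv_lhs => rw [hH]
      apply sup_le
      · intro q hq
        refine ⟨⟨q, hQH hq⟩, ?_, rfl⟩
        have : π ⟨q, hQH hq⟩ = 1 := (QuotientGroup.eq_one_iff _).mpr (Subgroup.mem_subgroupOf.mpr hq)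
        change π ⟨q, hQH hq⟩ ∈ Subgroup.zpowers (π x')
        rw [this]
        exact Subgroup.one_mem _
      · rw [Subgroup.zpowers_le]
        exact ⟨x', Subgroup.mem_zpowers (π x'), rfl⟩
    obtain ⟨y', hy', hyy⟩ := h1 y.2
    have : y' = y := Subtype.ext hyy
    rw [← this]
    exact hy'
  have hcycq : ∀ (T : Subgroup H) [T.Normal], Q' ≤ T → IsCyclic (H ⧸ T) := by
    intro T _ hT
    refine isCyclic_of_surjective (QuotientGroup.map Q' T (MonoidHom.id H) hT) ?_
    intro z
    obtain ⟨w, rfl⟩ := QuotientGroup.mk_surjective z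
    exact ⟨(w : H ⧸ Q'), rfl⟩
  refine ⟨?_, ?_⟩
  · intro S
    have hle : Q' ≤ (S : Subgroup H) := hQ'p.le_sylow_of_normal S
    have hcomm : ∀ a b : H ⧸ Q', a * b = b * a := by
      intro a b
      exact IsCyclic.commutative.is_comm.comm a b
    have hnorm : ((S : Subgroup H).map π).Normal := by
      constructor
      intro n hn g
      rw [hcomm g n, mul_assoc, mul_inv_cancel, mul_one]
      exact hn
    have h2 : (S : Subgroup H) = ((S : Subgroup H).map π).comap π := by
      rw [Subgroup.comap_map_eq, QuotientGroup.ker_mk']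
      exact (sup_eq_left.mpr hle).symm
    rw [h2]
    exact hnorm.comap π
  · intro S _
    exact hcycq _ (hQ'p.le_sylow_of_normal S)

/-- the hypothesis on subgroups -/
def RestrictedPi (p : ℕ) (G : Type*) [Group G] : Prop :=
  ∀ H : Subgroup G, (∀ S : Sylow p ↥H, (S : Subgroup ↥H).Normal) →
    (∀ (S : Sylow p ↥H) [(S : Subgroup ↥H).Normal], IsCyclic (↥H ⧸ (S : Subgroup ↥H))) →
    IsCyclic H ∨ (∃ n : ℕ, Nonempty (H ≃* DihedralGroup (p ^ n)))

omit [Finite G] in
theorem odd_orderOf_of_pGroup (hp2 : Odd p) (Q : Subgroup G) (hQ : IsPGroup p Q) {a : G}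
    (ha : a ∈ Q) : Odd (orderOf a) := by
  obtain ⟨k, hk⟩ := IsPGroup.iff_orderOf.mp hQ ⟨a, ha⟩
  rw [Subgroup.orderOf_mk] at hk
  rw [hk]
  exact hp2.pow

theorem lhs_refl (hp2 : Odd p) (hL : RestrictedPi p G) (Q : Subgroup G) (hQ : IsPGroup p Q) (x : G)
    (hx : x ∈ Subgroup.normalizer (Q : Set G)) {a : G} (ha : a ∈ Q) (hne : x * a ≠ a * x) :
    x * x = 1 ∧ ∀ b ∈ Q, x * b * x⁻¹ = b⁻¹ := by
  obtain ⟨h1, h2⟩ := pi_of_normal_sup Q hQ x hx _ rfl
  have hxH : x ∈ Q ⊔ Subgroup.zpowers x := Subgroup.mem_sup_right (Subgroup.mem_zpowers x)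
  have hQH : Q ≤ Q ⊔ Subgroup.zpowers x := le_sup_left
  rcases hL _ h1 h2 with hc | ⟨n, ⟨e⟩⟩
  · exfalso
    apply hne
    have := hc.commutative.is_comm.comm (⟨x, hxH⟩ : ↥(Q ⊔ Subgroup.zpowers x)) ⟨a, hQH ha⟩
    exact congrArg Subtype.val this
  · have hoa : Odd (orderOf (⟨a, hQH ha⟩ : ↥(Q ⊔ Subgroup.zpowers x))) := by
      rw [Subgroup.orderOf_mk]
      exact odd_orderOf_of_pGroup hp2 Q hQ ha
    have hna : (⟨x, hxH⟩ : ↥(Q ⊔ Subgroup.zpowers x)) * ⟨a, hQH ha⟩ ≠ ⟨a, hQH ha⟩ * ⟨x, hxH⟩ := by
      intro h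
      exact hne (congrArg Subtype.val h)
    obtain ⟨h3, h4⟩ := dih_reflection e hoa hna
    refine ⟨congrArg Subtype.val h3, ?_⟩
    intro b hb
    have hob : Odd (orderOf (⟨b, hQH hb⟩ : ↥(Q ⊔ Subgroup.zpowers x))) := by
      rw [Subgroup.orderOf_mk]
      exact odd_orderOf_of_pGroup hp2 Q hQ hb
    exact congrArg Subtype.val (h4 _ hob)

/-- a dihedral group of order `2 p^n`, `p` odd, is no `p`-group. -/
theorem not_dih_of_pGroup (hp2 : p ≠ 2) (P : Subgroup G) (hP : IsPGroup p P) (n : ℕ)
    (e : P ≃* DihedralGroup (p ^ n)) : False := by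
  obtain ⟨k, hk⟩ := IsPGroup.iff_card.mp hP
  have h1 := Nat.card_congr e.toEquiv
  rw [DihedralGroup.nat_card, hk] at h1
  have h2 : 2 ∣ p ^ k := ⟨p ^ n, h1⟩
  have h3 := Nat.Prime.dvd_of_dvd_pow Nat.prime_two h2
  have h4 := (Nat.prime_dvd_prime_iff_eq Nat.prime_two (Fact.out : p.Prime)).mp h3
  exact hp2 h4.symm

theorem rhs_of_lhs (hp2 : p ≠ 2) (P : Sylow p G) (hL : RestrictedPi p G) :
    IsCyclic P ∧
      (Subgroup.normalizer ((P : Subgroup G) : Set G) = Subgroup.centralizer ((P : Subgroup G) : Set G) ∨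
       ((Subgroup.centralizer ((P : Subgroup G) : Set G)).relIndex (Subgroup.normalizer ((P : Subgroup G) : Set G)) = 2 ∧
        ∀ Q : Subgroup G, Q ≤ P → Nat.card Q = p →
          IsMulCommutative ↥(Subgroup.centralizer (Q : Set G)) ∧
          ∀ x : G, x ∈ Subgroup.normalizer (Q : Set G) → x ∉ Subgroup.centralizer (Q : Set G) →
            orderOf x = 2 ∧ ∀ c : G, c ∈ Subgroup.centralizer (Q : Set G) → x * c * x⁻¹ = c⁻¹)) := by
  classical
  have hodd : Odd p := (Fact.out : p.Prime).odd_of_ne_two hp2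
  have hcyc : IsCyclic P := by
    obtain ⟨h1, h2⟩ := pi_of_normal_sup (P : Subgroup G) P.isPGroup' 1 (Subgroup.one_mem _)
      (P : Subgroup G) (by simp)
    rcases hL _ h1 h2 with hc | ⟨n, ⟨e⟩⟩
    · exact hc
    · exact (not_dih_of_pGroup hp2 _ P.isPGroup' n e).elim
  refine ⟨hcyc, ?_⟩
  have hPcomm : ∀ a ∈ (P : Subgroup G), ∀ b ∈ (P : Subgroup G), a * b = b * a := by
    intro a ha b hb
    have := hcyc.commutative.is_comm.comm (⟨a, ha⟩ : (P : Subgroup G)) ⟨b, hb⟩
    exact congrArg Subtype.val this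
  have hCN : Subgroup.centralizer ((P : Subgroup G) : Set G) ≤
      Subgroup.normalizer ((P : Subgroup G) : Set G) := Subgroup.centralizer_le_normalizer _
  by_cases hNC : Subgroup.normalizer ((P : Subgroup G) : Set G) ≤
      Subgroup.centralizer ((P : Subgroup G) : Set G)
  · exact Or.inl (le_antisymm hNC hCN)
  right
  obtain ⟨y, hyN, hyC⟩ := Set.not_subset.mp hNC
  obtain ⟨a, ha, hya⟩ : ∃ a ∈ (P : Subgroup G), y * a ≠ a * y := by
    by_contra hcon
    push_neg at hcon
    apply hyC
    rw [SetLike.mem_coe, Subgroup.mem_centralizer_iff]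
    intro h hh
    exact (hcon h hh).symm
  obtain ⟨hyy, hyinv⟩ := lhs_refl hodd hL P P.isPGroup' y hyN ha hya
  -- every element of the normalizer outside the centralizer inverts `P`
  have hinv : ∀ w ∈ Subgroup.normalizer ((P : Subgroup G) : Set G),
      w ∉ Subgroup.centralizer ((P : Subgroup G) : Set G) → ∀ b ∈ (P : Subgroup G), w * b * w⁻¹ = b⁻¹ := by
    intro w hw hwC
    obtain ⟨a', ha', hwa⟩ : ∃ a ∈ (P : Subgroup G), w * a ≠ a * w := by
      by_contra hcon
      push_neg at hcon
      apply hwC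
      rw [Subgroup.mem_centralizer_iff]
      intro h hh
      exact (hcon h hh).symm
    exact (lhs_refl hodd hL P P.isPGroup' w hw ha' hwa).2
  have hne_inv : ∀ b : G, Odd (orderOf b) → b ≠ 1 → b⁻¹ ≠ b := by
    intro b hb hb1 h
    have h2 : b ^ 2 = 1 := by
      rw [pow_two]
      nth_rewrite 1 [← h]
      simp
    have h3 := orderOf_dvd_of_pow_eq_one h2
    have h4 : orderOf b ≠ 1 := by
      rw [Ne, orderOf_eq_one_iff]
      exact hb1
    have h5 : orderOf b = 2 := ((Nat.dvd_prime Nat.prime_two).mp h3).resolve_left h4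
    rw [h5] at hb
    exact absurd hb (by decide)
  have ha1 : a ≠ 1 := by
    rintro rfl
    exact hya (by simp)
  constructor
  · unfold Subgroup.relIndex
    rw [Subgroup.index_eq_two_iff]
    refine ⟨⟨y, hyN⟩, ?_⟩
    rintro ⟨b, hb⟩
    simp only [Subgroup.mem_subgroupOf, Subgroup.coe_mul]
    by_cases hbC : b ∈ Subgroup.centralizer ((P : Subgroup G) : Set G)
    · right
      refine ⟨hbC, ?_⟩
      intro h
      apply hyC
      have h2 := Subgroup.mul_mem _ (Subgroup.inv_mem _ hbC) h
      simpa using h2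
    · left
      refine ⟨?_, hbC⟩
      rw [Subgroup.mem_centralizer_iff]
      intro c hc
      have h1 := hinv b hb hbC
      have h2 := hyinv c hc
      have h3 := h1 c⁻¹ ((P : Subgroup G).inv_mem hc)
      rw [inv_inv] at h3
      have h4 : b * y * c * (b * y)⁻¹ = c := by
        have e : b * y * c * (b * y)⁻¹ = b * (y * c * y⁻¹) * b⁻¹ := by group
        rw [e, h2, h3]
      calc c * (b * y) = (b * y * c * (b * y)⁻¹) * (b * y) := by rw [h4]
        _ = b * y * c := by group
  · intro Q hQP hQcard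
    have hQp : IsPGroup p Q := P.isPGroup'.to_le hQP
    have hQ1 : Q ≠ ⊥ := by
      rw [← Subgroup.one_lt_card_iff_ne_bot, hQcard]
      exact (Fact.out : p.Prime).one_lt
    obtain ⟨w, hw⟩ := Subgroup.ne_bot_iff_exists_ne_one.mp hQ1
    obtain ⟨q, hq, hq1⟩ : ∃ q ∈ Q, q ≠ 1 := ⟨w.1, w.2, fun h => hw (Subtype.ext h)⟩
    have hyNQ : y ∈ Subgroup.normalizer (Q : Set G) := by
      rw [Subgroup.mem_normalizer_iff]
      intro h
      constructor
      · intro hh
        rw [hyinv h (hQP hh)]
        exact Q.inv_mem hh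
      · intro hh
        have hyi : y⁻¹ = y := inv_eq_of_mul_eq_one_left hyy
        have h2 := hyinv _ (hQP hh)
        have e : y * (y * h * y⁻¹) * y⁻¹ = h := by
          rw [hyi]
          calc y * (y * h * y) * y = (y * y) * h * (y * y) := by group
            _ = h := by rw [hyy]; group
        rw [e] at h2
        rw [h2]
        exact Q.inv_mem hh
    have hyCQ : y ∉ Subgroup.centralizer (Q : Set G) := by
      intro h
      have h2 := (Subgroup.mem_centralizer_iff.mp h) q hq
      have h3 := hyinv q (hQP hq)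
      have h4 : y * q * y⁻¹ = q := by
        rw [← h2]
        group
      rw [h4] at h3
      exact hne_inv q (odd_orderOf_of_pGroup hodd Q hQp hq) hq1 h3.symm
    have hex : ∀ x, x ∉ Subgroup.centralizer (Q : Set G) → ∃ a ∈ Q, x * a ≠ a * x := by
      intro x hx
      by_contra hcon
      push_neg at hcon
      apply hx
      rw [Subgroup.mem_centralizer_iff]
      intro h hh
      exact (hcon h hh).symm
    have hmain : ∀ x : G, x ∈ Subgroup.normalizer (Q : Set G) → x ∉ Subgroup.centralizer (Q : Set G) →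
        orderOf x = 2 ∧ ∀ c : G, c ∈ Subgroup.centralizer (Q : Set G) → x * c * x⁻¹ = c⁻¹ := by
      intro x hx hxC
      obtain ⟨a', ha', hxa⟩ := hex x hxC
      have hxx := (lhs_refl hodd hL Q hQp x hx ha' hxa).1
      constructor
      · apply orderOf_eq_prime
        · rw [pow_two]
          exact hxx
        · rintro rfl
          exact hxC (Subgroup.one_mem _)
      · intro c hc
        have hxc1 : x * c ∈ Subgroup.normalizer (Q : Set G) :=
          Subgroup.mul_mem _ hx (Subgroup.centralizer_le_normalizer _ hc)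
        have hxc2 : x * c ∉ Subgroup.centralizer (Q : Set G) := by
          intro h
          apply hxC
          have h2 := Subgroup.mul_mem _ h (Subgroup.inv_mem _ hc)
          simpa using h2
        obtain ⟨a'', ha'', hxa'⟩ := hex (x * c) hxc2
        have h3 := (lhs_refl hodd hL Q hQp (x * c) hxc1 ha'' hxa').1
        have hxi : x⁻¹ = x := inv_eq_of_mul_eq_one_left hxx
        rw [hxi]
        apply eq_inv_of_mul_eq_one_left
        calc x * c * x * c = x * c * (x * c) := by group
          _ = 1 := h3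
    refine ⟨⟨⟨fun c d => ?_⟩⟩, hmain⟩
    apply Subtype.ext
    have h1 := (hmain y hyNQ hyCQ).2
    have h2 := h1 c.1 c.2
    have h3 := h1 d.1 d.2
    have h4 := h1 (c.1 * d.1) (Subgroup.mul_mem _ c.2 d.2)
    have e : y * (c.1 * d.1) * y⁻¹ = (y * c.1 * y⁻¹) * (y * d.1 * y⁻¹) := by group
    rw [e, h2, h3, mul_inv_rev] at h4
    have h5 : (c.1)⁻¹ * (d.1)⁻¹ = (c.1 * d.1)⁻¹ := by rw [mul_inv_rev]; exact h4
    have h6 : (d.1)⁻¹ * (c.1)⁻¹ = (c.1)⁻¹ * (d.1)⁻¹ := h4.symm
    have h7 : (c.1 * d.1)⁻¹ = (d.1 * c.1)⁻¹ := by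
      rw [mul_inv_rev, mul_inv_rev, h6]
    exact inv_injective h7

omit hp [Finite G] in
theorem mem_zpowers_of_cyclic {X : Type*} [Group X] [Finite X] [IsCyclic X] {q : ℕ} (hq : 0 < q)
    {t w : X} (ht : orderOf t = q) (hw : w ^ q = 1) : w ∈ Subgroup.zpowers t := by
  classical
  letI := Fintype.ofFinite X
  have h1 := IsCyclic.card_pow_eq_one_le (α := X) hq
  let B : Finset X := Finset.univ.filter (fun z => z ∈ Subgroup.zpowers t)
  have hB : B.card = q := by
    rw [← ht, ← Nat.card_zpowers, Nat.card_eq_fintype_card, Fintype.card_subtype]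
  have hsub : B ⊆ Finset.univ.filter (fun a : X => a ^ q = 1) := by
    intro z hz
    simp only [B, Finset.mem_filter, Finset.mem_univ, true_and] at hz ⊢
    obtain ⟨k, rfl⟩ := Subgroup.mem_zpowers_iff.mp hz
    rw [← zpow_natCast, ← zpow_mul, mul_comm, zpow_mul, zpow_natCast, ← ht, pow_orderOf_eq_one, one_zpow]
  have heq := Finset.eq_of_subset_of_card_le hsub (by rw [hB]; exact h1)
  have hw' : w ∈ Finset.univ.filter (fun a : X => a ^ q = 1) := by simp [hw]
  rw [← heq] at hw'
  simpa [B] using hw'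

/-- element form of the property of centralizers -/
def RtProp (t : G) : Prop :=
  (∀ c d : G, c * t = t * c → d * t = t * d → c * d = d * c) ∧
    ∀ x : G, x * t * x⁻¹ ∈ Subgroup.zpowers t → x * t ≠ t * x →
      orderOf x = 2 ∧ ∀ c : G, c * t = t * c → x * c * x⁻¹ = c⁻¹

omit hp [Finite G] in
theorem rt_conj {t : G} (g : G) (h : RtProp t) : RtProp (g * t * g⁻¹) := by
  obtain ⟨h1, h2⟩ := h
  have hcomm : ∀ c : G, c * (g * t * g⁻¹) = (g * t * g⁻¹) * c →
      (g⁻¹ * c * g) * t = t * (g⁻¹ * c * g) := by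
    intro c hc
    calc (g⁻¹ * c * g) * t = g⁻¹ * (c * (g * t * g⁻¹)) * g := by group
      _ = g⁻¹ * ((g * t * g⁻¹) * c) * g := by rw [hc]
      _ = t * (g⁻¹ * c * g) := by group
  constructor
  · intro c d hc hd
    have h3 := h1 _ _ (hcomm c hc) (hcomm d hd)
    have h4 : g * ((g⁻¹ * c * g) * (g⁻¹ * d * g)) * g⁻¹ = g * ((g⁻¹ * d * g) * (g⁻¹ * c * g)) * g⁻¹ := by
      rw [h3]
    have e1 : g * ((g⁻¹ * c * g) * (g⁻¹ * d * g)) * g⁻¹ = c * d := by group
    have e2 : g * ((g⁻¹ * d * g) * (g⁻¹ * c * g)) * g⁻¹ = d * c := by group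
    rwa [e1, e2] at h4
  · intro x hx hne
    have h3 : (g⁻¹ * x * g) * t * (g⁻¹ * x * g)⁻¹ ∈ Subgroup.zpowers t := by
      obtain ⟨k, hk⟩ := hx
      refine ⟨k, ?_⟩
      have e : (g⁻¹ * x * g) * t * (g⁻¹ * x * g)⁻¹ = g⁻¹ * (x * (g * t * g⁻¹) * x⁻¹) * g := by group
      rw [e, ← hk]
      have e2 : g * t * g⁻¹ = (MulAut.conj g) t := rfl
      simp only [e2, ← map_zpow]
      simp [mul_assoc]
    have h4 : (g⁻¹ * x * g) * t ≠ t * (g⁻¹ * x * g) := by
      intro h5
      apply hne
      calc x * (g * t * g⁻¹) = g * ((g⁻¹ * x * g) * t) * g⁻¹ := by group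
        _ = g * (t * (g⁻¹ * x * g)) * g⁻¹ := by rw [h5]
        _ = (g * t * g⁻¹) * x := by group
    obtain ⟨h5, h6⟩ := h2 _ h3 h4
    constructor
    · rw [← h5]
      have := Cfsg.Agent.H15.orderOf_conj_eq g⁻¹ x
      rw [inv_inv] at this
      exact this.symm
    · intro c hc
      have h7 := h6 _ (hcomm c hc)
      have e : x * c * x⁻¹ = g * ((g⁻¹ * x * g) * (g⁻¹ * c * g) * (g⁻¹ * x * g)⁻¹) * g⁻¹ := by group
      rw [e, h7]
      group

omit hp in
theorem normalizer_of_conj_mem (t x : G) (hx : x * t * x⁻¹ ∈ Subgroup.zpowers t) :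
    x ∈ Subgroup.normalizer ((Subgroup.zpowers t : Subgroup G) : Set G) := by
  classical
  have h1 : Subgroup.zpowers (x * t * x⁻¹) = Subgroup.zpowers t := by
    apply Subgroup.eq_of_le_of_card_ge
    · rw [Subgroup.zpowers_le]
      exact hx
    · rw [Nat.card_zpowers, Nat.card_zpowers, Cfsg.Agent.H15.orderOf_conj_eq]
  rw [Subgroup.mem_normalizer_iff]
  intro h
  constructor
  · intro hh
    obtain ⟨k, rfl⟩ := Subgroup.mem_zpowers_iff.mp hh
    rw [← h1]
    refine ⟨k, ?_⟩
    change (x * t * x⁻¹) ^ k = _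
    rw [conj_zpow]
  · intro hh
    rw [← h1] at hh
    obtain ⟨k, hk⟩ := hh
    have hk : (x * t * x⁻¹) ^ k = x * h * x⁻¹ := hk
    rw [conj_zpow] at hk
    have h2 : t ^ k = h := by
      have h3 := mul_left_cancel (mul_right_cancel hk)
      exact h3
    rw [← h2]
    exact Subgroup.zpow_mem _ (Subgroup.mem_zpowers t) k

omit hp [Finite G] in
theorem mem_centralizer_zpowers_of_comm {t c : G} (h : c * t = t * c) :
    c ∈ Subgroup.centralizer ((Subgroup.zpowers t : Subgroup G) : Set G) := by
  rw [Subgroup.mem_centralizer_iff]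
  intro y hy
  obtain ⟨k, rfl⟩ := Subgroup.mem_zpowers_iff.mp hy
  have h2 : Commute c t := h
  exact (h2.zpow_right k).eq.symm

theorem lhs_of_rhs (P : Sylow p G) (hcyc : IsCyclic P)
    (hcase : Subgroup.normalizer ((P : Subgroup G) : Set G) = Subgroup.centralizer ((P : Subgroup G) : Set G) ∨
       ((Subgroup.centralizer ((P : Subgroup G) : Set G)).relIndex (Subgroup.normalizer ((P : Subgroup G) : Set G)) = 2 ∧
        ∀ Q : Subgroup G, Q ≤ P → Nat.card Q = p →
          IsMulCommutative ↥(Subgroup.centralizer (Q : Set G)) ∧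
          ∀ x : G, x ∈ Subgroup.normalizer (Q : Set G) → x ∉ Subgroup.centralizer (Q : Set G) →
            orderOf x = 2 ∧ ∀ c : G, c ∈ Subgroup.centralizer (Q : Set G) → x * c * x⁻¹ = c⁻¹)) :
    RestrictedPi p G := by
  classical
  intro H hN hC
  obtain ⟨S⟩ := (inferInstance : Nonempty (Sylow p H))
  haveI hSn := hN S
  have hq := hC S
  have hSG : IsPGroup p ((S : Subgroup H).map H.subtype) := S.isPGroup'.map _
  obtain ⟨P1, hP1⟩ := hSG.exists_le_sylow
  obtain ⟨g, hg⟩ := MulAction.exists_smul_eq G P P1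
  have hmemP : ∀ w : H, w ∈ (S : Subgroup H) → g⁻¹ * (w : G) * g ∈ (P : Subgroup G) := by
    intro w hw
    have h1 : (w : G) ∈ (P1 : Subgroup G) := hP1 ⟨w, hw, rfl⟩
    rw [← hg, Sylow.coe_subgroup_smul] at h1
    exact mem_conj_smul.mp h1
  have hScyc : IsCyclic (S : Subgroup H) := by
    let φ : (S : Subgroup H) →* (P : Subgroup G) :=
      ((MulAut.conj g⁻¹).toMonoidHom.comp (H.subtype.comp (S : Subgroup H).subtype)).codRestrict
        (P : Subgroup G) (by
          intro w
          have := hmemP w.1 w.2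
          simpa [MulAut.conj_apply] using this)
    apply isCyclic_of_injective φ
    intro a b hab
    have h1 : g⁻¹ * (a.1 : G) * g = g⁻¹ * (b.1 : G) * g := by
      have := congrArg Subtype.val hab
      simpa [φ, MulAut.conj_apply] using this
    have h2 : (a.1 : G) = b.1 := by
      have h3 := mul_right_cancel h1
      exact mul_left_cancel h3
    exact Subtype.ext (Subtype.ext h2)
  have hScomm : ∀ a ∈ (S : Subgroup H), ∀ b ∈ (S : Subgroup H), a * b = b * a := by
    intro a ha b hb
    have := hScyc.commutative.is_comm.comm (⟨a, ha⟩ : (S : Subgroup H)) ⟨b, hb⟩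
    exact congrArg Subtype.val this
  rcases hcase with hNC | ⟨_, hR⟩
  · left
    have hle : Subgroup.normalizer ((P : Subgroup G) : Set G) ≤
        Subgroup.centralizer ((P : Subgroup G) : Set G) := le_of_eq hNC
    let f := MonoidHom.transferSylow P hle
    have hcomp := MonoidHom.ker_transferSylow_isComplement' P hle
    apply cyc_of_central S _ hScyc hq
    intro w hw
    rw [Subgroup.mem_center_iff]
    intro x
    set a : H := x * w * x⁻¹ * w⁻¹ with ha
    have haS : a ∈ (S : Subgroup H) :=
      Subgroup.mul_mem _ (hSn.conj_mem w hw x) (Subgroup.inv_mem _ hw)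
    have hfa : (a : G) ∈ f.ker := by
      rw [MonoidHom.mem_ker]
      have e : (a : G) = (x : G) * (w : G) * (x : G)⁻¹ * (w : G)⁻¹ := rfl
      rw [e, map_mul, map_mul, map_mul, map_inv, map_inv]
      have : ∀ u v : (P : Subgroup G), u * v = v * u := hcyc.commutative.is_comm.comm
      rw [this (f x) (f w)]
      group
    have h1 := hmemP a haS
    have h2 : g⁻¹ * (a : G) * g ∈ f.ker := by
      have := (MonoidHom.normal_ker f).conj_mem _ hfa g⁻¹
      simpa using this
    have h3 : g⁻¹ * (a : G) * g = 1 := by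
      have hd := hcomp.disjoint
      exact (Subgroup.disjoint_def.mp hd) h2 h1
    have h4 : (a : G) = 1 := by
      have h5 : (a : G) = g * (g⁻¹ * (a : G) * g) * g⁻¹ := by group
      rw [h5, h3]
      group
    have h5 : a = 1 := Subtype.ext h4
    rw [ha] at h5
    have h6 : x * w * x⁻¹ = w := by
      exact mul_inv_eq_one.mp h5
    exact mul_inv_eq_iff_eq_mul.mp h6
  · have hRt : ∀ t ∈ (P : Subgroup G), orderOf t = p → RtProp t := by
      intro t ht hot
      have hQ := hR (Subgroup.zpowers t) ((Subgroup.zpowers_le).mpr ht)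
        (by rw [Nat.card_zpowers, hot])
      obtain ⟨hQ1, hQ2⟩ := hQ
      constructor
      · intro c d hc hd
        have := hQ1.is_comm.comm (⟨c, mem_centralizer_zpowers_of_comm hc⟩ :
          Subgroup.centralizer ((Subgroup.zpowers t : Subgroup G) : Set G))
          ⟨d, mem_centralizer_zpowers_of_comm hd⟩
        exact congrArg Subtype.val this
      · intro x hx hne
        have hxC : x ∉ Subgroup.centralizer ((Subgroup.zpowers t : Subgroup G) : Set G) := by
          intro h
          apply hne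
          exact ((Subgroup.mem_centralizer_iff.mp h) t (Subgroup.mem_zpowers t)).symm
        obtain ⟨h1, h2⟩ := hQ2 x (normalizer_of_conj_mem t x hx) hxC
        exact ⟨h1, fun c hc => h2 c (mem_centralizer_zpowers_of_comm hc)⟩
    have hRt' : ∀ w : H, w ∈ (S : Subgroup H) → orderOf (w : G) = p → RtProp (w : G) := by
      intro w hw ho
      have h1 := hmemP w hw
      have h2 : orderOf (g⁻¹ * (w : G) * g) = p := by
        have := Cfsg.Agent.H15.orderOf_conj_eq g⁻¹ (w : G)
        rw [inv_inv] at this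
        rw [this, ho]
      have h3 := rt_conj g (hRt _ h1 h2)
      have e : g * (g⁻¹ * (w : G) * g) * g⁻¹ = w := by group
      rwa [e] at h3
    by_cases hS1 : (S : Subgroup H) = ⊥
    · left
      apply cyc_of_central S _ hScyc hq
      rw [hS1]
      exact bot_le
    have hp' : p ∣ Nat.card (S : Subgroup H) := by
      obtain ⟨k, hk⟩ := IsPGroup.iff_card.mp S.isPGroup'
      rw [hk]
      have hk0 : k ≠ 0 := by
        rintro rfl
        apply hS1
        rw [← Subgroup.card_eq_one]
        simpa using hk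
      exact dvd_pow_self p hk0
    obtain ⟨t0, ht0⟩ := exists_prime_orderOf_dvd_card' p hp'
    set t : G := ((t0 : H) : G) with htdef
    have hot : orderOf t = p := by
      rw [htdef, Subgroup.orderOf_coe, Subgroup.orderOf_coe, ht0]
    have hR0 := hRt' t0.1 t0.2 hot
    have hconjt : ∀ x : H, (x : G) * t * (x : G)⁻¹ ∈ Subgroup.zpowers t := by
      intro x
      let w : (S : Subgroup H) := ⟨x * t0.1 * x⁻¹, hSn.conj_mem _ t0.2 x⟩
      have hwp : w ^ p = 1 := by
        apply Subtype.ext
        have : (t0.1 : H) ^ p = 1 := by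
          have := pow_orderOf_eq_one t0
          rw [ht0] at this
          exact congrArg Subtype.val this
        simp only [w, Subgroup.coe_pow, Subgroup.coe_one, conj_pow, this]
        group
      have h1 := mem_zpowers_of_cyclic (Fact.out : p.Prime).pos ht0 hwp
      obtain ⟨k, hk⟩ := h1
      refine ⟨k, ?_⟩
      have hk' : t0 ^ k = w := hk
      have h2 := congrArg (fun z : (S : Subgroup H) => ((z : H) : G)) hk'
      simpa [w, htdef] using h2
    by_cases hcomm : ∀ x : H, (x : G) * t = t * (x : G)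
    · left
      apply cyc_of_central S _ hScyc hq
      intro w _
      rw [Subgroup.mem_center_iff]
      intro x
      apply Subtype.ext
      exact hR0.1 _ _ (hcomm x) (hcomm w)
    · push_neg at hcomm
      obtain ⟨x, hx⟩ := hcomm
      obtain ⟨hx1, hx2⟩ := hR0.2 x.1 (hconjt x) hx
      have hxx : (x : G) * x = 1 := by
        rw [← pow_two, ← hx1, pow_orderOf_eq_one]
      have hSt : ∀ w : H, w ∈ (S : Subgroup H) → (w : G) * t = t * (w : G) := by
        intro w hw
        have := hScomm w hw t0.1 t0.2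
        exact congrArg Subtype.val this
      have hxS : x ∉ (S : Subgroup H) := fun h => hx (hSt x h)
      haveI : IsCyclic (H ⧸ (S : Subgroup H)) := hq
      have hqcomm : ∀ a b : H ⧸ (S : Subgroup H), a * b = b * a := IsCyclic.commutative.is_comm.comm
      have hH0 : ∀ a : H, (a : G) * t = t * (a : G) → a ∈ (S : Subgroup H) := by
        intro a ha
        by_contra haS
        have h1 : x * a * x⁻¹ = a⁻¹ := Subtype.ext (hx2 a.1 ha)
        have h2 : ((a : H) : H ⧸ (S : Subgroup H)) ^ 2 = 1 := by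
          have h3 := congrArg (fun z : H => (z : H ⧸ (S : Subgroup H))) h1
          simp only [QuotientGroup.mk_mul, QuotientGroup.mk_inv] at h3
          rw [hqcomm _ ((a : H) : H ⧸ (S : Subgroup H)), mul_assoc, mul_inv_cancel, mul_one] at h3
          rw [pow_two]
          nth_rewrite 1 [h3]
          simp
        have h4 : orderOf ((a : H) : H ⧸ (S : Subgroup H)) = 2 := by
          apply orderOf_eq_prime h2
          rw [Ne, QuotientGroup.eq_one_iff]
          exact haS
        have h5 : orderOf ((x : H) : H ⧸ (S : Subgroup H)) = 2 := by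
          apply orderOf_eq_prime
          · rw [← QuotientGroup.mk_pow, pow_two, show x * x = 1 from Subtype.ext hxx]
            rfl
          · rw [Ne, QuotientGroup.eq_one_iff]
            exact hxS
        have h6 := Cfsg.Agent.H15.unique_involution_of_cyclic h4 h5
        rw [QuotientGroup.eq] at h6
        have h7 := hSt _ h6
        apply hx
        have e : (x : G) = a * ((a⁻¹ * x : H) : G) := by simp
        rw [e, mul_assoc, h7, ← mul_assoc, ha, mul_assoc]
      have hu : ∀ u : H, u ∈ (S : Subgroup H) ∨ u * x ∈ (S : Subgroup H) := by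
        intro u
        by_cases hut : (u : G) * t = t * (u : G)
        · exact Or.inl (hH0 u hut)
        · right
          apply hH0
          obtain ⟨_, hu2⟩ := hR0.2 u.1 (hconjt u) hut
          have h1 := hu2 t rfl
          have h2 := hx2 t rfl
          have h3 : (u : G) * x * t * ((u : G) * x)⁻¹ = t := by
            have e : (u : G) * x * t * ((u : G) * x)⁻¹ = u * ((x : G) * t * (x : G)⁻¹) * (u : G)⁻¹ := by
              group
            rw [e, h2]
            have e2 : (u : G) * t⁻¹ * (u : G)⁻¹ = ((u : G) * t * (u : G)⁻¹)⁻¹ := by group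
            rw [e2, h1, inv_inv]
          have h4 := mul_inv_eq_iff_eq_mul.mp h3
          exact h4
      have hindex : (S : Subgroup H).index = 2 := by
        rw [Subgroup.index_eq_two_iff]
        refine ⟨x, ?_⟩
        intro b
        by_cases hb : b ∈ (S : Subgroup H)
        · right
          refine ⟨hb, ?_⟩
          intro h
          apply hxS
          have h2 := Subgroup.mul_mem _ (Subgroup.inv_mem _ hb) h
          simpa using h2
        · left
          exact ⟨(hu b).resolve_left hb, hb⟩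
      obtain ⟨k, hk⟩ := IsPGroup.iff_card.mp S.isPGroup'
      obtain ⟨γ, hγ⟩ := hScyc.exists_generator
      have hoγ : orderOf (γ : H) = p ^ k := by
        rw [Subgroup.orderOf_coe, orderOf_eq_card_of_forall_mem_zpowers hγ, hk]
      right
      refine ⟨k, Cfsg.Agent.H15.dihedral_of (γ : H) x (p ^ k)
        (pow_ne_zero _ (Fact.out : p.Prime).ne_zero) hoγ (Subtype.ext hxx) ?_ ?_ ?_⟩
      · apply Subtype.ext
        exact hx2 _ (hSt _ γ.2)
      · have := (S : Subgroup H).card_mul_index
        rw [hindex, hk] at this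
        rw [← this]
        ring
      · intro h
        apply hxS
        have hle : Subgroup.zpowers (γ : H) ≤ (S : Subgroup H) := by
          rw [Subgroup.zpowers_le]
          exact γ.2
        exact hle h

end pi

end Cfsg.Agent.H19
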