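import Mathlib
import Cfsg.Agent.Lib.H19.PDih
import Cfsg.Agent.Lib.H19.SmallClass
import Cfsg.Agent.Lib.H14.UniqueSub
import Cfsg.Agent.Lib.H15.EarlyChar2
import Cfsg.Agent.Lib.H01.NormalFour

/-!
A `2`-group without a normal four-subgroup has a cyclic subgroup of index at most two.
-/

set_option autoImplicit false

namespace Cfsg.Agent.H19

open scoped commutatorElement

open QuaternionGroup in
theorem quaternion_no_central4 {k : ℕ} (hk : 1 ≤ k) (b : QuaternionGroup (2 ^ k))
    (hc : ∀ x, x * b = b * x) : b ^ 2 = 1 := by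
  haveI : NeZero (2 * 2 ^ k) := ⟨by positivity⟩
  rcases b with i | i
  · have h1 := hc (xa 0)
    rw [xa_mul_a, a_mul_xa] at h1
    have h2 : (0 : ZMod (2 * 2 ^ k)) + i = 0 - i := xa.inj h1
    have h3 : i + i = 0 := by
      rw [zero_add, zero_sub] at h2
      nth_rewrite 1 [h2]
      simp
    rw [pow_two, a_mul_a, h3, a_zero]
  · exfalso
    have h1 := hc (a 1)
    rw [a_mul_xa, xa_mul_a] at h1
    have h2 : i - 1 = i + (1 : ZMod (2 * 2 ^ k)) := xa.inj h1
    have h3 : ((2 : ℕ) : ZMod (2 * 2 ^ k)) = 0 := by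
      have : (1 : ZMod (2 * 2 ^ k)) + 1 = 0 := by
        have h4 : i + 1 + (1 + 1 : ZMod (2 * 2 ^ k)) - (1 + 1) = i - 1 + (1 + 1) := by
          ring
        have h5 : i - 1 + (1 + 1) = i + 1 := by ring
        linear_combination (-1 : ZMod (2 * 2 ^ k)) * h2
      push_cast
      rw [← this]
      norm_num
    rw [ZMod.natCast_eq_zero_iff] at h3
    have h4 := Nat.le_of_dvd (by norm_num) h3
    have h5 : 2 ^ 1 ≤ 2 ^ k := Nat.pow_le_pow_right (by norm_num) hk
    omega

variable {T : Type*} [Group T] [Finite T]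

/-- a central element of order dividing `2` modulo a normal subgroup. -/
theorem exists_central_mod2 (hT : IsPGroup 2 T) (N W : Subgroup T) (hN : N.Normal) [hWn : W.Normal]
    (hW : ¬ N ≤ W) : ∃ y ∈ N, y ∉ W ∧ y ^ 2 ∈ W ∧ ∀ s : T, ⁅y, s⁆ ∈ W := by
  classical
  haveI : Fact (Nat.Prime 2) := ⟨Nat.prime_two⟩
  haveI : Group.IsNilpotent T := hT.isNilpotent
  obtain ⟨y0, hy0N, hy0W, hy0c⟩ := Cfsg.Agent.H15.exists_central_mod N W hN hW
  obtain ⟨e, he⟩ := IsPGroup.iff_orderOf.mp (hT.to_quotient W) (y0 : T ⧸ W)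
  have hne : (y0 : T ⧸ W) ≠ 1 := by
    rw [Ne, QuotientGroup.eq_one_iff]
    exact hy0W
  have he0 : e ≠ 0 := by
    rintro rfl
    apply hne
    rw [pow_zero] at he
    exact orderOf_eq_one_iff.mp he
  obtain ⟨e', rfl⟩ : ∃ e', e = e' + 1 := ⟨e - 1, by omega⟩
  have hordmk : orderOf (y0 : T ⧸ W) = 2 ^ (e' + 1) := he
  set y := y0 ^ 2 ^ e' with hy
  refine ⟨y, N.pow_mem hy0N _, ?_, ?_, ?_⟩
  · rw [← QuotientGroup.eq_one_iff, hy, QuotientGroup.mk_pow]
    exact pow_ne_one_of_lt_orderOf (by positivity) (by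
      rw [hordmk, pow_succ]
      have : 0 < 2 ^ e' := by positivity
      omega)
  · rw [← QuotientGroup.eq_one_iff, hy, ← pow_mul, QuotientGroup.mk_pow, ← pow_succ, ← hordmk]
    exact pow_orderOf_eq_one _
  · intro s
    have h1 : (y0 : T ⧸ W) * (s : T ⧸ W) = (s : T ⧸ W) * (y0 : T ⧸ W) := by
      have h2 : ((⁅y0, s⁆ : T) : T ⧸ W) = 1 := (QuotientGroup.eq_one_iff _).mpr (hy0c s)
      have h3 : ⁅(y0 : T ⧸ W), (s : T ⧸ W)⁆ = 1 := by
        rw [← h2]
        rfl
      exact commutatorElement_eq_one_iff_commute.mp h3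
    have h2 : Commute (y0 : T ⧸ W) (s : T ⧸ W) := h1
    rw [← QuotientGroup.eq_one_iff]
    have h3 := h2.pow_left (2 ^ e')
    have h4 : ⁅((y : T) : T ⧸ W), (s : T ⧸ W)⁆ = 1 := by
      rw [commutatorElement_eq_one_iff_commute, hy, QuotientGroup.mk_pow]
      exact h3
    exact h4

/-- no normal four-subgroup: a cyclic subgroup of index at most two -/
theorem exists_cyclic_index_two (hT : IsPGroup 2 T)
    (hno : ¬ ∃ V : Subgroup T, V.Normal ∧ Nat.card V = 4 ∧ ∀ v ∈ V, v ^ 2 = 1) :
    ∃ C : Subgroup T, IsCyclic C ∧ C.index ≤ 2 := by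
  classical
  haveI : Fact (Nat.Prime 2) := ⟨Nat.prime_two⟩
  haveI : Group.IsNilpotent T := hT.isNilpotent
  by_cases hcyc : IsCyclic T
  · exact ⟨⊤, by
      exact isCyclic_of_surjective (Subgroup.topEquiv (G := T)).symm.toMonoidHom
        (Subgroup.topEquiv (G := T)).symm.surjective, by simp⟩
  have hnt : Nontrivial T := by
    by_contra hn
    rw [not_nontrivial_iff_subsingleton] at hn
    exact hcyc inferInstance
  -- a central involution
  have hZnt : Nontrivial (Subgroup.center T) := hT.center_nontrivial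
  have h2Z : 2 ∣ Nat.card (Subgroup.center T) := by
    obtain ⟨k, hk⟩ := IsPGroup.iff_card.mp (hT.to_subgroup (Subgroup.center T))
    rw [hk]
    have hk0 : k ≠ 0 := by
      rintro rfl
      have : Nat.card (Subgroup.center T) = 1 := by simpa using hk
      have h3 := Finite.one_lt_card (α := Subgroup.center T)
      omega
    exact dvd_pow_self 2 hk0
  obtain ⟨z0, hz0⟩ := exists_prime_orderOf_dvd_card' 2 h2Z
  set z : T := z0.1 with hzdef
  have hoz : orderOf z = 2 := by rw [hzdef, Subgroup.orderOf_coe, hz0]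
  have hz2 : z ^ 2 = 1 := by rw [← hoz, pow_orderOf_eq_one]
  have hz1 : z ≠ 1 := by
    intro h
    rw [h, orderOf_one] at hoz
    omega
  have hzcomm : ∀ t : T, t * z = z * t := fun t => Subgroup.mem_center_iff.mp z0.2 t
  have hzc : ∀ t : T, t * z * t⁻¹ = z := by
    intro t
    rw [hzcomm t]
    group
  set Z := Subgroup.zpowers z with hZ
  haveI hZn : Z.Normal := by
    constructor
    intro n hn g
    obtain ⟨k, rfl⟩ := Subgroup.mem_zpowers_iff.mp hn
    rw [← conj_zpow, hzc]
    exact Subgroup.zpow_mem_zpowers z k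
  have hmemZ : ∀ w, w ∈ Z → w = 1 ∨ w = z := fun w hw =>
    Cfsg.Agent.H01.mem_zpowers_sq hz2 hw
  have hTZ : ¬ (⊤ : Subgroup T) ≤ Z := by
    intro h
    apply hcyc
    have hEq : Z = ⊤ := le_antisymm le_top h
    have e : Z ≃* T := (MulEquiv.subgroupCongr hEq).trans Subgroup.topEquiv
    exact isCyclic_of_surjective e.toMonoidHom e.surjective
  obtain ⟨b, -, hbZ, hb2, hbc⟩ := exists_central_mod2 hT ⊤ Z inferInstance hTZ
  have hbc' : ∀ t : T, t * b * t⁻¹ * b⁻¹ ∈ Z := by
    intro t
    have h3 := Z.inv_mem (hbc t)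
    rw [commutatorElement_inv] at h3
    exact h3
  have hb2z : b ^ 2 = z := by
    rcases hmemZ _ hb2 with h | h
    · exfalso
      apply hno
      obtain ⟨V, hV1, hV2, hV3, -, -⟩ := Cfsg.Agent.H01.mk_normal_four hz2 hz1 hzc h hbZ hbc'
      exact ⟨V, hV1, hV2, hV3⟩
    · exact h
  have hbconj : ∀ t : T, t * b * t⁻¹ = b ∨ t * b * t⁻¹ = z * b := by
    intro t
    rcases hmemZ _ (hbc' t) with h | h
    · left
      exact mul_inv_eq_one.mp h
    · right
      exact mul_inv_eq_iff_eq_mul.mp h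
  have hb4 : b ^ 4 = 1 := by
    have : b ^ 4 = (b ^ 2) ^ 2 := by rw [← pow_mul]
    rw [this, hb2z, hz2]
  have hbo : orderOf b = 4 := by
    have h1 : ¬ b ^ 2 ^ 1 = 1 := by
      rw [pow_one, hb2z]
      exact hz1
    have h2 : b ^ 2 ^ (1 + 1) = 1 := by simpa using hb4
    have := orderOf_eq_prime_pow h1 h2
    simpa using this
  have hzb : z ∈ Subgroup.zpowers b := by
    rw [← hb2z]
    exact Subgroup.pow_mem _ (Subgroup.mem_zpowers b) 2
  set C := Subgroup.centralizer ({b} : Set T) with hCdef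
  have hmemC : ∀ c, c ∈ C ↔ c * b = b * c := fun c => Subgroup.mem_centralizer_singleton_iff
  have hidx : C.index ≤ 2 := by
    have h1 := relIndex_centralizer_le_ncard (⊤ : Subgroup T) b {b, z * b} (by
      intro c _
      rcases hbconj c with h | h
      · left; exact h
      · right; exact h)
    rw [Subgroup.relIndex_top_right] at h1
    have h2 : ({b, z * b} : Set T).ncard ≤ 2 := by
      have := Set.ncard_insert_le b ({z * b} : Set T)
      rw [Set.ncard_singleton] at this
      exact this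
    exact le_trans h1 h2
  haveI hCn : C.Normal := by
    constructor
    intro c hc t
    rw [hmemC] at hc ⊢
    have hzcc : c * z = z * c := hzcomm c
    have h1 : c * (t⁻¹ * b * t) = (t⁻¹ * b * t) * c := by
      have h2 := hbconj t⁻¹
      rw [inv_inv] at h2
      rcases h2 with h | h
      · rw [h, hc]
      · rw [h, ← mul_assoc, hzcc, mul_assoc, hc, mul_assoc]
    calc t * c * t⁻¹ * b = t * (c * (t⁻¹ * b * t)) * t⁻¹ := by group
      _ = t * ((t⁻¹ * b * t) * c) * t⁻¹ := by rw [h1]
      _ = b * (t * c * t⁻¹) := by group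
  let S : Set (Subgroup T) := {D | D.Normal ∧ b ∈ D ∧ D ≤ C ∧ IsCyclic D}
  have hS0 : Subgroup.zpowers b ∈ S := by
    refine ⟨?_, Subgroup.mem_zpowers b, ?_, Subgroup.isCyclic_zpowers b⟩
    · constructor
      intro n hn g
      obtain ⟨k, rfl⟩ := Subgroup.mem_zpowers_iff.mp hn
      rw [← conj_zpow]
      apply Subgroup.zpow_mem
      rcases hbconj g with h | h
      · rw [h]
        exact Subgroup.mem_zpowers b
      · rw [h]
        exact Subgroup.mul_mem _ hzb (Subgroup.mem_zpowers b)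
    · rw [Subgroup.zpowers_le, hmemC]
  obtain ⟨D, hDmax⟩ := S.toFinite.exists_maximal ⟨_, hS0⟩
  obtain ⟨hDn, hbD, hDC, hDc⟩ := hDmax.1
  haveI := hDn
  by_cases hCD : C ≤ D
  · have hEq : C = D := le_antisymm hCD hDC
    refine ⟨C, ?_, hidx⟩
    rw [hEq]
    exact hDc
  exfalso
  obtain ⟨y, hyC, hyD, hy2, hyc⟩ := exists_central_mod2 hT C D hCn hCD
  let π := QuotientGroup.mk' D
  have hπy2 : (π y) ^ 2 = 1 := by
    rw [← map_pow]
    exact (QuotientGroup.eq_one_iff _).mpr hy2
  have hπc : ∀ s : T ⧸ D, s * π y = π y * s := by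
    intro s
    obtain ⟨s, rfl⟩ := QuotientGroup.mk'_surjective D s
    have h1 : π ⁅y, s⁆ = 1 := (QuotientGroup.eq_one_iff _).mpr (hyc s)
    rw [map_commutatorElement, commutatorElement_eq_one_iff_commute] at h1
    exact h1.symm.eq
  let D1 : Subgroup T := (Subgroup.zpowers (π y)).comap π
  have hD1mem : ∀ x, x ∈ D1 ↔ x ∈ D ∨ y⁻¹ * x ∈ D := by
    intro x
    constructor
    · intro hx
      rcases Cfsg.Agent.H01.mem_zpowers_sq hπy2 hx with h | h
      · left
        exact (QuotientGroup.eq_one_iff _).mp h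
      · right
        exact QuotientGroup.eq.mp h.symm
    · rintro (h | h)
      · have h1 : π x = 1 := (QuotientGroup.eq_one_iff _).mpr h
        rw [Subgroup.mem_comap, h1]
        exact Subgroup.one_mem _
      · have h1 : π y = π x := QuotientGroup.eq.mpr h
        rw [Subgroup.mem_comap, ← h1]
        exact Subgroup.mem_zpowers _
  haveI hD1n : D1.Normal := by
    apply Subgroup.Normal.comap
    constructor
    intro n hn g
    obtain ⟨k, rfl⟩ := Subgroup.mem_zpowers_iff.mp hn
    have h1 : g * π y * g⁻¹ = π y := by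
      rw [hπc g]
      group
    rw [← conj_zpow, h1]
    exact Subgroup.zpow_mem_zpowers _ k
  have hDD1 : D ≤ D1 := fun x hx => (hD1mem x).mpr (Or.inl hx)
  have hyD1 : y ∈ D1 := (hD1mem y).mpr (Or.inr (by simp [D.one_mem]))
  have hD1C : D1 ≤ C := by
    intro x hx
    rcases (hD1mem x).mp hx with h | h
    · exact hDC h
    · have h2 := C.mul_mem hyC (hDC h)
      simpa using h2
  have hbD1 : b ∈ D1 := hDD1 hbD
  have hD1nc : ¬ IsCyclic D1 := by
    intro hc
    have h1 : D1 ∈ S := ⟨hD1n, hbD1, hD1C, hc⟩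
    exact hyD (hDmax.2 h1 hDD1 hyD1)
  have hD1p : IsPGroup 2 D1 := hT.to_subgroup D1
  have hnu : ¬ Cfsg.Agent.H14.UniqueP 2 D1 := by
    intro hu
    rcases Cfsg.Agent.H14.isCyclic_or_quaternion hD1p hu with h | ⟨_, k, hk, ⟨e⟩⟩
    · exact hD1nc h
    · have h1 := quaternion_no_central4 hk (e ⟨b, hbD1⟩) (by
        intro x
        obtain ⟨x, rfl⟩ := e.surjective x
        rw [← map_mul, ← map_mul]
        congr 1
        apply Subtype.ext
        exact (hmemC x.1).mp (hD1C x.2))
      rw [← map_pow] at h1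
      have h2 : (⟨b, hbD1⟩ : D1) ^ 2 = 1 := e.injective (by rw [h1, map_one])
      have h3 : b ^ 2 = 1 := congrArg Subtype.val h2
      rw [hb2z] at h3
      exact hz1 h3
  have hzD : z ∈ D := by
    rw [← hb2z]
    exact D.pow_mem hbD 2
  have hDinv : ∀ w ∈ D, w ^ 2 = 1 → w = 1 ∨ w = z := by
    intro w hw hw2
    by_cases hw1 : w = 1
    · exact Or.inl hw1
    right
    have h1 : orderOf (⟨w, hw⟩ : D) = 2 := by
      rw [Subgroup.orderOf_mk]
      exact orderOf_eq_prime hw2 hw1
    have h2 : orderOf (⟨z, hzD⟩ : D) = 2 := by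
      rw [Subgroup.orderOf_mk]
      exact hoz
    have := Cfsg.Agent.H15.unique_involution_of_cyclic h1 h2
    exact congrArg Subtype.val this
  obtain ⟨u, huD1, hu2, hu1, huD⟩ : ∃ u ∈ D1, u ^ 2 = 1 ∧ u ≠ 1 ∧ u ∉ D := by
    unfold Cfsg.Agent.H14.UniqueP at hnu
    push_neg at hnu
    obtain ⟨x1, x2, hx1, hx2, hx12⟩ := hnu
    have ho1 : orderOf (x1 : T) = 2 := by rw [Subgroup.orderOf_coe, hx1]
    have ho2 : orderOf (x2 : T) = 2 := by rw [Subgroup.orderOf_coe, hx2]
    have hs1 : (x1 : T) ^ 2 = 1 := by rw [← ho1, pow_orderOf_eq_one]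
    have hs2 : (x2 : T) ^ 2 = 1 := by rw [← ho2, pow_orderOf_eq_one]
    have hn1 : (x1 : T) ≠ 1 := by
      intro h
      rw [h, orderOf_one] at ho1
      omega
    have hn2 : (x2 : T) ≠ 1 := by
      intro h
      rw [h, orderOf_one] at ho2
      omega
    by_cases h1 : (x1 : T) ∈ D
    · by_cases h2 : (x2 : T) ∈ D
      · exfalso
        apply hx12
        have e1 := (hDinv _ h1 hs1).resolve_left hn1
        have e2 := (hDinv _ h2 hs2).resolve_left hn2
        have : x2 = x1 := Subtype.ext (by rw [e1, e2])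
        rw [this]
        exact Subgroup.mem_zpowers _
      · exact ⟨x2, x2.2, hs2, hn2, h2⟩
    · exact ⟨x1, x1.2, hs1, hn1, h1⟩
  have huC : u * b = b * u := (hmemC u).mp (hD1C huD1)
  have hui : u⁻¹ = u := by
    apply inv_eq_of_mul_eq_one_left
    rw [← pow_two]
    exact hu2
  have hinv : ∀ x ∈ D1, x ^ 2 = 1 → x = 1 ∨ x = z ∨ x = u ∨ x = u * z := by
    intro x hx hx2
    by_cases hxD : x ∈ D
    · rcases hDinv x hxD hx2 with h | h
      · exact Or.inl h
      · exact Or.inr (Or.inl h)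
    right; right
    have h1 := ((hD1mem x).mp hx).resolve_left hxD
    have h2 := ((hD1mem u).mp huD1).resolve_left huD
    have hwD : u⁻¹ * x ∈ D := by
      have h3 := D.mul_mem (D.inv_mem h2) h1
      have e : (y⁻¹ * u)⁻¹ * (y⁻¹ * x) = u⁻¹ * x := by group
      rwa [e] at h3
    set w := u⁻¹ * x with hw
    have hxw : x = u * w := by rw [hw]; group
    have hconj : u * w * u⁻¹ = w⁻¹ := by
      rw [hui]
      apply eq_inv_of_mul_eq_one_left
      have hx3 : (u * w) * (u * w) = 1 := by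
        rw [← hxw, ← pow_two]
        exact hx2
      have e : u * w * u * w = (u * w) * (u * w) := by group
      rw [e]
      exact hx3
    have hw2 : w ^ 2 = 1 := by
      by_contra hw2
      obtain ⟨e, he⟩ := IsPGroup.iff_orderOf.mp hT w
      have he2 : 2 ≤ e := by
        by_contra hlt
        have h3 : orderOf w ∣ 2 := by
          rw [he]
          have : e ≤ 1 := by omega
          exact (pow_dvd_pow 2 this).trans (by norm_num)
        exact hw2 (orderOf_dvd_iff_pow_eq_one.mp h3)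
      have hw' : orderOf (⟨w, hwD⟩ : D) = orderOf w := Subgroup.orderOf_mk w hwD
      have hbw : (⟨b, hbD⟩ : D) ^ orderOf w = 1 := by
        apply Subtype.ext
        have h4 : (4 : ℕ) ∣ orderOf w := by
          rw [he]
          have : (4 : ℕ) = 2 ^ 2 := by norm_num
          rw [this]
          exact pow_dvd_pow 2 he2
        obtain ⟨c, hc⟩ := h4
        simp only [Subgroup.coe_pow, Subgroup.coe_one]
        rw [hc, pow_mul, hb4, one_pow]
      have h4 := mem_zpowers_of_cyclic (orderOf_pos w) hw' hbw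
      obtain ⟨k, hk⟩ := h4
      have hk' : w ^ k = b := congrArg Subtype.val hk
      have h5 : u * b * u⁻¹ = b⁻¹ := by
        rw [← hk', ← conj_zpow, hconj, inv_zpow]
      have h6 : u * b * u⁻¹ = b := by
        rw [huC]
        group
      rw [h6] at h5
      have h7 : b ^ 2 = 1 := by
        rw [pow_two]
        nth_rewrite 1 [h5]
        simp
      rw [hb2z] at h7
      exact hz1 h7
    rcases hDinv w hwD hw2 with h | h
    · left
      rw [hxw, h, mul_one]
    · right
      rw [hxw, h]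
  apply hno
  have huZ : u ∉ Z := by
    intro h
    rcases hmemZ u h with h | h
    · exact hu1 h
    · exact huD (h ▸ hzD)
  obtain ⟨V, hV1, hV2, hV3, -, -⟩ := Cfsg.Agent.H01.mk_normal_four hz2 hz1 hzc hu2 huZ (by
    intro t
    have h1 : t * u * t⁻¹ ∈ D1 := hD1n.conj_mem u huD1 t
    have h2 : (t * u * t⁻¹) ^ 2 = 1 := by
      rw [conj_pow, hu2]
      group
    rcases hinv _ h1 h2 with h | h | h | h
    · exfalso
      apply hu1
      have h3 : u = t⁻¹ * (t * u * t⁻¹) * t := by group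
      rw [h3, h]
      group
    · exfalso
      apply huZ
      have h3 : u = t⁻¹ * (t * u * t⁻¹) * t := by group
      have h4 := hzc t⁻¹
      rw [inv_inv] at h4
      rw [h3, h, h4]
      exact Subgroup.mem_zpowers z
    · rw [h, mul_inv_cancel]
      exact Z.one_mem
    · rw [h]
      have e : u * z * u⁻¹ = z := hzc u
      rw [e]
      exact Subgroup.mem_zpowers z)
  exact ⟨V, hV1, hV2, hV3⟩

end Cfsg.Agent.H19
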