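import Mathlib
import Cfsg.Agent.Lib.H19.NoV4
import Cfsg.Agent.Lib.H19.RankClass2
import Cfsg.Agent.Lib.H19.Index2

/-!
A `2`-group acting faithfully on an abelian group of odd order: bound for the number of generators.
-/

set_option autoImplicit false

namespace Cfsg.Agent.H19

open scoped commutatorElement Pointwise

universe v w

/-- the index of the Frattini subgroup -/
noncomputable def fr (X : Type*) [Group X] : ℕ := (frattini X).index

section frattini

variable {X : Type*} [Group X] [Finite X]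

theorem fr_pos : 0 < fr X := Nat.pos_of_ne_zero Subgroup.index_ne_zero_of_finite

theorem fr_sub (hX : IsPGroup 2 X) (K : Subgroup X) [hK : K.Normal] : fr X ≤ fr K * fr (X ⧸ K) := by
  classical
  haveI : Fact (Nat.Prime 2) := ⟨Nat.prime_two⟩
  set Φ := frattini X with hΦ
  have hcomm : commutator X ≤ Φ := Cfsg.Agent.H01.commutator_le_frattini_of_isPGroup hX
  have hsq : ∀ x : X, x ^ 2 ∈ Φ := fun x => Cfsg.Agent.H01.pow_mem_frattini_of_isPGroup hX x
  haveI hΦn : Φ.Normal := Subgroup.normal_of_characteristic _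
  set L := Φ ⊔ K with hL
  have h1 : Φ.relIndex L * L.index = Φ.index := Subgroup.relIndex_mul_index le_sup_left
  have h2 : Φ.relIndex L = Φ.relIndex K := by
    rw [hL, Subgroup.relIndex_sup_left]
  have h3 : Φ.relIndex K ≤ fr K := by
    apply Nat.le_of_dvd fr_pos
    apply Subgroup.index_dvd_of_le
    haveI : (Φ.subgroupOf K).Normal := hΦn.subgroupOf K
    apply Cfsg.Agent.H01.frattini_le_of_comm_pow (p := 2)
    · rw [_root_.commutator_def, Subgroup.commutator_le]
      intro a _ b _
      rw [Subgroup.mem_subgroupOf]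
      apply hcomm
      rw [_root_.commutator_def]
      exact Subgroup.commutator_mem_commutator (Subgroup.mem_top _) (Subgroup.mem_top _)
    · intro x
      rw [Subgroup.mem_subgroupOf]
      exact hsq x.1
  have h4 : L.index ≤ fr (X ⧸ K) := by
    let q := QuotientGroup.mk' K
    have hLn : L.Normal := normal_of_commutator_le (le_trans hcomm le_sup_left)
    haveI : (L.map q).Normal := hLn.map q (QuotientGroup.mk'_surjective K)
    have hle : frattini (X ⧸ K) ≤ L.map q := by
      apply Cfsg.Agent.H01.frattini_le_of_comm_pow (p := 2)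
      · rw [_root_.commutator_def, Subgroup.commutator_le]
        intro a _ b _
        obtain ⟨a, rfl⟩ := QuotientGroup.mk'_surjective K a
        obtain ⟨b, rfl⟩ := QuotientGroup.mk'_surjective K b
        refine ⟨⁅a, b⁆, ?_, map_commutatorElement _ _ _⟩
        apply (le_sup_left : Φ ≤ L)
        apply hcomm
        rw [_root_.commutator_def]
        exact Subgroup.commutator_mem_commutator (Subgroup.mem_top _) (Subgroup.mem_top _)
      · intro x
        obtain ⟨a, rfl⟩ := QuotientGroup.mk'_surjective K x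
        exact ⟨a ^ 2, (le_sup_left : Φ ≤ L) (hsq a), map_pow _ _ _⟩
    have hle2 : (frattini (X ⧸ K)).comap q ≤ L := by
      intro x hx
      obtain ⟨l, hl, hlx⟩ := hle hx
      have h5 : l⁻¹ * x ∈ K := QuotientGroup.eq.mp hlx
      have h6 : x = l * (l⁻¹ * x) := by group
      rw [h6]
      exact L.mul_mem hl ((le_sup_right : K ≤ L) h5)
    have h7 : ((frattini (X ⧸ K)).comap q).index = fr (X ⧸ K) :=
      Subgroup.index_comap_of_surjective _ (QuotientGroup.mk'_surjective K)
    rw [← h7]
    exact Nat.le_of_dvd (Nat.pos_of_ne_zero Subgroup.index_ne_zero_of_finite)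
      (Subgroup.index_dvd_of_le hle2)
  calc fr X = Φ.relIndex L * L.index := h1.symm
    _ ≤ fr K * fr (X ⧸ K) := by
      rw [h2]
      exact Nat.mul_le_mul h3 h4

theorem fr_le_card : fr X ≤ Nat.card X := by
  have := (frattini X).card_mul_index
  unfold fr
  rw [← this]
  exact Nat.le_mul_of_pos_left _ Nat.card_pos

theorem fr_index_two (hX : IsPGroup 2 X) (M : Subgroup X) (hM : M.index = 2) : fr X ≤ fr M * 2 := by
  haveI : M.Normal := Subgroup.normal_of_index_eq_two hM
  refine (fr_sub hX M).trans (Nat.mul_le_mul_left _ ?_)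
  refine fr_le_card.trans ?_
  rw [← hM, Subgroup.index_eq_card]

theorem fr_cyclic (hX : IsPGroup 2 X) (hc : IsCyclic X) : fr X ≤ 2 := by
  haveI : Fact (Nat.Prime 2) := ⟨Nat.prime_two⟩
  unfold fr
  rw [Subgroup.index_eq_card]
  haveI : (frattini X).Normal := Subgroup.normal_of_characteristic _
  have hq : IsCyclic (X ⧸ frattini X) :=
    isCyclic_of_surjective (QuotientGroup.mk' (frattini X)) (QuotientGroup.mk'_surjective _)
  obtain ⟨zq, hzq⟩ := hq.exists_generator
  obtain ⟨y, rfl⟩ := QuotientGroup.mk_surjective zq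
  rw [← orderOf_eq_card_of_forall_mem_zpowers hzq]
  apply Nat.le_of_dvd (by norm_num)
  apply orderOf_dvd_of_pow_eq_one
  rw [← QuotientGroup.mk_pow]
  exact (QuotientGroup.eq_one_iff _).mpr (Cfsg.Agent.H01.pow_mem_frattini_of_isPGroup hX y)

theorem fr_noncomm (hX : IsPGroup 2 X) (a b : X) (hab : a * b ≠ b * a) : fr X * 2 ≤ Nat.card X := by
  haveI : Fact (Nat.Prime 2) := ⟨Nat.prime_two⟩
  have hcomm : commutator X ≤ frattini X := Cfsg.Agent.H01.commutator_le_frattini_of_isPGroup hX
  have hne : frattini X ≠ ⊥ := by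
    intro h
    rw [h, le_bot_iff] at hcomm
    apply hab
    have h1 : ⁅a, b⁆ ∈ commutator X := by
      rw [_root_.commutator_def]
      exact Subgroup.commutator_mem_commutator (Subgroup.mem_top _) (Subgroup.mem_top _)
    rw [hcomm, Subgroup.mem_bot] at h1
    exact commutatorElement_eq_one_iff_commute.mp h1
  have h1 := (frattini X).card_mul_index
  have h2 : 1 < Nat.card (frattini X) := (Subgroup.one_lt_card_iff_ne_bot _).mpr hne
  unfold fr
  rw [← h1, mul_comm]
  exact Nat.mul_le_mul_right _ h2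

end frattini

section action

variable {V : Type v} [CommGroup V]

/-- fixed points of an automorphism -/
def Vp (f : MulAut V) : Subgroup V where
  carrier := {v | f v = v}
  one_mem' := map_one f
  mul_mem' := by
    intro a b ha hb
    simp only [Set.mem_setOf_eq] at ha hb ⊢
    rw [map_mul, ha, hb]
  inv_mem' := by
    intro a ha
    simp only [Set.mem_setOf_eq] at ha ⊢
    rw [map_inv, ha]

/-- the elements inverted by an automorphism -/
def Vm (f : MulAut V) : Subgroup V where
  carrier := {v | f v = v⁻¹}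
  one_mem' := by simp
  mul_mem' := by
    intro a b ha hb
    simp only [Set.mem_setOf_eq] at ha hb ⊢
    rw [map_mul, ha, hb, mul_inv]
  inv_mem' := by
    intro a ha
    simp only [Set.mem_setOf_eq] at ha ⊢
    rw [map_inv, ha]

theorem mem_Vp {f : MulAut V} {v : V} : v ∈ Vp f ↔ f v = v := Iff.rfl

theorem mem_Vm {f : MulAut V} {v : V} : v ∈ Vm f ↔ f v = v⁻¹ := Iff.rfl

variable [Finite V]

theorem eq_one_of_sq (hodd : Odd (Nat.card V)) {v : V} (h : v ^ 2 = 1) : v = 1 := by
  obtain ⟨k, hk⟩ := hodd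
  have h1 := pow_card_eq_one' (x := v)
  rw [hk, pow_succ, pow_mul, h, one_pow, one_mul] at h1
  exact h1

theorem split_Vp_Vm (hodd : Odd (Nat.card V)) (f : MulAut V) (hf : f * f = 1) (v : V) :
    ∃ a ∈ Vp f, ∃ b ∈ Vm f, v = a * b := by
  obtain ⟨k, hk⟩ := hodd
  have hff : ∀ x, f (f x) = x := fun x => by
    have := congrArg (fun g : MulAut V => g x) hf
    simpa using this
  refine ⟨(v * f v) ^ (k + 1), ?_, (v * (f v)⁻¹) ^ (k + 1), ?_, ?_⟩
  · rw [mem_Vp, map_pow, map_mul, hff, mul_comm]
  · rw [mem_Vm, map_pow, map_mul, map_inv, hff, ← inv_pow, mul_inv, inv_inv, mul_comm]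
  · rw [← mul_pow]
    have e : v * f v * (v * (f v)⁻¹) = v ^ 2 := by
      rw [pow_two]
      calc v * f v * (v * (f v)⁻¹) = v * v * (f v * (f v)⁻¹) := by ac_rfl
        _ = v * v := by rw [mul_inv_cancel, mul_one]
    rw [e, ← pow_mul]
    have h1 := pow_card_eq_one' (x := v)
    rw [hk] at h1
    have e2 : 2 * (k + 1) = (2 * k + 1) + 1 := by ring
    rw [e2, pow_succ, h1, one_mul]

theorem card_Vp_Vm (hodd : Odd (Nat.card V)) (f : MulAut V) (hf : f * f = 1) :
    Nat.card (Vp f) * Nat.card (Vm f) = Nat.card V := by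
  have hdisj : Disjoint (Vp f) (Vm f) := by
    rw [Subgroup.disjoint_def]
    intro v h1 h2
    rw [mem_Vp] at h1
    rw [mem_Vm, h1] at h2
    apply eq_one_of_sq hodd
    rw [pow_two]
    nth_rewrite 1 [h2]
    simp
  have huniv : ((Vp f : Subgroup V) : Set V) * ((Vm f : Subgroup V) : Set V) = Set.univ := by
    ext v
    simp only [Set.mem_univ, iff_true]
    obtain ⟨a, ha, b, hb, rfl⟩ := split_Vp_Vm hodd f hf v
    exact Set.mul_mem_mul ha hb
  exact (Subgroup.isComplement'_of_disjoint_and_mul_eq_univ hdisj huniv).card_mul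

/-- restriction of an action to an invariant subgroup -/
def resHom {X : Type*} [Group X] (ρ : X →* MulAut V) (U : Subgroup V)
    (hU : ∀ a : X, ∀ u ∈ U, ρ a u ∈ U) : X →* MulAut U where
  toFun a :=
    { toFun := fun u => ⟨ρ a u.1, hU a u.1 u.2⟩
      invFun := fun u => ⟨ρ a⁻¹ u.1, hU a⁻¹ u.1 u.2⟩
      left_inv := by
        intro u
        apply Subtype.ext
        change ρ a⁻¹ (ρ a u.1) = u.1
        rw [← MulAut.mul_apply, ← map_mul]
        simp
      right_inv := by
        intro u
        apply Subtype.ext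
        change ρ a (ρ a⁻¹ u.1) = u.1
        rw [← MulAut.mul_apply, ← map_mul]
        simp
      map_mul' := by
        intro u u'
        apply Subtype.ext
        simp }
  map_one' := by
    ext u
    simp
  map_mul' := by
    intro a b
    ext u
    simp

theorem resHom_apply {X : Type*} [Group X] (ρ : X →* MulAut V) (U : Subgroup V)
    (hU : ∀ a : X, ∀ u ∈ U, ρ a u ∈ U) (a : X) (u : U) :
    ((resHom ρ U hU a u : U) : V) = ρ a u.1 := rfl

variable {X : Type w} [Group X] [Finite X]

theorem product_step (hX : IsPGroup 2 X) (ρ : X →* MulAut V) (hρ : Function.Injective ρ)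
    (U1 U2 : Subgroup V) (hU1 : ∀ a : X, ∀ u ∈ U1, ρ a u ∈ U1) (hU2 : ∀ a : X, ∀ u ∈ U2, ρ a u ∈ U2)
    (hgen : ∀ v : V, ∃ a ∈ U1, ∃ b ∈ U2, v = a * b) {c1 c2 : ℕ}
    (hc1 : ∀ (Y : Type w) [Group Y] [Finite Y], IsPGroup 2 Y → ∀ σ : Y →* MulAut U1,
      Function.Injective σ → fr Y ≤ c1)
    (hc2 : ∀ (Y : Type w) [Group Y] [Finite Y], IsPGroup 2 Y → ∀ σ : Y →* MulAut U2,
      Function.Injective σ → fr Y ≤ c2) : fr X ≤ c1 * c2 := by
  classical
  let ρ1 := resHom ρ U1 hU1
  let K := ρ1.ker
  haveI : K.Normal := MonoidHom.normal_ker _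
  have h1 := fr_sub hX K
  have h2 : fr K ≤ c2 := by
    apply hc2 K (hX.to_subgroup K) ((resHom ρ U2 hU2).comp K.subtype)
    rw [injective_iff_map_eq_one]
    intro a ha
    apply Subtype.ext
    apply hρ
    change ρ a.1 = ρ 1
    rw [map_one]
    ext v
    obtain ⟨x, hx, y, hy, rfl⟩ := hgen v
    have hax : ρ a.1 x = x := by
      have h3 : ρ1 a.1 = 1 := a.2
      have h4 := congrArg (fun g : MulAut U1 => ((g ⟨x, hx⟩ : U1) : V)) h3
      exact h4
    have hay : ρ a.1 y = y := by
      have h4 := congrArg (fun g : MulAut U2 => ((g ⟨y, hy⟩ : U2) : V)) ha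
      exact h4
    rw [map_mul, hax, hay]
    rfl
  have h3 : fr (X ⧸ K) ≤ c1 :=
    hc1 (X ⧸ K) (hX.to_quotient K) (QuotientGroup.kerLift ρ1) (QuotientGroup.kerLift_injective ρ1)
  calc fr X ≤ fr K * fr (X ⧸ K) := h1
    _ ≤ c2 * c1 := Nat.mul_le_mul h2 h3
    _ = c1 * c2 := mul_comm _ _

end action

end Cfsg.Agent.H19
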