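import Mathlib
import Cfsg.Agent.Lib.H19.FrBound

set_option autoImplicit false

namespace Cfsg.Agent.H19

open scoped commutatorElement Pointwise

universe v w

/-- the bound -/
def hB (t : ℕ) : ℕ := if t = 3 then 2 else if t = 1 then 1 else t / 2

theorem hB_three : hB 3 = 2 := rfl
theorem hB_one : hB 1 = 1 := rfl

theorem hB_of_ge {t : ℕ} (h : 4 ≤ t) : hB t = t / 2 := by
  unfold hB
  rw [if_neg (by omega), if_neg (by omega)]

theorem hB_mul {a b : ℕ} (ha : 3 ≤ a) (hb : 3 ≤ b) : hB a * hB b ≤ hB (a * b) := by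
  have hab : 9 ≤ a * b := Nat.mul_le_mul ha hb
  rw [hB_of_ge (t := a * b) (by omega)]
  have key : ∀ c, 3 ≤ c → 2 * hB c ≤ c + 1 ∧ (4 ≤ c → 2 * hB c ≤ c) := by
    intro c hc
    rcases Nat.lt_or_ge c 4 with h | h
    · have : c = 3 := by omega
      subst this
      simp [hB_three]
    · rw [hB_of_ge h]
      omega
  rw [Nat.le_div_iff_mul_le (by norm_num)]
  obtain ⟨h1, h2⟩ := key a ha
  obtain ⟨h3, h4⟩ := key b hb
  rcases Nat.lt_or_ge a 4 with h5 | h5
  · have : a = 3 := by omega
    subst this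
    rcases Nat.lt_or_ge b 4 with h6 | h6
    · have : b = 3 := by omega
      subst this
      simp [hB_three]
    · rw [hB_three]
      have := h4 h6
      nlinarith
  · have h7 := h2 h5
    nlinarith

theorem hB_sq {s : ℕ} (hs : 5 ≤ s) : hB s * hB s * 2 ≤ hB (s * s) := by
  have : 25 ≤ s * s := Nat.mul_le_mul hs hs
  rw [hB_of_ge (by omega), hB_of_ge (by omega), Nat.le_div_iff_mul_le (by norm_num)]
  have h1 : 2 * (s / 2) ≤ s := by omega
  nlinarith [Nat.mul_le_mul h1 h1]

theorem hB_le_sub {t : ℕ} (h : 3 ≤ t) : hB t ≤ t - 1 := by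
  rcases Nat.lt_or_ge t 4 with h1 | h1
  · have : t = 3 := by omega
    subst this
    simp [hB_three]
  · rw [hB_of_ge h1]
    omega

theorem two_le_hB {t : ℕ} (h : 3 ≤ t) : 2 ≤ hB t := by
  rcases Nat.lt_or_ge t 4 with h1 | h1
  · have : t = 3 := by omega
    subst this
    simp [hB_three]
  · rw [hB_of_ge h1]
    omega

theorem one_le_hB {t : ℕ} (hodd : Odd t) : 1 ≤ hB t := by
  rcases Nat.lt_or_ge t 3 with h | h
  · have : t = 1 := by
      obtain ⟨k, hk⟩ := hodd
      omega
    subst this
    simp [hB_one]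
  · exact le_trans (by norm_num) (two_le_hB h)

section

variable {V : Type v} [CommGroup V] [Finite V]
variable {X : Type w} [Group X] [Finite X]

theorem isCyclic_of_prime_action {p : ℕ} (hp : p.Prime)
    (hV : Nat.card V = p) (ρ : X →* MulAut V) (hρ : Function.Injective ρ) : IsCyclic X := by
  haveI : Fact p.Prime := ⟨hp⟩
  haveI hc : IsCyclic V := isCyclic_of_prime_card hV
  subst hV
  let e := IsCyclic.mulAutMulEquiv V
  exact isCyclic_of_injective (e.toMonoidHom.comp ρ) (e.injective.comp hρ)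

theorem exists_central_involution (hX : IsPGroup 2 X) (hne : Nontrivial X) :
    ∃ z : X, z ≠ 1 ∧ z ^ 2 = 1 ∧ ∀ a : X, a * z = z * a := by
  haveI : Fact (Nat.Prime 2) := ⟨Nat.prime_two⟩
  haveI := hX.center_nontrivial
  have hC : (Subgroup.center X) ≠ ⊥ := by
    intro h
    have h2 : Nontrivial (Subgroup.center X) := inferInstance
    rw [h] at h2
    exact not_nontrivial_iff_subsingleton.mpr inferInstance h2
  have hcard : 1 < Nat.card (Subgroup.center X) := (Subgroup.one_lt_card_iff_ne_bot _).mpr hC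
  have hdvd : 2 ∣ Nat.card (Subgroup.center X) := by
    have hp := (hX.to_subgroup (Subgroup.center X))
    obtain ⟨n, hn⟩ := IsPGroup.iff_card.mp hp
    rw [hn] at hcard ⊢
    rcases n with _ | n
    · simp at hcard
    · exact dvd_pow_self 2 (Nat.succ_ne_zero n)
  obtain ⟨z, hz⟩ := exists_prime_orderOf_dvd_card' 2 hdvd
  refine ⟨z.1, ?_, ?_, ?_⟩
  · intro h
    have : z = 1 := Subtype.ext h
    rw [this, orderOf_one] at hz
    omega
  · have h2 : z ^ 2 = 1 := by rw [← hz]; exact pow_orderOf_eq_one z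
    exact congrArg Subtype.val h2
  · intro a
    exact (Subgroup.mem_center_iff.mp z.2 a)

end

theorem mem_zpowers_two_cases {X : Type*} [Group X] {z x : X} (hz : z ^ 2 = 1)
    (hx : x ∈ Subgroup.zpowers z) : x = 1 ∨ x = z := by
  obtain ⟨k, rfl⟩ := Subgroup.mem_zpowers_iff.mp hx
  obtain ⟨m, rfl | rfl⟩ := k.even_or_odd'
  · left
    rw [zpow_mul]
    simp [hz]
  · right
    rw [zpow_add, zpow_mul]
    simp [hz]

variable {V : Type v} [CommGroup V] [Finite V]
variable {X : Type w} [Group X] [Finite X]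

theorem hyp_mul_eq_one {X : Type*} [Group X] (ρ : X →* MulAut V) {z : X} (hz : z ^ 2 = 1) :
    ρ z * ρ z = 1 := by
  rw [← map_mul, ← pow_two, hz, map_one]

theorem invariant_Vp {X : Type*} [Group X] (ρ : X →* MulAut V) {z a : X} (h : a * z = z * a) :
    ∀ u ∈ Vp (ρ z), ρ a u ∈ Vp (ρ z) := by
  intro u hu
  rw [mem_Vp] at hu ⊢
  rw [← MulAut.mul_apply, ← map_mul, ← h, map_mul, MulAut.mul_apply, hu]

theorem invariant_Vm {X : Type*} [Group X] (ρ : X →* MulAut V) {z a : X} (h : a * z = z * a) :
    ∀ u ∈ Vm (ρ z), ρ a u ∈ Vm (ρ z) := by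
  intro u hu
  rw [mem_Vm] at hu ⊢
  rw [← MulAut.mul_apply, ← map_mul, ← h, map_mul, MulAut.mul_apply, hu, map_inv]

/-- The main bound. -/
theorem claimT : ∀ t : ℕ, ∀ (V : Type v) [CommGroup V] [Finite V] (X : Type w) [Group X] [Finite X],
    Odd t → Nat.card V = t → IsPGroup 2 X → ∀ ρ : X →* MulAut V, Function.Injective ρ →
      fr X ≤ hB t := by
  intro t
  induction t using Nat.strong_induction_on with
  | _ t IH =>
  intro V _ _ X _ _ hodd hV hX ρ hρ
  classical
  haveI : Fact (Nat.Prime 2) := ⟨Nat.prime_two⟩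
  have hVodd : Odd (Nat.card V) := hV ▸ hodd
  by_cases htriv : Nontrivial X
  swap
  · have h1 : Subsingleton X := not_nontrivial_iff_subsingleton.mp htriv
    have h2 : fr X ≤ Nat.card X := fr_le_card
    rw [Nat.card_of_subsingleton (1 : X)] at h2
    exact h2.trans (one_le_hB hodd)
  rcases Nat.lt_or_ge t 3 with h3 | h3
  · exfalso
    have ht1 : t = 1 := by
      obtain ⟨k, hk⟩ := hodd
      omega
    rw [ht1] at hV
    have hVs : Subsingleton V := (Nat.card_eq_one_iff_unique.mp hV).1
    obtain ⟨a, ha⟩ := exists_ne (1 : X)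
    apply ha
    apply hρ
    rw [map_one]
    ext v
    exact Subsingleton.elim _ _
  by_cases hcyc : IsCyclic X
  · exact (fr_cyclic hX hcyc).trans (two_le_hB h3)
  have ht9 : 9 ≤ t := by
    by_contra hlt
    have h7 : t = 3 ∨ t = 5 ∨ t = 7 := by
      obtain ⟨k, hk⟩ := hodd
      omega
    apply hcyc
    rcases h7 with h | h | h
    · exact isCyclic_of_prime_action (p := 3) (by norm_num) (by omega) ρ hρ
    · exact isCyclic_of_prime_action (p := 5) (by norm_num) (by omega) ρ hρ
    · exact isCyclic_of_prime_action (p := 7) (by norm_num) (by omega) ρ hρ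
  -- central involutions
  obtain ⟨z, hz1, hz2, hzc⟩ := exists_central_involution hX htriv
  -- case A
  by_cases hA : ∃ z : X, z ≠ 1 ∧ z ^ 2 = 1 ∧ (∀ a : X, a * z = z * a) ∧ Vp (ρ z) ≠ ⊥
  · obtain ⟨z, hz1, hz2, hzc, hVp⟩ := hA
    have hff := hyp_mul_eq_one ρ hz2
    have hcard := card_Vp_Vm hVodd (ρ z) hff
    have hVm : Vm (ρ z) ≠ ⊥ := by
      intro hVm
      apply hz1
      apply hρ
      rw [map_one]
      ext v
      obtain ⟨a, ha, b, hb, rfl⟩ := split_Vp_Vm hVodd (ρ z) hff v
      rw [hVm, Subgroup.mem_bot] at hb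
      subst hb
      rw [mul_one]
      exact ha
    have h1 := (Subgroup.one_lt_card_iff_ne_bot _).mpr hVp
    have h2 := (Subgroup.one_lt_card_iff_ne_bot _).mpr hVm
    have hcard' : Nat.card (Vp (ρ z)) * Nat.card (Vm (ρ z)) = t := by rw [hcard, hV]
    have hoddA : Odd (Nat.card (Vp (ρ z))) := by
      rw [← hcard'] at hodd
      exact (Nat.odd_mul.mp hodd).1
    have hoddB : Odd (Nat.card (Vm (ρ z))) := by
      rw [← hcard'] at hodd
      exact (Nat.odd_mul.mp hodd).2
    have h1' : 3 ≤ Nat.card (Vp (ρ z)) := by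
      obtain ⟨k, hk⟩ := hoddA
      omega
    have h2' : 3 ≤ Nat.card (Vm (ρ z)) := by
      obtain ⟨k, hk⟩ := hoddB
      omega
    have hlt1 : Nat.card (Vp (ρ z)) < t := by
      rw [← hcard']
      exact lt_mul_of_one_lt_right (by omega) (by omega)
    have hlt2 : Nat.card (Vm (ρ z)) < t := by
      rw [← hcard']
      exact lt_mul_of_one_lt_left (by omega) (by omega)
    have hstep := product_step hX ρ hρ (Vp (ρ z)) (Vm (ρ z))
      (fun a => invariant_Vp ρ (hzc a)) (fun a => invariant_Vm ρ (hzc a))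
      (split_Vp_Vm hVodd (ρ z) hff)
      (c1 := hB (Nat.card (Vp (ρ z)))) (c2 := hB (Nat.card (Vm (ρ z))))
      (fun Y _ _ hY σ hσ => IH _ hlt1 _ Y hoddA rfl hY σ hσ)
      (fun Y _ _ hY σ hσ => IH _ hlt2 _ Y hoddB rfl hY σ hσ)
    rw [← hcard']
    exact hstep.trans (hB_mul h1' h2')
  have hAll : ∀ z : X, z ≠ 1 → z ^ 2 = 1 → (∀ a : X, a * z = z * a) → ∀ v : V, ρ z v = v⁻¹ := by
    intro z h1 h2 h3 v
    have h4 : Vp (ρ z) = ⊥ := by
      by_contra h
      exact hA ⟨z, h1, h2, h3, h⟩
    obtain ⟨a, ha, b, hb, rfl⟩ := split_Vp_Vm hVodd (ρ z) (hyp_mul_eq_one ρ h2) v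
    rw [h4, Subgroup.mem_bot] at ha
    subst ha
    rw [one_mul]
    exact hb
  have hUniq : ∀ z' : X, z' ≠ 1 → z' ^ 2 = 1 → (∀ a : X, a * z' = z' * a) → z' = z := by
    intro z' h1 h2 h3
    apply hρ
    ext v
    rw [hAll z' h1 h2 h3, hAll z hz1 hz2 hzc]
  -- case B
  by_cases hV4 : ∃ W : Subgroup X, W.Normal ∧ Nat.card W = 4 ∧ ∀ v ∈ W, v ^ 2 = 1
  swap
  · obtain ⟨C, hC, hidx⟩ := exists_cyclic_index_two hX hV4
    have h1 := card_quot_frattini_le hX C hC hidx
    have h2 : fr X = Nat.card (X ⧸ frattini X) := rfl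
    rw [h2]
    refine h1.trans ?_
    rw [hB_of_ge (by omega)]
    omega
  obtain ⟨W, hWn, hW4, hWinv⟩ := hV4
  have hzW : z ∈ W := by
    haveI := hWn
    obtain ⟨y0, hy0W, hy0, hy02, hy0c⟩ := exists_central_mod2 hX W ⊥ hWn (by
      intro h
      have h1 : W = ⊥ := le_bot_iff.mp h
      rw [h1, Subgroup.card_bot] at hW4
      omega)
    have hy0' : y0 ≠ 1 := fun h => hy0 (by rw [h]; exact Subgroup.one_mem _)
    have : y0 = z := hUniq y0 hy0' (Subgroup.mem_bot.mp hy02) (fun a => by
      have h1 := hy0c a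
      rw [Subgroup.mem_bot, commutatorElement_eq_one_iff_commute] at h1
      exact h1.eq.symm)
    rw [← this]
    exact hy0W
  have hzorder : orderOf z = 2 := orderOf_eq_prime hz2 hz1
  haveI : (Subgroup.zpowers z).Normal := by
    constructor
    intro n hn g
    obtain ⟨k, rfl⟩ := Subgroup.mem_zpowers_iff.mp hn
    have hc : g * z = z * g := hzc g
    have hc2 : Commute g (z ^ k) := (show Commute g z from hc).zpow_right k
    rw [hc2.eq, mul_assoc, mul_inv_cancel, mul_one]
    exact Subgroup.zpow_mem_zpowers z k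
  obtain ⟨u, huW, hunot, hu2, huc⟩ := exists_central_mod2 hX W (Subgroup.zpowers z) hWn (by
    intro h
    have h1 : Nat.card W ≤ Nat.card (Subgroup.zpowers z) :=
      Nat.le_of_dvd Nat.card_pos (Subgroup.card_dvd_of_le h)
    rw [Nat.card_zpowers, hzorder, hW4] at h1
    omega)
  have hu21 : u ^ 2 = 1 := hWinv u huW
  have hu1 : u ≠ 1 := fun h => hunot (by rw [h]; exact Subgroup.one_mem _)
  have huz : u ≠ z := fun h => hunot (by rw [h]; exact Subgroup.mem_zpowers z)
  have hmem2 : ∀ x ∈ Subgroup.zpowers z, x = 1 ∨ x = z := by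
    intro x hx
    have h1 := mem_zpowers_two_cases hz2 hx
    exact h1
  have hc01 : ∀ a : X, u * a = a * u ∨ u * a = z * a * u := by
    intro a
    rcases hmem2 _ (huc a) with h | h
    · left
      exact (commutatorElement_eq_one_iff_commute.mp h).eq
    · right
      rw [commutatorElement_def] at h
      calc u * a = (u * a * u⁻¹ * a⁻¹) * a * u := by group
        _ = z * a * u := by rw [h]
  have hex : ∃ y : X, u * y = z * y * u := by
    by_contra hno
    push_neg at hno
    apply huz
    apply hUniq u hu1 hu21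
    intro a
    rcases hc01 a with h | h
    · exact h.symm
    · exact absurd h (hno a)
  obtain ⟨y, hy⟩ := hex
  have hzu : ∀ a : X, z * a = a * z := fun a => (hzc a).symm
  let M : Subgroup X := Subgroup.centralizer {u}
  have hmemM : ∀ a : X, a ∈ M ↔ a * u = u * a := fun a => Subgroup.mem_centralizer_singleton_iff
  have hzz : z * z = 1 := by rw [← pow_two, hz2]
  have hnotc : ∀ a : X, u * a = z * a * u → ¬ (a * u = u * a) := by
    intro a h1 h2
    rw [← h2] at h1
    have h3 : a = z * a := mul_right_cancel h1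
    exact hz1 (mul_eq_right.mp h3.symm)
  have hidx : M.index = 2 := by
    rw [Subgroup.index_eq_two_iff]
    refine ⟨y, fun b => ?_⟩
    rcases hc01 b with h | h
    · right
      refine ⟨(hmemM b).mpr h.symm, ?_⟩
      rw [hmemM]
      apply hnotc
      calc u * (b * y) = (u * b) * y := by group
        _ = b * (u * y) := by rw [h]; group
        _ = b * (z * y * u) := by rw [hy]
        _ = (b * z) * y * u := by group
        _ = z * (b * y) * u := by rw [hzc b]; group
    · left
      refine ⟨?_, ?_⟩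
      · rw [hmemM]
        symm
        calc u * (b * y) = (u * b) * y := by group
          _ = (z * b * u) * y := by rw [h]
          _ = z * b * (u * y) := by group
          _ = z * b * (z * y * u) := by rw [hy]
          _ = z * (b * z) * y * u := by group
          _ = z * (z * b) * y * u := by rw [hzc b]
          _ = (z * z) * b * y * u := by group
          _ = (b * y) * u := by rw [hzz]; group
      · rw [hmemM]
        exact hnotc b h
  have hfr := fr_index_two hX M hidx
  set Up := Vp (ρ u) with hUp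
  set Um := Vm (ρ u) with hUm
  have huff := hyp_mul_eq_one ρ hu21
  have hcard := card_Vp_Vm hVodd (ρ u) huff
  have hinv : ∀ v : V, ρ z v = v⁻¹ := hAll z hz1 hz2 hzc
  have hswap : ∀ v : V, ρ u (ρ y v) = (ρ y (ρ u v))⁻¹ := by
    intro v
    rw [← MulAut.mul_apply, ← map_mul, hy, map_mul, map_mul, MulAut.mul_apply, MulAut.mul_apply,
      hinv]
  let f1 : Up → Um := fun w => ⟨ρ y w.1, by
    rw [hUm, mem_Vm, hswap, show ρ u w.1 = w.1 from w.2]⟩
  let f2 : Um → Up := fun w => ⟨ρ y w.1, by
    rw [hUp, mem_Vp, hswap, show ρ u w.1 = w.1⁻¹ from w.2, map_inv, inv_inv]⟩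
  have hf1 : Function.Injective f1 := by
    intro a b hab
    apply Subtype.ext
    exact (ρ y).injective (congrArg Subtype.val hab)
  have hf2 : Function.Injective f2 := by
    intro a b hab
    apply Subtype.ext
    exact (ρ y).injective (congrArg Subtype.val hab)
  have hs : Nat.card Up = Nat.card Um :=
    le_antisymm (Nat.card_le_card_of_injective f1 hf1) (Nat.card_le_card_of_injective f2 hf2)
  set s := Nat.card Up with hsdef
  have hcard' : s * s = t := by
    rw [← hV, ← hcard, ← hs]
  have hsodd : Odd s := by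
    rw [← hcard'] at hodd
    exact (Nat.odd_mul.mp hodd).1
  have hs3 : 3 ≤ s := by
    obtain ⟨k, hk⟩ := hsodd
    by_contra hlt
    have : k = 0 := by omega
    subst this
    simp at hk
    rw [hk] at hcard'
    omega
  have hslt : s < t := by
    rw [← hcard']
    exact lt_mul_of_one_lt_left (by omega) (by omega)
  let ρ' : M →* MulAut V := ρ.comp M.subtype
  have hρ' : Function.Injective ρ' := hρ.comp M.subtype_injective
  have hMc : ∀ a : M, a.1 * u = u * a.1 := fun a => (hmemM a.1).mp a.2
  have hinvP : ∀ a : M, ∀ w ∈ Up, ρ' a w ∈ Up := fun a => invariant_Vp ρ (hMc a)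
  have hinvM : ∀ a : M, ∀ w ∈ Um, ρ' a w ∈ Um := fun a => invariant_Vm ρ (hMc a)
  have hgen := split_Vp_Vm hVodd (ρ u) huff
  have hXM := hX.to_subgroup M
  have hstep : fr M ≤ hB s * hB s := by
    apply product_step hXM ρ' hρ' Up Um hinvP hinvM hgen
    · exact fun Y _ _ hY σ hσ => IH _ hslt _ Y hsodd rfl hY σ hσ
    · exact fun Y _ _ hY σ hσ => IH _ hslt _ Y hsodd hs.symm hY σ hσ
  rcases Nat.lt_or_ge s 5 with h5 | h5
  · have hs3' : s = 3 := by
      obtain ⟨k, hk⟩ := hsodd
      omega
    have htt : t = 9 := by rw [← hcard', hs3']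
    have hcardM : Nat.card M ≤ 4 := by
      let σ : M →* MulAut Up × MulAut Um :=
        MonoidHom.prod (resHom ρ' Up hinvP) (resHom ρ' Um hinvM)
      have hσ : Function.Injective σ := by
        rw [injective_iff_map_eq_one]
        intro a ha
        apply Subtype.ext
        apply hρ
        change ρ a.1 = ρ 1
        rw [map_one]
        ext v
        obtain ⟨x, hx, w, hw, rfl⟩ := hgen v
        have h1 : (σ a).1 = 1 := by rw [ha]; rfl
        have h2 : (σ a).2 = 1 := by rw [ha]; rfl
        have hax : ρ a.1 x = x := by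
          have h4 := congrArg (fun g : MulAut Up => ((g ⟨x, hx⟩ : Up) : V)) h1
          exact h4
        have hay : ρ a.1 w = w := by
          have h4 := congrArg (fun g : MulAut Um => ((g ⟨w, hw⟩ : Um) : V)) h2
          exact h4
        rw [map_mul, hax, hay]
        rfl
      have h1 := Nat.card_le_card_of_injective σ hσ
      rw [Nat.card_prod] at h1
      have hc1 : IsCyclic Up := isCyclic_of_prime_card (p := 3) (by rw [← hsdef, hs3'])
      have hc2 : IsCyclic Um := isCyclic_of_prime_card (p := 3) (by rw [← hs, hs3'])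
      have hA1 : Nat.card (MulAut Up) = 2 := by
        rw [IsCyclic.card_mulAut, ← hsdef, hs3']
        decide
      have hA2 : Nat.card (MulAut Um) = 2 := by
        rw [IsCyclic.card_mulAut, ← hs, hs3']
        decide
      rw [hA1, hA2] at h1
      exact h1
    have hcardX : Nat.card X ≤ 8 := by
      have h1 := M.card_mul_index
      rw [hidx] at h1
      omega
    have hncomm : y * u ≠ u * y := by
      rw [hy]
      intro h
      have h3 : y = z * y := mul_right_cancel h
      exact hz1 (mul_eq_right.mp h3.symm)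
    have h1 := fr_noncomm hX y u hncomm
    rw [htt, hB_of_ge (by norm_num)]
    omega
  · rw [← hcard']
    refine le_trans ?_ (hB_sq h5)
    exact hfr.trans (Nat.mul_le_mul_right _ hstep)

end Cfsg.Agent.H19
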