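import Mathlib
import Cfsg.Prelude.Def_KGroupFacts

/-! Hopf's description of the Schur multiplier (helper19).

For a surjection `ε : F →* Q` from a free group, `Cov ε = F/[ker ε, F]` is a central extension of `Q`
through which every central extension of `Q` is reached; its "multiplier"
`covM ε = ker ∩ commutator` is the Schur multiplier of `Q`. -/

set_option autoImplicit false
set_option linter.style.haveILetI false

namespace Cfsg.Agent.H19.Hopf

open scoped commutatorElement

universe u v w

section basic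

variable {F : Type u} [Group F] {Q : Type v} [Group Q] (ε : F →* Q)

/-- The subgroup `[ker ε, F]`. -/
abbrev relC : Subgroup F := ⁅ε.ker, (⊤ : Subgroup F)⁆

instance relC_normal : (relC ε).Normal := Subgroup.commutator_normal _ _

/-- The group `F/[ker ε, F]`. -/
abbrev Cov : Type u := F ⧸ relC ε

theorem relC_le_ker : relC ε ≤ ε.ker := by
  rw [Subgroup.commutator_le]
  intro x hx y _
  rw [MonoidHom.mem_ker] at hx ⊢
  rw [map_commutatorElement, hx, commutatorElement_one_left]

theorem relC_le_commutator : relC ε ≤ commutator F :=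
  Subgroup.commutator_mono le_top le_rfl

/-- The map `F/[ker ε, F] → Q`. -/
def covMap : Cov ε →* Q := QuotientGroup.lift (relC ε) ε (fun x hx => relC_le_ker ε hx)

@[simp] theorem covMap_mk (x : F) : covMap ε (x : Cov ε) = ε x := rfl

theorem covMap_surjective (hε : Function.Surjective ε) : Function.Surjective (covMap ε) := by
  intro y
  obtain ⟨x, rfl⟩ := hε y
  exact ⟨x, rfl⟩

/-- The kernel of `F/[ker ε, F] → Q`. -/
abbrev covKer : Subgroup (Cov ε) := (covMap ε).ker

theorem covKer_le_center : covKer ε ≤ Subgroup.center (Cov ε) := by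
  intro x hx
  obtain ⟨r, rfl⟩ := QuotientGroup.mk_surjective x
  have hr : r ∈ ε.ker := hx
  rw [Subgroup.mem_center_iff]
  intro g
  obtain ⟨s, rfl⟩ := QuotientGroup.mk_surjective g
  have h : ⁅r, s⁆ ∈ relC ε := Subgroup.commutator_mem_commutator hr (Subgroup.mem_top s)
  have h2 : ((⁅r, s⁆ : F) : Cov ε) = 1 := (QuotientGroup.eq_one_iff _).mpr h
  have h3 : ⁅(r : Cov ε), (s : Cov ε)⁆ = 1 := h2
  rw [commutatorElement_eq_one_iff_commute] at h3
  exact h3.symm.eq

/-- The Hopf multiplier `(ker ε ∩ F') / [ker ε, F]`, a subgroup of `F/[ker ε, F]`. -/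
abbrev covM : Subgroup (Cov ε) := covKer ε ⊓ commutator (Cov ε)

theorem covM_le_center : covM ε ≤ Subgroup.center (Cov ε) :=
  inf_le_left.trans (covKer_le_center ε)

end basic

section lift

variable {F : Type u} [Group F] [IsFreeGroup F] {Q : Type v} [Group Q] (ε : F →* Q)

/-- Free groups are projective. -/
theorem exists_free_lift {X : Type w} [Group X] (ξ : X →* Q) (hξ : Function.Surjective ξ) :
    ∃ f : F →* X, ξ.comp f = ε := by
  classical
  choose s hs using hξ
  refine ⟨IsFreeGroup.lift (fun a => s (ε (IsFreeGroup.of a))), ?_⟩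
  apply IsFreeGroup.ext_hom
  intro a
  simp [IsFreeGroup.lift_of, hs]

/-- Every central extension is reached from `Cov ε`. -/
theorem exists_cov_lift {X : Type w} [Group X] (ξ : X →* Q) (hξ : Function.Surjective ξ)
    (hcen : ξ.ker ≤ Subgroup.center X) : ∃ θ : Cov ε →* X, ξ.comp θ = covMap ε := by
  obtain ⟨f, hf⟩ := exists_free_lift ε ξ hξ
  have hker : relC ε ≤ f.ker := by
    rw [Subgroup.commutator_le]
    intro x hx y _
    rw [MonoidHom.mem_ker, map_commutatorElement, commutatorElement_eq_one_iff_commute]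
    have h1 : f x ∈ ξ.ker := by
      rw [MonoidHom.mem_ker]
      have := DFunLike.congr_fun hf x
      simp only [MonoidHom.comp_apply] at this
      rw [this]
      exact hx
    exact ((Subgroup.mem_center_iff.mp (hcen h1)) (f y)).symm
  refine ⟨QuotientGroup.lift (relC ε) f (fun x hx => hker hx), ?_⟩
  ext x
  exact DFunLike.congr_fun hf x

end lift

section image

variable {F : Type u} [Group F] {Q : Type v} [Group Q] (ε : F →* Q)

/-- Image of the multiplier under a lift to a central extension. -/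
theorem mem_image_covM {X : Type w} [Group X] (ξ : X →* Q)
    (hcen : ξ.ker ≤ Subgroup.center X) (θ : Cov ε →* X) (hθ : ξ.comp θ = covMap ε)
    (hε : Function.Surjective ε) (hξ : Function.Surjective ξ) {y : X} (hy : y ∈ ξ.ker)
    (hy2 : y ∈ commutator X) : ∃ w ∈ covM ε, θ w = y := by
  have hsurj : ∀ x : X, ∃ w : Cov ε, ∃ k ∈ ξ.ker, x = θ w * k := by
    intro x
    obtain ⟨w, hw⟩ := covMap_surjective ε hε (ξ x)
    refine ⟨w, (θ w)⁻¹ * x, ?_, by group⟩
    rw [MonoidHom.mem_ker, map_mul, map_inv]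
    have : ξ (θ w) = covMap ε w := DFunLike.congr_fun hθ w
    rw [this, hw, inv_mul_cancel]
  have hcomm : commutator X ≤ (commutator (Cov ε)).map θ := by
    rw [commutator_def, Subgroup.commutator_le]
    intro x _ x' _
    obtain ⟨w, k, hk, rfl⟩ := hsurj x
    obtain ⟨w', k', hk', rfl⟩ := hsurj x'
    have hk1 := Subgroup.mem_center_iff.mp (hcen hk)
    have hk2 := Subgroup.mem_center_iff.mp (hcen hk')
    have : ⁅θ w * k, θ w' * k'⁆ = θ ⁅w, w'⁆ := by
      rw [map_commutatorElement, commutatorElement_def, commutatorElement_def]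
      have e1 : θ w * k * (θ w' * k') * (θ w * k)⁻¹ * (θ w' * k')⁻¹
          = θ w * (k * θ w') * k' * (k⁻¹ * (θ w)⁻¹) * (k'⁻¹ * (θ w')⁻¹) := by
        simp only [mul_inv_rev, mul_assoc]
      rw [e1, ← hk1 (θ w')]
      have hk1i : ∀ g, g * k⁻¹ = k⁻¹ * g := fun g => by
        rw [eq_inv_mul_iff_mul_eq, ← mul_assoc, ← hk1 g, mul_inv_cancel_right]
      have hk2i : ∀ g, g * k'⁻¹ = k'⁻¹ * g := fun g => by
        rw [eq_inv_mul_iff_mul_eq, ← mul_assoc, ← hk2 g, mul_inv_cancel_right]
      calc θ w * (θ w' * k) * k' * (k⁻¹ * (θ w)⁻¹) * (k'⁻¹ * (θ w')⁻¹)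
          = θ w * θ w' * (k * (k' * k⁻¹)) * (θ w)⁻¹ * k'⁻¹ * (θ w')⁻¹ := by
            simp only [mul_assoc]
        _ = θ w * θ w' * k' * (θ w)⁻¹ * k'⁻¹ * (θ w')⁻¹ := by
            rw [hk1i k', ← mul_assoc k, mul_inv_cancel, one_mul]
        _ = θ w * θ w' * (k' * ((θ w)⁻¹ * k'⁻¹)) * (θ w')⁻¹ := by simp only [mul_assoc]
        _ = θ w * θ w' * (θ w)⁻¹ * (θ w')⁻¹ := by
            rw [hk2i (θ w)⁻¹, ← mul_assoc k', mul_inv_cancel, one_mul]
    rw [this]
    refine ⟨⁅w, w'⁆, ?_, rfl⟩
    rw [commutator_def]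
    exact Subgroup.commutator_mem_commutator (Subgroup.mem_top w) (Subgroup.mem_top w')
  obtain ⟨w, hw, rfl⟩ := hcomm hy2
  refine ⟨w, ⟨?_, hw⟩, rfl⟩
  rw [MonoidHom.mem_ker] at hy
  show covMap ε w = 1
  have : ξ (θ w) = covMap ε w := DFunLike.congr_fun hθ w
  rw [← this, hy]

/-- The multiplier maps into the commutator and into the kernel. -/
theorem image_covM_mem {X : Type w} [Group X] (ξ : X →* Q) (θ : Cov ε →* X)
    (hθ : ξ.comp θ = covMap ε) {w : Cov ε} (hw : w ∈ covM ε) :
    θ w ∈ ξ.ker ∧ θ w ∈ commutator X := by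
  constructor
  · rw [MonoidHom.mem_ker]
    have : ξ (θ w) = covMap ε w := DFunLike.congr_fun hθ w
    rw [this]
    exact hw.1
  · have h1 := Subgroup.mem_map_of_mem θ hw.2
    rw [commutator_def, Subgroup.map_commutator] at h1
    rw [commutator_def]
    exact Subgroup.commutator_mono le_top le_top h1

end image

section finite

theorem comm_mul_central_left {G : Type*} [Group G] {z : G} (h : ∀ g, g * z = z * g) (a b : G) :
    ⁅a * z, b⁆ = ⁅a, b⁆ := by
  rw [commutatorElement_def, commutatorElement_def]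
  calc a * z * b * (a * z)⁻¹ * b⁻¹ = a * (z * b) * (z⁻¹ * a⁻¹) * b⁻¹ := by simp only [mul_inv_rev, mul_assoc]
    _ = a * (b * z) * (z⁻¹ * a⁻¹) * b⁻¹ := by rw [h b]
    _ = a * b * (z * z⁻¹) * a⁻¹ * b⁻¹ := by simp only [mul_assoc]
    _ = a * b * a⁻¹ * b⁻¹ := by simp

theorem comm_mul_central_right {G : Type*} [Group G] {z : G} (h : ∀ g, g * z = z * g) (a b : G) :
    ⁅a, b * z⁆ = ⁅a, b⁆ := by
  rw [← commutatorElement_inv, comm_mul_central_left h, commutatorElement_inv]

theorem finite_commutator_of_finiteIndex {G : Type*} [Group G] (Z : Subgroup G)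
    [Z.FiniteIndex] (hZ : Z ≤ Subgroup.center G) : Finite (commutator G) := by
  classical
  haveI : Finite (G ⧸ Z) := inferInstance
  have hfin : Finite (commutatorSet G) := by
    let f : (G ⧸ Z) × (G ⧸ Z) → G := fun p => ⁅Quotient.out p.1, Quotient.out p.2⁆
    have hset : Set.Finite (Set.range f) := Set.finite_range f
    refine Set.Finite.subset hset ?_
    rintro _ ⟨x, y, rfl⟩
    have hx : ∃ z ∈ Z, x = Quotient.out (x : G ⧸ Z) * z := by
      refine ⟨(Quotient.out (x : G ⧸ Z))⁻¹ * x, ?_, by group⟩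
      exact QuotientGroup.eq.mp (QuotientGroup.out_eq' (x : G ⧸ Z))
    have hy : ∃ z ∈ Z, y = Quotient.out (y : G ⧸ Z) * z := by
      refine ⟨(Quotient.out (y : G ⧸ Z))⁻¹ * y, ?_, by group⟩
      exact QuotientGroup.eq.mp (QuotientGroup.out_eq' (y : G ⧸ Z))
    refine ⟨((x : G ⧸ Z), (y : G ⧸ Z)), ?_⟩
    obtain ⟨z, hz, hxz⟩ := hx
    obtain ⟨z', hz', hyz⟩ := hy
    show ⁅Quotient.out (x : G ⧸ Z), Quotient.out (y : G ⧸ Z)⁆ = _
    generalize Quotient.out (x : G ⧸ Z) = a at hxz
    generalize Quotient.out (y : G ⧸ Z) = b at hyz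
    subst hxz hyz
    have h1 := Subgroup.mem_center_iff.mp (hZ hz)
    have h2 := Subgroup.mem_center_iff.mp (hZ hz')
    rw [comm_mul_central_left h1, comm_mul_central_right h2]
  exact inferInstance

variable {F : Type u} [Group F] {Q : Type v} [Group Q] (ε : F →* Q) [Finite Q]

instance covKer_finiteIndex : (covKer ε).FiniteIndex := inferInstance

instance finite_commutator_cov : Finite (commutator (Cov ε)) :=
  finite_commutator_of_finiteIndex (covKer ε) (covKer_le_center ε)

instance finite_covM : Finite (covM ε) := by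
  have h : covM ε ≤ commutator (Cov ε) := inf_le_right
  exact Finite.of_injective (Subgroup.inclusion h) (Subgroup.inclusion_injective h)

end finite

section torsion

theorem torsionFree_abelianization (α : Type*) (x : Abelianization (FreeGroup α)) (n : ℕ) (hn : n ≠ 0)
    (h : x ^ n = 1) : x = 1 := by
  let e := FreeAbelianGroup.equivFinsupp α
  let y : FreeAbelianGroup α := Additive.ofMul x
  have h1 : n • y = 0 := by
    show Additive.ofMul (x ^ n) = 0
    rw [h]
    rfl
  have h2 : n • e y = 0 := by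
    rw [← map_nsmul, h1, map_zero]
  have h3 : e y = 0 := by
    rcases smul_eq_zero.mp h2 with h | h
    · exact absurd h hn
    · exact h
  have h4 : y = 0 := by
    apply e.injective
    rw [h3, map_zero]
  exact h4

theorem mem_commutator_of_pow_mem_free {F : Type*} [Group F] [IsFreeGroup F] (w : F) (n : ℕ) (hn : n ≠ 0)
    (h : w ^ n ∈ commutator F) : w ∈ commutator F := by
  let e := IsFreeGroup.toFreeGroup F
  have h1 : (e w) ^ n ∈ commutator (FreeGroup (IsFreeGroup.Generators F)) := by
    rw [← map_pow]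
    have h2 := Subgroup.mem_map_of_mem e.toMonoidHom h
    rw [commutator_def, Subgroup.map_commutator] at h2
    rw [commutator_def]
    exact Subgroup.commutator_mono le_top le_top h2
  have h3 : (Abelianization.of (e w)) ^ n = 1 := by
    rw [← map_pow]
    exact (QuotientGroup.eq_one_iff _).mpr h1
  have h4 := torsionFree_abelianization _ _ n hn h3
  have h5 : e w ∈ commutator (FreeGroup (IsFreeGroup.Generators F)) :=
    (QuotientGroup.eq_one_iff _).mp h4
  have h6 := Subgroup.mem_map_of_mem e.symm.toMonoidHom h5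
  rw [commutator_def, Subgroup.map_commutator] at h6
  rw [commutator_def]
  have h7 := Subgroup.commutator_mono le_top le_top h6
  simpa using h7

variable {F : Type u} [Group F] {Q : Type v} [Group Q] (ε : F →* Q)

theorem mk_mem_commutator_iff (x : F) : (x : Cov ε) ∈ commutator (Cov ε) ↔ x ∈ commutator F := by
  constructor
  · intro h
    have hsurj : Function.Surjective (QuotientGroup.mk' (relC ε)) := QuotientGroup.mk'_surjective _
    have hmap : commutator (Cov ε) = (commutator F).map (QuotientGroup.mk' (relC ε)) := by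
      rw [commutator_def, commutator_def, Subgroup.map_commutator,
        Subgroup.map_top_of_surjective _ hsurj]
    rw [hmap] at h
    obtain ⟨y, hy, hxy⟩ := h
    have h2 : y⁻¹ * x ∈ relC ε := QuotientGroup.eq.mp hxy
    have h3 := (commutator F).mul_mem hy (relC_le_commutator ε h2)
    simpa using h3
  · intro h
    have h1 := Subgroup.mem_map_of_mem (QuotientGroup.mk' (relC ε)) h
    rw [commutator_def, Subgroup.map_commutator] at h1
    rw [commutator_def]
    exact Subgroup.commutator_mono le_top le_top h1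

theorem mem_commutator_of_pow_mem_cov [IsFreeGroup F] (w : Cov ε) (n : ℕ) (hn : n ≠ 0)
    (h : w ^ n ∈ commutator (Cov ε)) : w ∈ commutator (Cov ε) := by
  obtain ⟨x, rfl⟩ := QuotientGroup.mk_surjective w
  rw [← QuotientGroup.mk_pow, mk_mem_commutator_iff] at h
  rw [mk_mem_commutator_iff]
  exact mem_commutator_of_pow_mem_free x n hn h

end torsion

section complement

/-- A section over a free abelian image. -/
theorem exists_section {H : Type*} [Group H] {E : Type*} [CommGroup E] (q : H →* E) (L : Subgroup H)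
    (hL : L ≤ Subgroup.center H) [Module.Free ℤ (Additive (L.map q))] :
    ∃ s : (L.map q) →* H, ∀ x, s x ∈ L ∧ q (s x) = x := by
  letI : CommGroup L :=
    { (inferInstance : Group L) with
      mul_comm := by
        rintro ⟨a, ha⟩ ⟨b, hb⟩
        apply Subtype.ext
        exact (Subgroup.mem_center_iff.mp (hL hb)) a }
  let q' : L →* (L.map q) :=
    { toFun := fun x => ⟨q x, Subgroup.mem_map_of_mem q x.2⟩
      map_one' := by ext; simp
      map_mul' := by intro a b; ext; simp }
  have hq' : Function.Surjective q' := by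
    rintro ⟨_, x, hx, rfl⟩
    exact ⟨⟨x, hx⟩, rfl⟩
  let f : Additive L →ₗ[ℤ] Additive (L.map q) := (MonoidHom.toAdditive q').toIntLinearMap
  have hf : Function.Surjective f := hq'
  obtain ⟨h, hh⟩ := Module.projective_lifting_property f (LinearMap.id) hf
  let s' : (L.map q) →* L :=
    { toFun := fun x => (h (Additive.ofMul x)).toMul
      map_one' := by
        show (h 0).toMul = 1
        rw [map_zero]
        rfl
      map_mul' := by
        intro a b
        show (h (Additive.ofMul a + Additive.ofMul b)).toMul = _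
        rw [map_add]
        rfl }
  refine ⟨L.subtype.comp s', fun x => ⟨(s' x).2, ?_⟩⟩
  have h1 : f (h (Additive.ofMul x)) = Additive.ofMul x := LinearMap.congr_fun hh (Additive.ofMul x)
  have h2 : q' (s' x) = x := h1
  exact congrArg Subtype.val h2

theorem mem_sup_of_central {G : Type*} [Group G] {S T : Subgroup G} (hT : T ≤ Subgroup.center G) {x : G}
    (hx : x ∈ S ⊔ T) : ∃ s ∈ S, ∃ t ∈ T, s * t = x := by
  haveI : T.Normal := by
    constructor
    intro n hn g
    have h1 := Subgroup.mem_center_iff.mp (hT hn) g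
    rw [h1, mul_inv_cancel_right]
    exact hn
  have h : x ∈ ((S ⊔ T : Subgroup G) : Set G) := hx
  rw [Subgroup.mul_normal] at h
  obtain ⟨s, hs, t, ht, rfl⟩ := Set.mem_mul.mp h
  exact ⟨s, hs, t, ht, rfl⟩

theorem exists_complement {F : Type u} [Group F] [IsFreeGroup F] [Group.FG F] {Q : Type v} [Group Q]
    [Finite Q] (ε : F →* Q) (hε : Function.Surjective ε) (L : Subgroup (Cov ε)) (hL : L ≤ covKer ε)
    (hLM : covKer ε ≤ L ⊔ covM ε) :
    ∃ T : Subgroup (Cov ε), T ≤ L ∧ T ⊓ covM ε = ⊥ ∧ T ⊔ covM ε = covKer ε := by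
  classical
  let q : Cov ε →* Abelianization (Cov ε) := Abelianization.of
  have hq : Function.Surjective q := QuotientGroup.mk'_surjective _
  have hqker : ∀ x, q x = 1 ↔ x ∈ commutator (Cov ε) := fun x => by
    rw [← Abelianization.ker_of]
    rfl
  have hI : (covKer ε).map q ≤ L.map q := by
    rintro _ ⟨x, hx, rfl⟩
    have hx' : x ∈ L ⊔ covM ε := hLM hx
    obtain ⟨l, hl, m, hm, rfl⟩ := mem_sup_of_central (covM_le_center ε) hx'
    refine ⟨l, hl, ?_⟩
    have : q m = 1 := (hqker m).mpr hm.2
    rw [map_mul, this, mul_one]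
  have hdvd : ((covKer ε).map q).index ≠ 0 := by
    intro h0
    have h1 := Subgroup.index_map_dvd (covKer ε) hq
    rw [h0] at h1
    exact Subgroup.FiniteIndex.index_ne_zero (zero_dvd_iff.mp h1)
  haveI hfi : (L.map q).FiniteIndex := by
    constructor
    intro h0
    apply hdvd
    have h1 := Subgroup.index_dvd_of_le hI
    rw [h0] at h1
    exact zero_dvd_iff.mp h1
  haveI : Group.FG (Cov ε) := QuotientGroup.fg _
  haveI : Group.FG (Abelianization (Cov ε)) := QuotientGroup.fg _
  haveI : Group.FG (L.map q) := Subgroup.fg_of_index_ne_zero _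
  haveI : Module.Finite ℤ (Additive (L.map q)) := by
    rw [Module.Finite.iff_addGroup_fg]
    exact GroupFG.iff_add_fg.mp inferInstance
  haveI : IsAddTorsionFree (Additive (L.map q)) := by
    constructor
    intro n hn a b hab
    have hab' : n • (a - b) = 0 := by
      rw [smul_sub, sub_eq_zero]
      exact hab
    have h0 : ∀ x : Additive (L.map q), n • x = 0 → x = 0 := by
      intro x hx
      obtain ⟨w, hw⟩ := hq (x.toMul : L.map q).1
      have h1 : (x.toMul : L.map q) ^ n = 1 := hx
      have h2 : q (w ^ n) = 1 := by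
        rw [map_pow, hw]
        exact congrArg Subtype.val h1
      have h3 := mem_commutator_of_pow_mem_cov ε w n hn ((hqker _).mp h2)
      have h4 : q w = 1 := (hqker w).mpr h3
      have h5 : (x.toMul : L.map q) = 1 := by
        apply Subtype.ext
        rw [← hw, h4]
        rfl
      exact h5
    exact sub_eq_zero.mp (h0 _ hab')
  haveI : Module.Free ℤ (Additive (L.map q)) := Module.free_of_finite_type_torsion_free'
  obtain ⟨s, hs⟩ := exists_section q L (hL.trans (covKer_le_center ε))
  refine ⟨s.range, ?_, ?_, ?_⟩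
  · rintro _ ⟨x, rfl⟩
    exact (hs x).1
  · rw [eq_bot_iff]
    rintro _ ⟨⟨x, rfl⟩, hm⟩
    have h1 : q (s x) = 1 := (hqker _).mpr hm.2
    rw [(hs x).2] at h1
    have h2 : x = 1 := Subtype.ext h1
    rw [h2, map_one]
    exact Subgroup.one_mem _
  · apply le_antisymm
    · apply sup_le
      · rintro _ ⟨x, rfl⟩
        exact hL (hs x).1
      · exact inf_le_left
    · intro x hx
      have hx' : x ∈ L ⊔ covM ε := hLM hx
      obtain ⟨l, hl, m, hm, rfl⟩ := mem_sup_of_central (covM_le_center ε) hx'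
      let y : L.map q := ⟨q l, Subgroup.mem_map_of_mem q hl⟩
      have hy : (s y)⁻¹ * l ∈ covM ε := by
        constructor
        · exact (covKer ε).mul_mem ((covKer ε).inv_mem (hL (hs y).1)) (hL hl)
        · show (s y)⁻¹ * l ∈ commutator (Cov ε)
          rw [← hqker, map_mul, map_inv, (hs y).2]
          simp [y]
      have h1 : l * m = s y * ((s y)⁻¹ * l * m) := by group
      rw [h1]
      exact Subgroup.mul_mem_sup ⟨y, rfl⟩ ((covM ε).mul_mem hy hm)

section stem

variable {F : Type u} [Group F] {Q : Type v} [Group Q] (ε : F →* Q)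

theorem normal_of_le_center' {G : Type*} [Group G] {T : Subgroup G} (hT : T ≤ Subgroup.center G) :
    T.Normal := by
  constructor
  intro n hn g
  have h1 := Subgroup.mem_center_iff.mp (hT hn) g
  rw [h1, mul_inv_cancel_right]
  exact hn

/-- The stem extension attached to a complement of the multiplier. -/
def stemMap (T : Subgroup (Cov ε)) [T.Normal] (hT : T ≤ covKer ε) : Cov ε ⧸ T →* Q :=
  QuotientGroup.lift T (covMap ε) (fun x hx => hT hx)

@[simp] theorem stemMap_mk (T : Subgroup (Cov ε)) [T.Normal] (hT : T ≤ covKer ε) (x : Cov ε) :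
    stemMap ε T hT (x : Cov ε ⧸ T) = covMap ε x := rfl

theorem stemMap_isStem (hε : Function.Surjective ε) (T : Subgroup (Cov ε)) [T.Normal] (hT : T ≤ covKer ε)
    (hTM : T ⊔ covM ε = covKer ε) : Cfsg.IsStemExtension (stemMap ε T hT) := by
  refine ⟨?_, ?_, ?_⟩
  · intro y
    obtain ⟨x, rfl⟩ := covMap_surjective ε hε y
    exact ⟨(x : Cov ε), rfl⟩
  · intro x hx
    obtain ⟨w, rfl⟩ := QuotientGroup.mk_surjective x
    have hw : w ∈ covKer ε := hx
    rw [Subgroup.mem_center_iff]
    intro g
    obtain ⟨v, rfl⟩ := QuotientGroup.mk_surjective g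
    have := Subgroup.mem_center_iff.mp (covKer_le_center ε hw) v
    exact congrArg (fun z : Cov ε => (z : Cov ε ⧸ T)) this
  · intro x hx
    obtain ⟨w, rfl⟩ := QuotientGroup.mk_surjective x
    have hw : w ∈ covKer ε := hx
    rw [← hTM] at hw
    obtain ⟨t, ht, m, hm, rfl⟩ := mem_sup_of_central (covM_le_center ε) hw
    have h1 : ((t * m : Cov ε) : Cov ε ⧸ T) = (m : Cov ε ⧸ T) := by
      rw [QuotientGroup.mk_mul, (QuotientGroup.eq_one_iff t).mpr ht, one_mul]
    rw [h1]
    have h2 := Subgroup.mem_map_of_mem (QuotientGroup.mk' T) hm.2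
    rw [commutator_def, Subgroup.map_commutator] at h2
    rw [commutator_def]
    exact Subgroup.commutator_mono le_top le_top h2

/-- The kernel of the stem extension is the multiplier. -/
theorem stemMap_ker_equiv (T : Subgroup (Cov ε)) [T.Normal] (hT : T ≤ covKer ε)
    (hTM : T ⊔ covM ε = covKer ε) (hTM' : T ⊓ covM ε = ⊥) :
    Nonempty ((stemMap ε T hT).ker ≃* covM ε) := by
  let f : covM ε →* (stemMap ε T hT).ker :=
    { toFun := fun m => ⟨((m : Cov ε) : Cov ε ⧸ T), m.2.1⟩
      map_one' := rfl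
      map_mul' := fun _ _ => rfl }
  have hf : Function.Bijective f := by
    constructor
    · rw [injective_iff_map_eq_one]
      intro m hm
      have h1 : ((m : Cov ε) : Cov ε ⧸ T) = 1 := congrArg Subtype.val hm
      have h2 : (m : Cov ε) ∈ T := (QuotientGroup.eq_one_iff _).mp h1
      have h3 : (m : Cov ε) ∈ T ⊓ covM ε := ⟨h2, m.2⟩
      rw [hTM'] at h3
      exact Subtype.ext h3
    · rintro ⟨x, hx⟩
      obtain ⟨w, rfl⟩ := QuotientGroup.mk_surjective x
      have hw : w ∈ covKer ε := hx
      rw [← hTM] at hw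
      obtain ⟨t, ht, m, hm, rfl⟩ := mem_sup_of_central (covM_le_center ε) hw
      refine ⟨⟨m, hm⟩, ?_⟩
      apply Subtype.ext
      show ((m : Cov ε) : Cov ε ⧸ T) = ((t * m : Cov ε) : Cov ε ⧸ T)
      rw [QuotientGroup.mk_mul, (QuotientGroup.eq_one_iff t).mpr ht, one_mul]
  exact ⟨(MulEquiv.ofBijective f hf).symm⟩

theorem finite_of_finite_ker_of_finite {G : Type*} {K : Type*} [Group G] [Group K] [Finite K] (f : G →* K)
    [Finite f.ker] : Finite G := by
  classical
  have e := Subgroup.groupEquivQuotientProdSubgroup (s := f.ker)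
  haveI : Finite (G ⧸ f.ker) :=
    Finite.of_equiv _ (QuotientGroup.quotientKerEquivRange f).symm.toEquiv
  exact Finite.of_equiv _ e.symm

end stem

end complement

section main

variable {F : Type u} [Group F] [IsFreeGroup F] [Group.FG F] {Q : Type u} [Group Q] [Finite Q] (ε : F →* Q)

/-- A finite stem extension from a complement, in the universe of `Q`. -/
theorem exists_stem_of_complement (hε : Function.Surjective ε) (T : Subgroup (Cov ε)) (hT : T ≤ covKer ε)
    (hTM : T ⊔ covM ε = covKer ε) (hTM' : T ⊓ covM ε = ⊥) :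
    ∃ (Γ : Type u) (_ : Group Γ) (_ : Finite Γ) (σ : Γ →* Q) (p : Cov ε →* Γ),
      Cfsg.IsStemExtension σ ∧ Function.Surjective p ∧ p.ker = T ∧ σ.comp p = covMap ε ∧
      Nonempty (σ.ker ≃* covM ε) := by
  haveI hn : T.Normal := normal_of_le_center' (hT.trans (covKer_le_center ε))
  obtain ⟨e⟩ := stemMap_ker_equiv ε T hT hTM hTM'
  haveI : Finite (stemMap ε T hT).ker := Finite.of_equiv _ e.symm.toEquiv
  refine ⟨Cov ε ⧸ T, inferInstance, finite_of_finite_ker_of_finite (stemMap ε T hT),
    stemMap ε T hT, QuotientGroup.mk' T, stemMap_isStem ε hε T hT hTM, QuotientGroup.mk'_surjective T,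
    QuotientGroup.ker_mk' T, ?_, ⟨e⟩⟩
  ext x
  rfl

/-- Lifts from the Hopf cover to a stem extension are surjective and onto the kernel. -/
theorem stem_lift_surjective (hε : Function.Surjective ε) {X : Type w} [Group X] (ξ : X →* Q)
    (hξ : Cfsg.IsStemExtension ξ) (θ : Cov ε →* X) (hθ : ξ.comp θ = covMap ε) :
    Function.Surjective θ := by
  intro x
  obtain ⟨w, hw⟩ := covMap_surjective ε hε (ξ x)
  have hθw : ξ (θ w) = ξ x := by
    have : ξ (θ w) = covMap ε w := DFunLike.congr_fun hθ w
    rw [this, hw]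
  have hk : (θ w)⁻¹ * x ∈ ξ.ker := by
    rw [MonoidHom.mem_ker, map_mul, map_inv, hθw, inv_mul_cancel]
  obtain ⟨m, _, hm⟩ := mem_image_covM ε ξ hξ.2.1 θ hθ hε hξ.1 hk (hξ.2.2 hk)
  refine ⟨w * m, ?_⟩
  rw [map_mul, hm]
  group

/-- The multiplier of the Hopf cover surjects onto the kernel of any stem extension. -/
theorem exists_surjection_covM (hε : Function.Surjective ε) {X : Type w} [Group X] (ξ : X →* Q)
    (hξ : Cfsg.IsStemExtension ξ) : ∃ π : covM ε →* ξ.ker, Function.Surjective π := by
  obtain ⟨θ, hθ⟩ := exists_cov_lift ε ξ hξ.1 hξ.2.1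
  refine ⟨(θ.comp (covM ε).subtype).codRestrict ξ.ker
    (fun x => (image_covM_mem ε ξ θ hθ x.2).1), ?_⟩
  rintro ⟨y, hy⟩
  obtain ⟨m, hm, hmy⟩ := mem_image_covM ε ξ hξ.2.1 θ hθ hε hξ.1 hy (hξ.2.2 hy)
  exact ⟨⟨m, hm⟩, Subtype.ext hmy⟩

/-- The Hopf multiplier is a Schur multiplier. -/
theorem hasSchurMultiplier_covM (hε : Function.Surjective ε) :
    letI : CommGroup (covM ε) :=
      { (inferInstance : Group (covM ε)) with
        mul_comm := fun a b => Subtype.ext ((Subgroup.mem_center_iff.mp (covM_le_center ε b.2)) a.1) }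
    Cfsg.HasSchurMultiplier Q (covM ε) := by
  letI : CommGroup (covM ε) :=
    { (inferInstance : Group (covM ε)) with
      mul_comm := fun a b => Subtype.ext ((Subgroup.mem_center_iff.mp (covM_le_center ε b.2)) a.1) }
  constructor
  · obtain ⟨T, _, h1, h2⟩ := exists_complement ε hε (covKer ε) le_rfl le_sup_left
    obtain ⟨Γ, i1, i2, σ, p, hσ, _, _, _, he⟩ :=
      exists_stem_of_complement ε hε T (h2 ▸ le_sup_left) h2 h1
    exact ⟨Γ, i1, i2, σ, hσ, he⟩
  · intro Γ _ _ σ hσ
    exact exists_surjection_covM ε hε σ hσ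

/-- Any Schur multiplier of `Q` is isomorphic to the Hopf multiplier. -/
theorem nonempty_equiv_covM (hε : Function.Surjective ε) {A : Type w} [CommGroup A]
    (hA : Cfsg.HasSchurMultiplier Q A) : Nonempty (A ≃* covM ε) := by
  obtain ⟨⟨Γ, i1, i2, σ, hσ, ⟨e⟩⟩, hall⟩ := hA
  obtain ⟨π₁, hπ₁⟩ := exists_surjection_covM ε hε σ hσ
  obtain ⟨T, _, h1, h2⟩ := exists_complement ε hε (covKer ε) le_rfl le_sup_left
  obtain ⟨Γ', i1', i2', σ', p, hσ', _, _, _, ⟨e'⟩⟩ :=
    exists_stem_of_complement ε hε T (h2 ▸ le_sup_left) h2 h1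
  obtain ⟨π₂, hπ₂⟩ := hall Γ' σ' hσ'
  -- `A → covM ε` surjective, `covM ε → A` surjective
  let f : A →* covM ε := e'.toMonoidHom.comp π₂
  let g : covM ε →* A := e.toMonoidHom.comp π₁
  have hf : Function.Surjective f := e'.surjective.comp hπ₂
  have hg : Function.Surjective g := e.surjective.comp hπ₁
  haveI : Finite A := Finite.of_surjective g hg
  have hcard : Nat.card A ≤ Nat.card (covM ε) := Nat.card_le_card_of_surjective g hg
  have hbij : Function.Bijective f := by
    refine (Nat.bijective_iff_surjective_and_card f).mpr ⟨hf, ?_⟩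
    exact le_antisymm hcard (Nat.card_le_card_of_surjective f hf)
  exact ⟨MulEquiv.ofBijective f hbij⟩

end main

end Cfsg.Agent.H19.Hopf
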