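import Mathlib
import Cfsg.Agent.Lib.H14.UniqueSub
import Cfsg.Agent.Lib.H13.FrobOdd
import Cfsg.Agent.Lib.H18.Syl
import Cfsg.Agent.Lib.H02.SuperSolv4
import Cfsg.Agent.Lib.H19.FrobCount
import Cfsg.Agent.Lib.H19.Basic

/-! Kulakoff's lemma: in a noncyclic `p`-group, `p` odd, `p ^ (k+1)` divides the number of solutions
of `x ^ (p ^ k) = 1`. -/

set_option autoImplicit false

namespace Cfsg.Agent.H19

universe u

open Subgroup

theorem isCoatom_of_index_prime {G : Type*} [Group G] [Finite G] {A : Subgroup G} (h : A.index.Prime) :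
    IsCoatom A := by
  constructor
  · rintro rfl
    rw [Subgroup.index_top] at h
    exact Nat.not_prime_one h
  · intro B hB
    have h1 := Subgroup.relIndex_mul_index hB.le
    rw [← h1] at h
    rcases Nat.prime_mul_iff.mp h with ⟨_, h2⟩ | ⟨_, h2⟩
    · exact Subgroup.index_eq_one.mp h2
    · exact absurd (Subgroup.relIndex_eq_one.mp h2) (not_le_of_gt hB)

theorem uniqueP_of_isCyclic {G : Type*} [Group G] [Finite G] [IsCyclic G] {p : ℕ} [Fact p.Prime] :
    Cfsg.Agent.H14.UniqueP p G := by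
  classical
  haveI := Fintype.ofFinite G
  intro x y hx hy
  have hp : 0 < p := (Fact.out : p.Prime).pos
  have h1 := IsCyclic.card_pow_eq_one_le (α := G) (n := p) hp
  have hsub : (Subgroup.zpowers x : Set G).toFinset ⊆ Finset.univ.filter (fun a : G => a ^ p = 1) := by
    intro a ha
    rw [Set.mem_toFinset] at ha
    obtain ⟨i, rfl⟩ := ha
    simp only [Finset.mem_filter, Finset.mem_univ, true_and]
    rw [← zpow_natCast, ← zpow_mul, mul_comm, zpow_mul, zpow_natCast, ← hx, pow_orderOf_eq_one, one_zpow]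
  have hcard : (Subgroup.zpowers x : Set G).toFinset.card = p := by
    rw [Set.toFinset_card]
    have := Nat.card_zpowers x
    rw [hx, Nat.card_eq_fintype_card] at this
    exact this
  have heq := Finset.eq_of_subset_of_card_le hsub (by rw [hcard]; exact h1)
  have hy' : y ∈ Finset.univ.filter (fun a : G => a ^ p = 1) := by
    simp only [Finset.mem_filter, Finset.mem_univ, true_and]
    rw [← hy]; exact pow_orderOf_eq_one y
  rw [← heq, Set.mem_toFinset] at hy'
  exact hy'

/-- A noncyclic `p`-group, `p` odd, with a cyclic subgroup of index `p`. -/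
theorem sol_cyclic_max {P : Type u} [Group P] [Finite P] {p : ℕ} [hpf : Fact p.Prime] (hp2 : p ≠ 2)
    (hP : IsPGroup p P) (A : Subgroup P) (hAc : IsCyclic A) (hAi : A.index = p) (hnc : ¬ IsCyclic P)
    {k : ℕ} (hk1 : 1 ≤ k) (hk : p ^ (k + 1) ≤ Nat.card P) : sol P (p ^ k) = p ^ (k + 1) := by
  classical
  have hp : p.Prime := hpf.out
  obtain ⟨n, hn⟩ := IsPGroup.iff_card.mp hP
  have hkn : k + 1 ≤ n := by
    rw [hn] at hk
    exact (Nat.pow_le_pow_iff_right hp.one_lt).mp hk
  obtain ⟨n', rfl⟩ : ∃ n', n = n' + 1 := ⟨n - 1, by omega⟩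
  have hcoat : IsCoatom A := isCoatom_of_index_prime (by rw [hAi]; exact hp)
  obtain ⟨hAn, -⟩ := Cfsg.Agent.H14.coatom_normal_index hP hcoat
  have hAcard : Nat.card A = p ^ n' := by
    have h1 := A.card_mul_index
    rw [hn, hAi, pow_succ] at h1
    exact Nat.eq_of_mul_eq_mul_right hp.pos h1
  -- an element of order `p` outside `A`
  obtain ⟨y, hyo, hyA⟩ : ∃ y : P, orderOf y = p ∧ y ∉ A := by
    by_contra hno
    push_neg at hno
    apply hnc
    apply Cfsg.Agent.H14.isCyclic_of_uniqueP_odd hp2 _ P rfl hP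
    intro x y hx hy
    have hxA := hno x hx
    have hyA := hno y hy
    have := uniqueP_of_isCyclic (G := A) (p := p) ⟨x, hxA⟩ ⟨y, hyA⟩ (by rw [Subgroup.orderOf_mk]; exact hx)
      (by rw [Subgroup.orderOf_mk]; exact hy)
    obtain ⟨i, hi⟩ := this
    exact ⟨i, by simpa using congrArg Subtype.val hi⟩
  obtain ⟨⟨a, haA⟩, ha⟩ := hAc
  have hao : orderOf a = p ^ n' := by
    have := orderOf_eq_card_of_forall_mem_zpowers ha
    rw [Subgroup.orderOf_mk, hAcard] at this
    exact this
  have hmemA : ∀ x ∈ A, x ∈ Subgroup.zpowers a := by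
    intro x hx
    obtain ⟨i, hi⟩ := ha ⟨x, hx⟩
    exact ⟨i, by simpa using congrArg Subtype.val hi⟩
  have hAz : A = Subgroup.zpowers a :=
    le_antisymm hmemA (Subgroup.zpowers_le.mpr haA)
  have hn'1 : 1 ≤ n' := by omega
  -- the action of `y`
  have hyaA : y * a * y⁻¹ ∈ A := hAn.conj_mem a haA y
  obtain ⟨r, hr⟩ : ∃ r : ℕ, y * a * y⁻¹ = a ^ r := by
    have h1 : y * a * y⁻¹ ∈ Subgroup.zpowers a := hmemA _ hyaA
    rw [← mem_powers_iff_mem_zpowers] at h1
    obtain ⟨r, hr⟩ := h1
    exact ⟨r, hr.symm⟩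
  have hconjpow : ∀ j : ℕ, y ^ j * a * (y ^ j)⁻¹ = a ^ (r ^ j) := by
    intro j
    induction j with
    | zero => simp
    | succ j ih =>
      have h1 : y ^ (j + 1) * a * (y ^ (j + 1))⁻¹ = y * (y ^ j * a * (y ^ j)⁻¹) * y⁻¹ := by
        rw [pow_succ']; group
      rw [h1, ih, ← conj_pow, hr, ← pow_mul, pow_succ']
  have hyp : y ^ p = 1 := by rw [← hyo]; exact pow_orderOf_eq_one y
  have hrp : r ^ p ≡ 1 [MOD p ^ n'] := by
    have h1 := hconjpow p
    rw [hyp] at h1
    simp only [one_mul, inv_one, mul_one] at h1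
    have h2 : a ^ (r ^ p) = a ^ 1 := by rw [← h1, pow_one]
    rw [pow_eq_pow_iff_modEq, hao] at h2
    exact h2
  have hpdvd : p ∣ p ^ n' := dvd_pow_self p (by omega)
  have hr1 : r ≡ 1 [MOD p] := by
    have h1 : r ^ p ≡ 1 [MOD p] := hrp.of_dvd hpdvd
    rw [← ZMod.natCast_eq_natCast_iff] at h1 ⊢
    rw [Nat.cast_pow, ZMod.pow_card] at h1
    exact h1
  have hrpos : 1 ≤ r := by
    rcases Nat.eq_zero_or_pos r with h | h
    · exfalso
      rw [h] at hr1
      have := (Nat.modEq_zero_iff_dvd).mp hr1.symm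
      exact hp.one_lt.ne' (Nat.dvd_one.mp this)
    · exact h
  have hdvdr : p ^ (n' - 1) ∣ r - 1 := by
    by_cases hr' : r = 1
    · rw [hr']; simp
    have hrlt : 1 < r := by omega
    have h1 : p ∣ r - 1 := (Nat.modEq_iff_dvd' hrpos).mp hr1.symm
    have hprp : ¬ p ∣ r := by
      intro h
      have h2 := (Nat.dvd_sub h h1)
      have h3 : r - (r - 1) = 1 := by omega
      rw [h3] at h2
      exact hp.one_lt.ne' (Nat.dvd_one.mp h2)
    have hodd : Odd p := hp.odd_of_ne_two hp2
    have hLTE := padicValNat.pow_sub_pow (p := p) hodd hrlt h1 hprp hp.ne_zero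
    rw [one_pow, padicValNat_self, ] at hLTE
    have hge : 1 ≤ r ^ p := Nat.one_le_pow _ _ hrpos
    have h2 : p ^ n' ∣ r ^ p - 1 := (Nat.modEq_iff_dvd' hge).mp hrp.symm
    have hne : r ^ p - 1 ≠ 0 := by
      have : r < r ^ p := by
        calc r = r ^ 1 := (pow_one r).symm
          _ < r ^ p := Nat.pow_lt_pow_right hrlt hp.one_lt
      omega
    have h3 : n' ≤ padicValNat p (r ^ p - 1) := (padicValNat_dvd_iff_le hne).mp h2
    have h4 : n' - 1 ≤ padicValNat p (r - 1) := by omega
    exact (padicValNat_dvd_iff_le (by omega)).mpr h4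
  obtain ⟨t, ht⟩ := hdvdr
  -- generation
  have hclos : Subgroup.closure ({a, y} : Set P) = ⊤ := by
    have hle : A ≤ Subgroup.closure ({a, y} : Set P) := by
      rw [hAz, Subgroup.zpowers_le]
      exact Subgroup.subset_closure (by simp)
    have hlt : A < Subgroup.closure ({a, y} : Set P) := by
      refine lt_of_le_of_ne hle ?_
      intro h
      apply hyA
      rw [h]
      exact Subgroup.subset_closure (by simp)
    exact hcoat.2 _ hlt
  set z := a ^ (p ^ (n' - 1)) with hzdef
  have hzo : orderOf z = p := by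
    rw [hzdef, orderOf_pow_of_dvd (pow_ne_zero _ hp.ne_zero) (by rw [hao]; exact pow_dvd_pow p (by omega)), hao]
    have : p ^ n' = p ^ (n' - 1) * p := by
      rw [← pow_succ]; congr 1; omega
    rw [this]
    exact Nat.mul_div_cancel_left _ (pow_pos hp.pos _)
  have hzp : z ^ p = 1 := by rw [← hzo]; exact pow_orderOf_eq_one z
  have hza : Commute z a := (Commute.refl a).pow_left _
  have hzy : Commute z y := by
    have h1 : y * z * y⁻¹ = z ^ r := by
      rw [hzdef, ← conj_pow, hr, ← pow_mul, ← pow_mul, mul_comm]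
    have h2 : z ^ r = z := by
      have h3 : z ^ r = z ^ 1 := by
        rw [pow_eq_pow_iff_modEq, hzo]
        exact hr1
      rw [h3, pow_one]
    rw [h2, mul_inv_eq_iff_eq_mul] at h1
    exact h1.symm
  have hcentral_of : ∀ {X : Type u} [Group X] (S : Set X), Subgroup.closure S = ⊤ → ∀ t : X,
      (∀ s ∈ S, Commute t s) → ∀ x : X, Commute t x := by
    intro X _ S hS t ht x
    have hx : x ∈ Subgroup.closure S := by rw [hS]; trivial
    have hle : Subgroup.closure S ≤ Subgroup.centralizer ({t} : Set X) := by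
      rw [Subgroup.closure_le]
      intro s hs
      rw [SetLike.mem_coe, Subgroup.mem_centralizer_singleton_iff]
      exact (ht s hs).eq.symm
    exact ((Subgroup.mem_centralizer_singleton_iff).mp (hle hx)).symm
  have hzcen : ∀ x : P, Commute z x := hcentral_of _ hclos z (by
    rintro s (rfl | hs)
    · exact hza
    · rw [Set.mem_singleton_iff.mp hs]; exact hzy)
  -- commutators lie in `⟨z⟩`
  set Zs := Subgroup.zpowers z with hZs
  have hZsn : Zs.Normal := by
    constructor
    rintro x ⟨i, rfl⟩ g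
    have : g * z ^ i * g⁻¹ = z ^ i := by
      have h1 : Commute (z ^ i) g := (hzcen g).zpow_left i
      rw [h1.symm.eq]
      group
    simp only [this]
    exact ⟨i, rfl⟩
  haveI := hZsn
  let f : P →* P ⧸ Zs := QuotientGroup.mk' Zs
  have hfs : Function.Surjective f := QuotientGroup.mk'_surjective Zs
  have hcl2 : Subgroup.closure ({f a, f y} : Set (P ⧸ Zs)) = ⊤ := by
    have h1 := congrArg (Subgroup.map f) hclos
    rw [MonoidHom.map_closure, Set.image_pair, Subgroup.map_top_of_surjective f hfs] at h1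
    exact h1
  have hfcomm : Commute (f y) (f a) := by
    show f y * f a = f a * f y
    have hya : y * a = z ^ t * (a * y) := by
      have h1 : a ^ r = a * z ^ t := by
        have h2 : r = 1 + p ^ (n' - 1) * t := by omega
        rw [h2, pow_add, pow_one, pow_mul, ← hzdef]
      have h2 : y * a * y⁻¹ = a * z ^ t := by rw [hr, h1]
      rw [mul_inv_eq_iff_eq_mul] at h2
      rw [h2, ← mul_assoc, ((hzcen a).pow_left t).eq]
    have hfz : f z = 1 := (QuotientGroup.eq_one_iff z).mpr (Subgroup.mem_zpowers z)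
    rw [← map_mul, ← map_mul, hya, map_mul, map_pow, hfz, one_pow, one_mul]
  have hallcomm : ∀ u v : P ⧸ Zs, Commute u v := by
    have h1 : ∀ x : P ⧸ Zs, Commute (f a) x := hcentral_of _ hcl2 (f a) (by
      rintro s (rfl | hs)
      · exact Commute.refl _
      · rw [Set.mem_singleton_iff.mp hs]; exact hfcomm.symm)
    have h2 : ∀ x : P ⧸ Zs, Commute (f y) x := hcentral_of _ hcl2 (f y) (by
      rintro s (rfl | hs)
      · exact hfcomm
      · rw [Set.mem_singleton_iff.mp hs])
    intro u v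
    refine hcentral_of _ hcl2 u ?_ v
    rintro s (rfl | hs)
    · exact (h1 u).symm
    · rw [Set.mem_singleton_iff.mp hs]; exact (h2 u).symm
  have hcomm_mem : ∀ u v : P, v * u * v⁻¹ * u⁻¹ ∈ Zs := by
    intro u v
    rw [← QuotientGroup.eq_one_iff]
    have h1 : f v * f u = f u * f v := hallcomm _ _
    show f (v * u * v⁻¹ * u⁻¹) = 1
    rw [map_mul, map_mul, map_mul, h1, map_inv, map_inv]
    simp
  -- the power map
  have hpowp : ∀ u v : P, (u * v) ^ p = u ^ p * v ^ p := by
    intro u v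
    set c := v * u * v⁻¹ * u⁻¹ with hc
    have hcz : c ∈ Zs := hcomm_mem u v
    obtain ⟨i, hi⟩ := hcz
    have hi' : z ^ i = c := hi
    have hcc : ∀ x : P, Commute c x := by
      intro x
      rw [← hi']
      exact (hzcen x).zpow_left i
    have hcp : c ^ p = 1 := by
      rw [← hi']
      rw [← zpow_natCast, ← zpow_mul, mul_comm, zpow_mul, zpow_natCast, hzp, one_zpow]
    have hvu : v * u = c * u * v := by rw [hc]; group
    have h1 := (Cfsg.Agent.H13.mul_pow_of_central hvu (hcc u) (hcc v) p).2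
    have h2 : p ∣ p.choose 2 := hp.dvd_choose_self (by norm_num) (by
      have := hp.two_le
      omega)
    obtain ⟨e, he⟩ := h2
    rw [he, pow_mul, hcp, one_pow, mul_one] at h1
    exact h1
  have hpowk : ∀ (j : ℕ) (u v : P), (u * v) ^ (p ^ j) = u ^ (p ^ j) * v ^ (p ^ j) := by
    intro j
    induction j with
    | zero => simp
    | succ j ih =>
      intro u v
      rw [pow_succ, pow_mul, ih, hpowp, ← pow_mul, ← pow_mul]
  let φ : P →* P := { toFun := fun x => x ^ (p ^ k), map_one' := one_pow _, map_mul' := hpowk k }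
  have hφ : ∀ x, φ x = x ^ (p ^ k) := fun x => rfl
  have hran : φ.range = Subgroup.zpowers (a ^ (p ^ k)) := by
    apply le_antisymm
    · rintro _ ⟨x, rfl⟩
      have hx : x ∈ Subgroup.closure ({a, y} : Set P) := by rw [hclos]; trivial
      have hle : Subgroup.closure ({a, y} : Set P) ≤ (Subgroup.zpowers (a ^ (p ^ k))).comap φ := by
        rw [Subgroup.closure_le]
        rintro s (rfl | hs)
        · exact Subgroup.mem_zpowers _
        · rw [Set.mem_singleton_iff.mp hs]
          rw [SetLike.mem_coe, Subgroup.mem_comap]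
          have : φ y = 1 := by
            rw [hφ]
            obtain ⟨j, hj⟩ : ∃ j, k = j + 1 := ⟨k - 1, by omega⟩
            rw [hj, pow_succ, pow_mul', hyp, one_pow]
          rw [this]
          exact Subgroup.one_mem _
      exact hle hx
    · rw [Subgroup.zpowers_le]
      exact ⟨a, rfl⟩
  have hrancard : Nat.card φ.range = p ^ (n' - k) := by
    rw [hran, Nat.card_zpowers, orderOf_pow_of_dvd (pow_ne_zero _ hp.ne_zero) (by rw [hao]; exact pow_dvd_pow p (by omega)), hao]
    exact Nat.pow_div (by omega) hp.pos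
  have hker : Nat.card φ.ker * p ^ (n' - k) = p ^ (n' + 1) := by
    have h1 := φ.ker.card_mul_index
    rw [Subgroup.index_ker, hrancard, hn] at h1
    exact h1
  have hkercard : Nat.card φ.ker = p ^ (k + 1) := by
    have h1 : p ^ (n' + 1) = p ^ (k + 1) * p ^ (n' - k) := by
      rw [← pow_add]; congr 1; omega
    rw [h1] at hker
    exact Nat.eq_of_mul_eq_mul_right (pow_pos hp.pos _) hker
  rw [← hkercard]
  unfold sol
  apply Nat.card_congr
  exact Equiv.subtypeEquivRight (fun x => by rw [MonoidHom.mem_ker, hφ])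

theorem sol_subgroup_eq {G : Type*} [Group G] (M : Subgroup G) (d : ℕ) :
    sol M d = Nat.card {x : G // x ∈ M ∧ x ^ d = 1} := by
  unfold sol
  apply Nat.card_congr
  refine ⟨fun u => ⟨u.1, u.1.2, ?_⟩, fun u => ⟨⟨u.1, u.2.1⟩, ?_⟩, ?_, ?_⟩
  · exact congrArg Subtype.val u.2
  · exact Subtype.ext u.2.2
  · intro u; rfl
  · intro u; rfl

/-- Counting over the maximal subgroups above a normal subgroup of index `p ^ 2`. -/
theorem sum_sol_max {P : Type*} [Group P] [Finite P] {p : ℕ} [hpf : Fact p.Prime] (L : Subgroup P) [L.Normal]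
    (hL : Nat.card (P ⧸ L) = p ^ 2) (hLp : ∀ x : P, x ^ p ∈ L) (𝓜 : Finset (Subgroup P))
    (h𝓜 : ∀ M : Subgroup P, M ∈ 𝓜 ↔ L ≤ M ∧ M.index = p) (d : ℕ) :
    ∑ M ∈ 𝓜, sol M d + sol L d = sol P d + 𝓜.card * sol L d := by
  classical
  haveI := Fintype.ofFinite P
  have hp : p.Prime := hpf.out
  have hsolM : ∀ M : Subgroup P, sol M d = (Finset.univ.filter (fun x : P => x ∈ M ∧ x ^ d = 1)).card := by
    intro M
    rw [sol_subgroup_eq, Nat.card_eq_fintype_card, Fintype.card_subtype]
  have hsolP : sol P d = (Finset.univ.filter (fun x : P => x ^ d = 1)).card := by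
    unfold sol
    rw [Nat.card_eq_fintype_card, Fintype.card_subtype]
  -- each element outside `L` is in exactly one member
  have huniq : ∀ x : P, x ∉ L → (𝓜.filter (fun M => x ∈ M)).card = 1 := by
    intro x hx
    set Mx := (Subgroup.zpowers ((x : P ⧸ L))).comap (QuotientGroup.mk' L) with hMx
    have hx1 : (x : P ⧸ L) ≠ 1 := fun h => hx ((QuotientGroup.eq_one_iff x).mp h)
    have hxp : (x : P ⧸ L) ^ p = 1 := by
      rw [← QuotientGroup.mk_pow, QuotientGroup.eq_one_iff]
      exact hLp x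
    have hox : orderOf (x : P ⧸ L) = p := orderOf_eq_prime hxp hx1
    have hMxcard : Nat.card Mx = p * Nat.card L := by
      rw [hMx, Cfsg.Agent.H02.card_comap_mk, Nat.card_zpowers, hox]
    have hPcard : Nat.card P = p ^ 2 * Nat.card L := by
      rw [Subgroup.card_eq_card_quotient_mul_card_subgroup L, hL]
    have hMxidx : Mx.index = p := by
      have h1 := Mx.card_mul_index
      rw [hMxcard, hPcard] at h1
      have h2 : p * Nat.card L * Mx.index = p * Nat.card L * p := by rw [h1]; ring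
      exact Nat.eq_of_mul_eq_mul_left (Nat.mul_pos hp.pos Nat.card_pos) h2
    have hLMx : L ≤ Mx := by
      intro u hu
      show (u : P ⧸ L) ∈ Subgroup.zpowers ((x : P ⧸ L))
      rw [(QuotientGroup.eq_one_iff u).mpr hu]
      exact Subgroup.one_mem _
    have hxMx : x ∈ Mx := Subgroup.mem_zpowers (x : P ⧸ L)
    have heq : 𝓜.filter (fun M => x ∈ M) = {Mx} := by
      ext M
      simp only [Finset.mem_filter, h𝓜, Finset.mem_singleton]
      constructor
      · rintro ⟨⟨hLM, hMi⟩, hxM⟩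
        have hle : Mx ≤ M := by
          intro u hu
          obtain ⟨i, hi⟩ := hu
          have h1 : ((x ^ i : P) : P ⧸ L) = (u : P ⧸ L) := by
            rw [QuotientGroup.mk_zpow]
            exact hi
          rw [QuotientGroup.eq] at h1
          have h2 := hLM h1
          have h3 : u = x ^ i * ((x ^ i)⁻¹ * u) := by group
          rw [h3]
          exact M.mul_mem (M.zpow_mem hxM i) h2
        have hc : Nat.card M = p * Nat.card L := by
          have h1 := M.card_mul_index
          rw [hMi, hPcard] at h1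
          have h2 : Nat.card M * p = p * Nat.card L * p := by rw [h1]; ring
          exact Nat.eq_of_mul_eq_mul_right hp.pos h2
        exact (Subgroup.eq_of_le_of_card_ge hle (by rw [hc, hMxcard])).symm
      · rintro rfl
        exact ⟨⟨hLMx, hMxidx⟩, hxMx⟩
    rw [heq, Finset.card_singleton]
  have hall : ∀ x : P, x ∈ L → (𝓜.filter (fun M => x ∈ M)).card = 𝓜.card := by
    intro x hx
    congr 1
    apply Finset.filter_true_of_mem
    intro M hM
    exact ((h𝓜 M).mp hM).1 hx
  -- double counting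
  have h1 : ∑ M ∈ 𝓜, sol M d = ∑ x ∈ Finset.univ.filter (fun x : P => x ^ d = 1), (𝓜.filter (fun M => x ∈ M)).card := by
    simp_rw [hsolM]
    have : ∀ M : Subgroup P, (Finset.univ.filter (fun x : P => x ∈ M ∧ x ^ d = 1)).card =
        ((Finset.univ.filter (fun x : P => x ^ d = 1)).filter (fun x => x ∈ M)).card := by
      intro M
      congr 1
      ext x
      simp only [Finset.mem_filter, Finset.mem_univ, true_and]
      tauto
    simp_rw [this]
    exact Finset.sum_card_bipartiteAbove_eq_sum_card_bipartiteBelow _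
  rw [h1]
  -- split according to membership in `L`
  rw [← Finset.sum_filter_add_sum_filter_not (Finset.univ.filter (fun x : P => x ^ d = 1)) (fun x => x ∈ L)]
  rw [Finset.sum_congr rfl (fun x hx => hall x (Finset.mem_filter.mp hx).2)]
  rw [Finset.sum_congr rfl (fun x hx => huniq x (Finset.mem_filter.mp hx).2)]
  simp only [Finset.sum_const, smul_eq_mul, mul_one]
  have h2 : sol L d = ((Finset.univ.filter (fun x : P => x ^ d = 1)).filter (fun x => x ∈ L)).card := by
    rw [hsolM]
    congr 1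
    ext x
    simp only [Finset.mem_filter, Finset.mem_univ, true_and]
    tauto
  have h3 := Finset.card_filter_add_card_filter_not (s := Finset.univ.filter (fun x : P => x ^ d = 1)) (fun x => x ∈ L)
  rw [hsolP, h2]
  ring_nf
  rw [← h3]
  ring

/-- Kulakoff's lemma. -/
theorem kulakoff {p : ℕ} [hpf : Fact p.Prime] (hp2 : p ≠ 2) : ∀ N : ℕ, ∀ (P : Type u) [Group P] [Finite P],
    Nat.card P = N → IsPGroup p P → ¬ IsCyclic P → ∀ k : ℕ, 1 ≤ k → p ^ (k + 1) ≤ Nat.card P →
      p ^ (k + 1) ∣ sol P (p ^ k) := by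
  intro N
  induction N using Nat.strong_induction_on with
  | _ N ih =>
  intro P _ _ hN hP hnc k hk1 hk
  classical
  have hp : p.Prime := hpf.out
  obtain ⟨n, hn⟩ := IsPGroup.iff_card.mp hP
  have hkn : k + 1 ≤ n := by
    rw [hn] at hk
    exact (Nat.pow_le_pow_iff_right hp.one_lt).mp hk
  by_cases hkeq : k + 1 = n
  · -- exponent argument
    have h1 : sol P (p ^ k) = Nat.card P := by
      unfold sol
      apply Nat.card_congr
      apply Equiv.subtypeUnivEquiv
      intro x
      have h2 : orderOf x ∣ p ^ n := by rw [← hn]; exact orderOf_dvd_natCard x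
      obtain ⟨j, hj, hj2⟩ := (Nat.dvd_prime_pow hp).mp h2
      have hjne : j ≠ n := by
        rintro rfl
        exact hnc (isCyclic_of_orderOf_eq_card x (by rw [hj2, hn]))
      have h3 : j ≤ k := by omega
      rw [← orderOf_dvd_iff_pow_eq_one, hj2]
      exact pow_dvd_pow p h3
    rw [h1, hn, ← hkeq]
  by_cases hcyc : ∃ A : Subgroup P, IsCyclic A ∧ A.index = p
  · obtain ⟨A, hAc, hAi⟩ := hcyc
    rw [sol_cyclic_max hp2 hP A hAc hAi hnc hk1 hk]
  push_neg at hcyc
  have hk2 : k + 2 ≤ n := by omega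
  -- two distinct coatoms
  haveI : Nontrivial P := by
    by_contra hnt
    rw [not_nontrivial_iff_subsingleton] at hnt
    exact hnc inferInstance
  obtain ⟨M₁, hM₁⟩ : ∃ M : Subgroup P, IsCoatom M := by
    rcases eq_top_or_exists_le_coatom (⊥ : Subgroup P) with h | ⟨M, hM, -⟩
    · exact absurd h bot_ne_top
    · exact ⟨M, hM⟩
  obtain ⟨x, hx⟩ : ∃ x : P, x ∉ M₁ := by
    by_contra hno
    push_neg at hno
    exact hM₁.1 ((Subgroup.eq_top_iff' M₁).mpr hno)
  obtain ⟨M₂, hM₂, hxM₂⟩ : ∃ M : Subgroup P, IsCoatom M ∧ x ∈ M := by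
    rcases eq_top_or_exists_le_coatom (Subgroup.zpowers x) with h | ⟨M, hM, hle⟩
    · exfalso
      apply hnc
      refine ⟨x, fun y => ?_⟩
      have hy : y ∈ Subgroup.zpowers x := by rw [h]; trivial
      exact hy
    · exact ⟨M, hM, hle (Subgroup.mem_zpowers x)⟩
  have hne : M₁ ≠ M₂ := by
    rintro rfl
    exact hx hxM₂
  obtain ⟨hM₁n, hM₁i⟩ := Cfsg.Agent.H14.coatom_normal_index hP hM₁
  obtain ⟨hM₂n, hM₂i⟩ := Cfsg.Agent.H14.coatom_normal_index hP hM₂
  haveI := hM₁n
  haveI := hM₂n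
  have hsup : M₁ ⊔ M₂ = ⊤ := hM₁.2 _ (lt_of_le_of_ne le_sup_left (fun h => hx (h ▸ (le_sup_right : M₂ ≤ M₁ ⊔ M₂) hxM₂)))
  obtain ⟨n', rfl⟩ : ∃ n', n = n' + 2 := ⟨n - 2, by omega⟩
  have hcardindex : ∀ M : Subgroup P, M.index = p → Nat.card M = p ^ (n' + 1) := by
    intro M hM
    have h1 := M.card_mul_index
    rw [hM, hn, show n' + 2 = (n' + 1) + 1 by omega, pow_succ p (n' + 1)] at h1
    exact Nat.eq_of_mul_eq_mul_right hp.pos h1
  set L := M₁ ⊓ M₂ with hLdef
  haveI hLn : L.Normal := inferInstance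
  have hLcard : Nat.card L = p ^ n' := by
    have h1 := Cfsg.Agent.H18.card_sup_mul_card_inf M₁ M₂
    rw [hsup, Subgroup.card_top, hn, hcardindex M₁ hM₁i, hcardindex M₂ hM₂i] at h1
    have h2 : p ^ (n' + 2) * Nat.card (M₁ ⊓ M₂ : Subgroup P) = p ^ (n' + 2) * p ^ n' := by
      rw [h1, ← pow_add, ← pow_add]
      congr 1
      omega
    exact Nat.eq_of_mul_eq_mul_left (pow_pos hp.pos _) h2
  have hLq : Nat.card (P ⧸ L) = p ^ 2 := by
    have h1 := Subgroup.card_eq_card_quotient_mul_card_subgroup L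
    rw [hn, hLcard] at h1
    have h2 : Nat.card (P ⧸ L) * p ^ n' = p ^ 2 * p ^ n' := by
      rw [← h1, ← pow_add]
      congr 1
      omega
    exact Nat.eq_of_mul_eq_mul_right (pow_pos hp.pos _) h2
  have hpowmem : ∀ M : Subgroup P, M.Normal → M.index = p → ∀ y : P, y ^ p ∈ M := by
    intro M hMn hMi y
    haveI := hMn
    rw [← QuotientGroup.eq_one_iff, QuotientGroup.mk_pow]
    have h1 : Nat.card (P ⧸ M) = p := hMi
    rw [← h1]
    exact pow_card_eq_one'
  have hLp : ∀ y : P, y ^ p ∈ L := fun y => ⟨hpowmem M₁ hM₁n hM₁i y, hpowmem M₂ hM₂n hM₂i y⟩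
  let 𝓜 : Finset (Subgroup P) := (Set.toFinite {M : Subgroup P | L ≤ M ∧ M.index = p}).toFinset
  have h𝓜 : ∀ M : Subgroup P, M ∈ 𝓜 ↔ L ≤ M ∧ M.index = p := by
    intro M
    simp [𝓜]
  have hid := fun d => sum_sol_max L hLq hLp 𝓜 h𝓜 d
  -- size of `𝓜`
  have hsolall : ∀ (K : Type _) [Group K] [Finite K] (D : ℕ), Nat.card K ∣ D → sol K D = Nat.card K := by
    intro K _ _ D hD
    unfold sol
    apply Nat.card_congr
    apply Equiv.subtypeUnivEquiv
    intro u
    obtain ⟨c, rfl⟩ := hD
    rw [pow_mul, pow_card_eq_one', one_pow]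
  have h𝓜card : 𝓜.card = p + 1 := by
    have h1 := hid (Nat.card P)
    have h2 : ∑ M ∈ 𝓜, sol M (Nat.card P) = 𝓜.card * p ^ (n' + 1) := by
      rw [Finset.sum_congr rfl (g := fun _ => p ^ (n' + 1)) ?_]
      · simp
      · intro M hM
        rw [hsolall M _ (Subgroup.card_subgroup_dvd_card M)]
        exact hcardindex M ((h𝓜 M).mp hM).2
    rw [h2, hsolall L _ (Subgroup.card_subgroup_dvd_card L), hsolall P _ (dvd_refl _), hLcard, hn] at h1
    have hpos : 0 < p ^ n' := pow_pos hp.pos _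
    have h3 : (𝓜.card * p + 1) * p ^ n' = (p ^ 2 + 𝓜.card) * p ^ n' := by
      calc (𝓜.card * p + 1) * p ^ n' = 𝓜.card * p ^ (n' + 1) + p ^ n' := by ring
        _ = p ^ (n' + 2) + 𝓜.card * p ^ n' := h1
        _ = (p ^ 2 + 𝓜.card) * p ^ n' := by ring
    have h4 := Nat.eq_of_mul_eq_mul_right hpos h3
    have hp1 := hp.one_lt
    obtain ⟨q, rfl⟩ : ∃ q, p = q + 2 := ⟨p - 2, by omega⟩
    have h5 : (𝓜.card : ℤ) * ((q : ℤ) + 1) = ((q : ℤ) + 3) * ((q : ℤ) + 1) := by
      have h6 : ((𝓜.card * (q + 2) + 1 : ℕ) : ℤ) = (((q + 2) ^ 2 + 𝓜.card : ℕ) : ℤ) := by rw [h4]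
      push_cast at h6
      linarith
    have h7 : (𝓜.card : ℤ) = (q : ℤ) + 3 := mul_right_cancel₀ (by positivity) h5
    have h8 : (𝓜.card : ℤ) = ((q + 2 + 1 : ℕ) : ℤ) := by push_cast; linarith
    exact_mod_cast h8
  -- divisibility
  have hdM : ∀ M ∈ 𝓜, p ^ (k + 1) ∣ sol M (p ^ k) := by
    intro M hM
    have hMi := ((h𝓜 M).mp hM).2
    have hMc := hcardindex M hMi
    refine ih (Nat.card M) ?_ M rfl (hP.to_subgroup M) ?_ k hk1 ?_
    · rw [← hN, hn, hMc]
      exact Nat.pow_lt_pow_right hp.one_lt (by omega)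
    · exact fun hc => hcyc M hc hMi
    · rw [hMc]
      exact Nat.pow_le_pow_right hp.pos (by omega)
  have hdsum : p ^ (k + 1) ∣ ∑ M ∈ 𝓜, sol M (p ^ k) := Finset.dvd_sum hdM
  have hdL : p ^ k ∣ sol L (p ^ k) := dvd_sol (by
    rw [hLcard]
    exact pow_dvd_pow p (by omega))
  have hid2 := hid (p ^ k)
  rw [h𝓜card] at hid2
  have h9 : ∑ M ∈ 𝓜, sol M (p ^ k) = sol P (p ^ k) + p * sol L (p ^ k) := by
    have : (p + 1) * sol L (p ^ k) = p * sol L (p ^ k) + sol L (p ^ k) := by ring
    omega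
  rw [h9] at hdsum
  have h10 : p ^ (k + 1) ∣ p * sol L (p ^ k) := by
    rw [pow_succ']
    exact Nat.mul_dvd_mul_left p hdL
  exact (Nat.dvd_add_left h10).mp hdsum

end Cfsg.Agent.H19
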