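import Mathlib
import Cfsg.Agent.Lib.H19.Kulakoff

/-! Counting elements of order `p ^ s * m`. -/

set_option autoImplicit false

namespace Cfsg.Agent.H19

universe u

open Subgroup
open scoped Pointwise

theorem card_gen {G : Type*} [Group G] [Finite G] (A : Subgroup G) (hA : IsCyclic A) :
    Nat.card {a : G // Subgroup.zpowers a = A} = Nat.totient (Nat.card A) := by
  classical
  haveI := Fintype.ofFinite A
  have h1 := IsCyclic.card_orderOf_eq_totient (α := A) (d := Fintype.card A) (dvd_refl _)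
  rw [← Nat.card_eq_fintype_card] at h1
  rw [← h1, ← Fintype.card_subtype, ← Nat.card_eq_fintype_card]
  apply Nat.card_congr
  refine ⟨fun a => ⟨⟨a.1, ?_⟩, ?_⟩, fun x => ⟨x.1.1, ?_⟩, ?_, ?_⟩
  · have h2 := Subgroup.mem_zpowers a.1
    rwa [a.2] at h2
  · rw [Subgroup.orderOf_mk, ← Nat.card_zpowers, a.2]
  · have h2 := x.2
    apply Subgroup.eq_of_le_of_card_ge (Subgroup.zpowers_le.mpr x.1.2)
    rw [Nat.card_zpowers]
    have h3 : orderOf ((x.1 : A) : G) = Nat.card A := by
      rw [Subgroup.orderOf_coe]; exact h2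
    exact h3.ge
  · intro a; rfl
  · intro x; rfl

theorem conj_smul_card {G : Type*} [Group G] (g : G) (A : Subgroup G) :
    Nat.card (MulAut.conj g • A : Subgroup G) = Nat.card A :=
  Nat.card_congr (Subgroup.equivSMul (MulAut.conj g) A).symm.toEquiv

theorem conj_smul_cyclic {G : Type*} [Group G] (g : G) (A : Subgroup G) (hA : IsCyclic A) :
    IsCyclic (MulAut.conj g • A : Subgroup G) :=
  isCyclic_of_surjective (Subgroup.equivSMul (MulAut.conj g) A).toMonoidHom
    (Subgroup.equivSMul (MulAut.conj g) A).surjective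

/-- The number of elements of order `p ^ s * m` for coprime parts, via cyclic subgroups. -/
theorem card_order_mul {G : Type*} [Group G] [Finite G] {p s m : ℕ} [hpf : Fact p.Prime] (hs : s ≠ 0)
    (hm : Nat.Coprime p m) :
    Nat.card {g : G // orderOf g = p ^ s * m} =
      Nat.card {q : Subgroup G × G // IsCyclic q.1 ∧ Nat.card q.1 = p ^ s ∧ orderOf q.2 = m ∧
        ∀ a ∈ q.1, a * q.2 = q.2 * a} * Nat.totient (p ^ s) := by
  classical
  have hp : p.Prime := hpf.out
  have hcop : (p ^ s).Coprime m := Nat.Coprime.pow_left s hm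
  -- step 1: pairs of elements
  have h1 : Nat.card {g : G // orderOf g = p ^ s * m} =
      Nat.card {q : G × G // orderOf q.1 = p ^ s ∧ orderOf q.2 = m ∧ Commute q.1 q.2} := by
    symm
    apply Nat.card_congr
    refine Equiv.ofBijective (fun q => ⟨q.1.1 * q.1.2, ?_⟩) ⟨?_, ?_⟩
    · rw [q.2.2.2.orderOf_mul_eq_mul_orderOf_of_coprime (by rw [q.2.1, q.2.2.1]; exact hcop), q.2.1, q.2.2.1]
    · rintro ⟨⟨a, b⟩, ha, hb, hab⟩ ⟨⟨c, d⟩, hc, hd, hcd⟩ h
      have h2 : a * b = c * d := congrArg Subtype.val h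
      simp only at ha hb hab hc hd hcd h2
      -- Bezout
      obtain ⟨u, hu1, hu2⟩ : ∃ u : ℕ, u ≡ 1 [MOD p ^ s] ∧ u ≡ 0 [MOD m] := by
        let w := Nat.chineseRemainder hcop 1 0
        exact ⟨w.1, w.2.1, w.2.2⟩
      have key : ∀ x y : G, orderOf x = p ^ s → orderOf y = m → Commute x y → (x * y) ^ u = x := by
        intro x y hx hy hxy
        rw [hxy.mul_pow]
        have h3 : x ^ u = x ^ 1 := by
          rw [pow_eq_pow_iff_modEq, hx]; exact hu1
        have h4 : y ^ u = y ^ 0 := by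
          rw [pow_eq_pow_iff_modEq, hy]; exact hu2
        rw [h3, h4]
        simp
      have hac : a = c := by
        rw [← key a b ha hb hab, ← key c d hc hd hcd, h2]
      subst hac
      have hbd : b = d := mul_left_cancel h2
      subst hbd
      rfl
    · rintro ⟨g, hg⟩
      obtain ⟨a, b, hab, hcomm, ⟨k, hk⟩, hbc, -, -⟩ := exists_primary_decomp p g
      have hg2 : p ^ k * orderOf b = p ^ s * m := by
        rw [← hg, hab, hcomm.orderOf_mul_eq_mul_orderOf_of_coprime (by
          rw [hk]; exact Nat.Coprime.pow_left k hbc.symm), hk]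
      have hk1 : k ≤ s := by
        have h3 : p ^ k ∣ p ^ s * m := Dvd.intro _ hg2
        have h4 := (Nat.Coprime.pow_left k hm).dvd_of_dvd_mul_right h3
        exact (Nat.pow_dvd_pow_iff_le_right hp.one_lt).mp h4
      have hk2 : s ≤ k := by
        have h3 : p ^ s ∣ p ^ k * orderOf b := Dvd.intro _ hg2.symm
        have h4 := (Nat.Coprime.pow_left s hbc.symm).dvd_of_dvd_mul_right h3
        exact (Nat.pow_dvd_pow_iff_le_right hp.one_lt).mp h4
      have hks : k = s := le_antisymm hk1 hk2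
      subst hks
      have hb : orderOf b = m := Nat.eq_of_mul_eq_mul_left (pow_pos hp.pos _) hg2
      refine ⟨⟨(a, b), hk, hb, hcomm⟩, ?_⟩
      exact Subtype.ext hab.symm
  rw [h1]
  -- step 2: fibres over the cyclic subgroups
  let T := {q : Subgroup G × G // IsCyclic q.1 ∧ Nat.card q.1 = p ^ s ∧ orderOf q.2 = m ∧
        ∀ a ∈ q.1, a * q.2 = q.2 * a}
  haveI : Fintype T := Fintype.ofFinite T
  have h2 : Nat.card {q : G × G // orderOf q.1 = p ^ s ∧ orderOf q.2 = m ∧ Commute q.1 q.2} =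
      Nat.card (Σ t : T, {a : G // Subgroup.zpowers a = t.1.1}) := by
    apply Nat.card_congr
    refine ⟨fun q => ⟨⟨(Subgroup.zpowers q.1.1, q.1.2), inferInstance, ?_, q.2.2.1, ?_⟩, ⟨q.1.1, rfl⟩⟩,
      fun t => ⟨(t.2.1, t.1.1.2), ?_, t.1.2.2.2.1, ?_⟩, ?_, ?_⟩
    · show Nat.card (Subgroup.zpowers q.1.1) = p ^ s
      rw [Nat.card_zpowers, q.2.1]
    · intro a ha
      obtain ⟨i, rfl⟩ := ha
      exact (q.2.2.2.zpow_left i).eq
    · show orderOf t.2.1 = p ^ s
      rw [← Nat.card_zpowers, t.2.2]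
      exact t.1.2.2.1
    · show Commute t.2.1 t.1.1.2
      apply t.1.2.2.2.2
      have h4 := Subgroup.mem_zpowers t.2.1
      rwa [t.2.2] at h4
    · rintro ⟨⟨a, b⟩, h⟩
      rfl
    · rintro ⟨⟨⟨A, b⟩, h⟩, ⟨a, ha⟩⟩
      cases ha
      rfl
  rw [h2, Nat.card_sigma]
  have h3 : ∀ t : T, Nat.card {a : G // Subgroup.zpowers a = t.1.1} = Nat.totient (p ^ s) := by
    intro t
    rw [card_gen t.1.1 t.2.1, t.2.2.1]
  rw [Finset.sum_congr rfl (fun t _ => h3 t)]
  simp only [Finset.sum_const, Finset.card_univ, smul_eq_mul]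
  rw [Nat.card_eq_fintype_card]

theorem card_modEq_fixed {Q X : Type*} [Group Q] [Finite X] {p : ℕ} [Fact p.Prime] (hQ : IsPGroup p Q)
    (act : Q → X → X) (h1 : ∀ x, act 1 x = x) (h2 : ∀ g h x, act (g * h) x = act g (act h x)) :
    Nat.card X ≡ Nat.card {x : X // ∀ g, act g x = x} [MOD p] := by
  letI : MulAction Q X := { smul := act, one_smul := h1, mul_smul := h2 }
  exact hQ.card_modEq_card_fixedPoints X

theorem conj_smul_mul {G : Type*} [Group G] (g h : G) (A : Subgroup G) :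
    MulAut.conj (g * h) • A = MulAut.conj g • MulAut.conj h • A := by
  rw [map_mul, mul_smul]

/-- The number of cyclic subgroups of order `p ^ s` in a noncyclic Sylow subgroup. -/
theorem prime_dvd_card_cyclic {G : Type*} [Group G] [Finite G] {p s : ℕ} [hpf : Fact p.Prime] (hp2 : p ≠ 2)
    (P : Sylow p G) (hP : ¬ IsCyclic (P : Subgroup G)) (hs : 1 < s) :
    p ∣ Nat.card {A : Subgroup G // A ≤ P ∧ IsCyclic A ∧ Nat.card A = p ^ s} := by
  classical
  have hp : p.Prime := hpf.out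
  haveI := Fintype.ofFinite G
  obtain ⟨n, hn⟩ := IsPGroup.iff_card.mp P.isPGroup'
  by_cases hsn : s ≤ n
  swap
  · have : IsEmpty {A : Subgroup G // A ≤ P ∧ IsCyclic A ∧ Nat.card A = p ^ s} := by
      constructor
      rintro ⟨A, hA, -, hc⟩
      have h1 := Subgroup.card_dvd_of_le hA
      rw [hc, hn] at h1
      exact hsn ((Nat.pow_dvd_pow_iff_le_right hp.one_lt).mp h1)
    rw [Nat.card_of_isEmpty]
    exact dvd_zero p
  -- count elements of order `p ^ s` in `P`
  let 𝓒 := {A : Subgroup G // A ≤ P ∧ IsCyclic A ∧ Nat.card A = p ^ s}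
  haveI : Fintype 𝓒 := Fintype.ofFinite 𝓒
  have hE : Nat.card {x : G // x ∈ (P : Subgroup G) ∧ orderOf x = p ^ s} =
      Nat.card 𝓒 * Nat.totient (p ^ s) := by
    have h2 : Nat.card {x : G // x ∈ (P : Subgroup G) ∧ orderOf x = p ^ s} =
        Nat.card (Σ t : 𝓒, {a : G // Subgroup.zpowers a = t.1}) := by
      apply Nat.card_congr
      refine ⟨fun q => ⟨⟨Subgroup.zpowers q.1, ?_, inferInstance, ?_⟩, ⟨q.1, rfl⟩⟩,
        fun t => ⟨t.2.1, ?_, ?_⟩, ?_, ?_⟩
      · exact Subgroup.zpowers_le.mpr q.2.1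
      · rw [Nat.card_zpowers, q.2.2]
      · apply t.1.2.1
        have h4 := Subgroup.mem_zpowers t.2.1
        rwa [t.2.2] at h4
      · rw [← Nat.card_zpowers, t.2.2]
        exact t.1.2.2.2
      · rintro ⟨a, h⟩
        rfl
      · rintro ⟨⟨A, h⟩, ⟨a, ha⟩⟩
        cases ha
        rfl
    rw [h2, Nat.card_sigma]
    have h3 : ∀ t : 𝓒, Nat.card {a : G // Subgroup.zpowers a = t.1} = Nat.totient (p ^ s) := by
      intro t
      rw [card_gen t.1 t.2.2.1, t.2.2.2]
    rw [Finset.sum_congr rfl (fun t _ => h3 t)]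
    simp only [Finset.sum_const, Finset.card_univ, smul_eq_mul]
    rw [Nat.card_eq_fintype_card]
  have hsol : sol (P : Subgroup G) (p ^ s) = sol (P : Subgroup G) (p ^ (s - 1)) +
      Nat.card {x : G // x ∈ (P : Subgroup G) ∧ orderOf x = p ^ s} := by
    rw [sol_subgroup_eq, sol_subgroup_eq, Nat.card_eq_fintype_card, Nat.card_eq_fintype_card,
      Nat.card_eq_fintype_card, Fintype.card_subtype, Fintype.card_subtype, Fintype.card_subtype]
    rw [← Finset.card_union_of_disjoint]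
    · congr 1
      ext x
      simp only [Finset.mem_filter, Finset.mem_univ, true_and, Finset.mem_union]
      constructor
      · rintro ⟨hx, hx2⟩
        have h1 : orderOf x ∣ p ^ s := orderOf_dvd_of_pow_eq_one hx2
        obtain ⟨j, hj, hj2⟩ := (Nat.dvd_prime_pow hp).mp h1
        by_cases hjs : j = s
        · right
          rw [← hjs]
          exact ⟨hx, hj2⟩
        · left
          refine ⟨hx, ?_⟩
          rw [← orderOf_dvd_iff_pow_eq_one, hj2]
          exact pow_dvd_pow p (by omega)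
      · rintro (⟨hx, hx2⟩ | ⟨hx, hx2⟩)
        · refine ⟨hx, ?_⟩
          have : s = (s - 1) + 1 := by omega
          rw [this, pow_succ, pow_mul, hx2, one_pow]
        · refine ⟨hx, ?_⟩
          rw [← hx2]
          exact pow_orderOf_eq_one x
    · rw [Finset.disjoint_left]
      intro x hx hx2
      simp only [Finset.mem_filter, Finset.mem_univ, true_and] at hx hx2
      have h1 := orderOf_dvd_of_pow_eq_one hx.2
      rw [hx2.2] at h1
      have h2 := (Nat.pow_dvd_pow_iff_le_right hp.one_lt).mp h1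
      omega
  have hd1 : p ^ s ∣ sol (P : Subgroup G) (p ^ s) := dvd_sol (by
    rw [hn]; exact pow_dvd_pow p hsn)
  have hd2 : p ^ s ∣ sol (P : Subgroup G) (p ^ (s - 1)) := by
    have h1 := kulakoff hp2 _ (P : Subgroup G) rfl P.isPGroup' hP (s - 1) (by omega) (by
      rw [hn]
      have : s - 1 + 1 = s := by omega
      rw [this]
      exact Nat.pow_le_pow_right hp.pos hsn)
    have : s - 1 + 1 = s := by omega
    rwa [this] at h1
  have hd3 : p ^ s ∣ Nat.card {x : G // x ∈ (P : Subgroup G) ∧ orderOf x = p ^ s} := by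
    rw [hsol] at hd1
    exact (Nat.dvd_add_right hd2).mp hd1
  rw [hE] at hd3
  obtain ⟨s', rfl⟩ : ∃ s', s = s' + 1 := ⟨s - 1, by omega⟩
  rw [Nat.totient_prime_pow_succ hp, pow_succ] at hd3
  have h5 : p ^ s' * p ∣ p ^ s' * ((Nat.card 𝓒) * (p - 1)) := by
    convert hd3 using 1
    ring
  have h6 : p ∣ (Nat.card 𝓒) * (p - 1) := Nat.dvd_of_mul_dvd_mul_left (pow_pos hp.pos _) h5
  rcases hp.dvd_mul.mp h6 with h7 | h7
  · exact h7
  · exfalso
    have h8 := Nat.le_of_dvd (by have := hp.two_le; omega) h7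
    have := hp.two_le
    omega

/-- The number of elements of order `p ^ s * m`, `s > 1`, for a noncyclic Sylow subgroup, `p` odd. -/
theorem pow_dvd_card_order {G : Type*} [Group G] [Finite G] {p s m : ℕ} [hpf : Fact p.Prime] (hp2 : p ≠ 2)
    (P : Sylow p G) (hP : ¬ IsCyclic (P : Subgroup G)) (hs : 1 < s) (hm : Nat.Coprime p m) :
    p ^ s ∣ Nat.card {g : G // orderOf g = p ^ s * m} := by
  classical
  have hp : p.Prime := hpf.out
  rw [card_order_mul (by omega) hm]
  -- the sets and the actions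
  let 𝓒 := {A : Subgroup G // A ≤ P ∧ IsCyclic A ∧ Nat.card A = p ^ s}
  let T := {q : Subgroup G × G // IsCyclic q.1 ∧ Nat.card q.1 = p ^ s ∧ orderOf q.2 = m ∧
        ∀ a ∈ q.1, a * q.2 = q.2 * a}
  have hconjle : ∀ (g : (P : Subgroup G)) (A : Subgroup G), A ≤ P → MulAut.conj (g : G) • A ≤ P := by
    intro g A hA x hx
    have h1 := hA (mem_conj_smul.mp hx)
    have h2 : x = (g : G) * ((g : G)⁻¹ * x * g) * (g : G)⁻¹ := by group
    rw [h2]
    exact Subgroup.mul_mem _ (Subgroup.mul_mem _ g.2 h1) (Subgroup.inv_mem _ g.2)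
  let act1 : ↥(P : Subgroup G) → 𝓒 → 𝓒 := fun g A =>
    ⟨MulAut.conj (g : G) • A.1, hconjle g A.1 A.2.1, conj_smul_cyclic _ _ A.2.2.1,
      by rw [conj_smul_card]; exact A.2.2.2⟩
  let act2 : ↥(P : Subgroup G) → T → T := fun g t =>
    ⟨(MulAut.conj (g : G) • t.1.1, (g : G) * t.1.2 * (g : G)⁻¹), conj_smul_cyclic _ _ t.2.1,
      by rw [conj_smul_card]; exact t.2.2.1,
      by
        show orderOf ((g : G) * t.1.2 * (g : G)⁻¹) = m
        rw [← MulAut.conj_apply, MulEquiv.orderOf_eq]; exact t.2.2.2.1,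
      by
        intro a ha
        have ha' := mem_conj_smul.mp ha
        have h3 := t.2.2.2.2 _ ha'
        show a * ((g : G) * t.1.2 * (g : G)⁻¹) = ((g : G) * t.1.2 * (g : G)⁻¹) * a
        calc a * ((g : G) * t.1.2 * (g : G)⁻¹) = (g : G) * (((g : G)⁻¹ * a * g) * t.1.2) * (g : G)⁻¹ := by group
          _ = (g : G) * (t.1.2 * ((g : G)⁻¹ * a * g)) * (g : G)⁻¹ := by rw [h3]
          _ = ((g : G) * t.1.2 * (g : G)⁻¹) * a := by group⟩
  have hmod1 := card_modEq_fixed P.isPGroup' act1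
    (fun A => Subtype.ext (by
      show MulAut.conj ((1 : (P : Subgroup G)) : G) • A.1 = A.1
      simp))
    (fun g h A => Subtype.ext (by
      show MulAut.conj ((g * h : (P : Subgroup G)) : G) • A.1 = MulAut.conj (g : G) • MulAut.conj (h : G) • A.1
      rw [Subgroup.coe_mul, conj_smul_mul]))
  have hmod2 := card_modEq_fixed P.isPGroup' act2
    (fun t => Subtype.ext (Prod.ext (by
      show MulAut.conj ((1 : (P : Subgroup G)) : G) • t.1.1 = t.1.1
      simp) (by
      show ((1 : (P : Subgroup G)) : G) * t.1.2 * ((1 : (P : Subgroup G)) : G)⁻¹ = t.1.2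
      simp)))
    (fun g h t => Subtype.ext (Prod.ext (by
      show MulAut.conj ((g * h : (P : Subgroup G)) : G) • t.1.1 = MulAut.conj (g : G) • MulAut.conj (h : G) • t.1.1
      rw [Subgroup.coe_mul, conj_smul_mul]) (by
      show ((g * h : (P : Subgroup G)) : G) * t.1.2 * ((g * h : (P : Subgroup G)) : G)⁻¹ =
        (g : G) * ((h : G) * t.1.2 * (h : G)⁻¹) * (g : G)⁻¹
      rw [Subgroup.coe_mul]
      group)))
  -- fixed points of `T`
  have hfix : Nat.card {t : T // ∀ g, act2 g t = t} =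
      Nat.card {A : 𝓒 // ∀ g, act1 g A = A} *
        Nat.card {b : G // orderOf b = m ∧ ∀ g ∈ (P : Subgroup G), g * b * g⁻¹ = b} := by
    rw [← Nat.card_prod]
    apply Nat.card_congr
    refine ⟨fun t => (⟨⟨t.1.1.1, ?_, t.1.2.1, t.1.2.2.1⟩, ?_⟩, ⟨t.1.1.2, t.1.2.2.2.1, ?_⟩),
      fun q => ⟨⟨(q.1.1.1, q.2.1), q.1.1.2.2.1, q.1.1.2.2.2, q.2.2.1, ?_⟩, ?_⟩, ?_, ?_⟩
    · -- `A ≤ P`
      have hAp : IsPGroup p t.1.1.1 := IsPGroup.of_card t.1.2.2.1
      have hle : (P : Subgroup G) ≤ Subgroup.normalizer (t.1.1.1 : Set G) := by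
        intro g hg
        rw [Subgroup.mem_normalizer_iff]
        intro h
        have h1 : MulAut.conj g⁻¹ • t.1.1.1 = t.1.1.1 := by
          have h2 := t.2 ⟨g, hg⟩⁻¹
          exact congrArg (fun u : T => u.1.1) h2
        constructor
        · intro hh
          rw [← h1] at hh
          have := mem_conj_smul.mp hh
          rwa [inv_inv] at this
        · intro hh
          rw [← h1]
          apply mem_conj_smul.mpr
          rwa [inv_inv]
      have hsup : IsPGroup p ((P : Subgroup G) ⊔ t.1.1.1 : Subgroup G) :=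
        P.isPGroup'.to_sup_of_normal_right' hAp hle
      have heq := P.is_maximal' hsup le_sup_left
      exact le_sup_right.trans heq.le
    · intro g
      apply Subtype.ext
      have h2 := t.2 g
      exact congrArg (fun u : T => u.1.1) h2
    · intro g hg
      have h2 := t.2 ⟨g, hg⟩
      exact congrArg (fun u : T => u.1.2) h2
    · intro a ha
      have h1 : a ∈ (P : Subgroup G) := q.1.1.2.1 ha
      have h2 := q.2.2.2 a h1
      show a * q.2.1 = q.2.1 * a
      rw [mul_inv_eq_iff_eq_mul] at h2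
      exact h2
    · intro g
      apply Subtype.ext
      apply Prod.ext
      · have h2 := q.1.2 g
        exact congrArg (fun u : 𝓒 => u.1) h2
      · exact q.2.2.2 g g.2
    · rintro ⟨⟨⟨A, b⟩, h⟩, h'⟩
      rfl
    · rintro ⟨⟨⟨A, h⟩, h'⟩, ⟨b, h''⟩⟩
      rfl
  have hd1 := prime_dvd_card_cyclic (s := s) hp2 P hP hs
  have hd2 : p ∣ Nat.card {A : 𝓒 // ∀ g, act1 g A = A} := (Nat.modEq_zero_iff_dvd).mp
    (hmod1.symm.trans ((Nat.modEq_zero_iff_dvd).mpr hd1))
  have hd3 : p ∣ Nat.card T := by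
    have h1 : p ∣ Nat.card {t : T // ∀ g, act2 g t = t} := by
      rw [hfix]
      exact Dvd.dvd.mul_right hd2 _
    exact (Nat.modEq_zero_iff_dvd).mp (hmod2.trans ((Nat.modEq_zero_iff_dvd).mpr h1))
  obtain ⟨s', rfl⟩ : ∃ s', s = s' + 1 := ⟨s - 1, by omega⟩
  rw [Nat.totient_prime_pow_succ hp, pow_succ]
  obtain ⟨c, hc⟩ := hd3
  refine ⟨c * (p - 1), ?_⟩
  show Nat.card T * _ = _
  rw [hc]
  ring

end Cfsg.Agent.H19
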