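import Cfsg.Agent.Lib.H14.GT
import Cfsg.Agent.Lib.H14.ZJInst
import Cfsg.Agent.Lib.H08.NilCoprime
import Cfsg.Agent.Lib.H01.Coprime3
import Cfsg.Agent.Lib.H01.Maximal
import Cfsg.Agent.Lib.H19.Basic

/-! Maximal nilpotent subgroups of odd order (helper19). -/

set_option autoImplicit false
set_option linter.style.haveILetI false

namespace Cfsg.Agent.H19

open Cfsg Cfsg.Agent.H14 Cfsg.Agent.H13

universe u

section

variable {G : Type*} [Group G] [Finite G]

theorem normalizer_eq_of_coatom {M D : Subgroup G} (hM : IsCoatom M)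
    (hcore : ∀ D : Subgroup G, D ≤ M → D.Normal → D = ⊥)
    (hD : D ≠ ⊥) (hDM : D ≤ M) (hMN : M ≤ Subgroup.normalizer (D : Set G)) :
    Subgroup.normalizer (D : Set G) = M := by
  rcases hM.le_iff.mp hMN with h | h
  · exact absurd (hcore D hDM (Subgroup.normalizer_eq_top_iff.mp h)) hD
  · exact h

/-- The centre of `J` of a nontrivial `p`-group is nontrivial. -/
theorem zz_ne_bot {p : ℕ} [Fact p.Prime] {X : Subgroup G} (hX : IsPGroup p X) (hb : X ≠ ⊥) :
    (elFam G 0).zz X ≠ ⊥ := by
  haveI : Nontrivial X := Subgroup.nontrivial_iff_ne_bot _ |>.mpr hb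
  have h1 : (Subgroup.center X).map X.subtype ≤ (elFam G 0).zz X := by
    apply ZJFam.zz_of_forall
    rintro A hA _ ⟨b, hb, rfl⟩
    have hsup : A ⊔ Subgroup.zpowers (X.subtype b) ≤ X :=
      sup_le hA.1 ((Subgroup.zpowers_le).mpr b.2)
    have hF := (elFam G 0).F_sup A (X.subtype b) hA.2.1 (pow_zero _) (by
      intro a ha
      have := Subgroup.mem_center_iff.mp hb (⟨a, hA.1 ha⟩ : X)
      exact congrArg Subtype.val this)
    have hc := hA.2.2 _ hsup hF
    have heq := Subgroup.eq_of_le_of_card_ge (le_sup_left : A ≤ A ⊔ Subgroup.zpowers (X.subtype b)) hc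
    rw [heq]
    exact Subgroup.mem_sup_right (Subgroup.mem_zpowers _)
  intro h
  rw [h, le_bot_iff, Subgroup.map_eq_bot_iff_of_injective _ X.subtype_injective] at h1
  have := hX.center_nontrivial
  obtain ⟨x, hx⟩ := exists_ne (1 : Subgroup.center X)
  apply hx
  have h2 : x.1 ∈ (⊥ : Subgroup X) := h1 ▸ x.2
  exact Subtype.ext (Subgroup.mem_bot.mp h2)

theorem zz_normalizer {X : Subgroup G} {h : G} (hh : h ∈ Subgroup.normalizer (X : Set G)) :
    h ∈ Subgroup.normalizer (((elFam G 0).zz X : Subgroup G) : Set G) := by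
  rw [Subgroup.mem_normalizer_iff]
  intro z
  constructor
  · intro hz
    exact ZJFam.zz_conj hh hz
  · intro hz
    have := ZJFam.zz_conj (Subgroup.inv_mem _ hh) hz
    simpa [mul_assoc] using this

theorem npc_of_nilpotent (H : Type*) [Group H] [Finite H] [Group.IsNilpotent H] (p : ℕ) [Fact p.Prime] :
    HasNormalPComplement p H := by
  apply hasNormalPComplement_of_frobCond
  intro Q hQ g _ hg
  rw [Subgroup.mem_centralizer_iff]
  intro x hx
  obtain ⟨k, hk⟩ := (hQ ⟨x, hx⟩)
  have h1 : orderOf x ∣ p ^ k := by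
    apply orderOf_dvd_of_pow_eq_one
    exact congrArg Subtype.val hk
  have h2 : (orderOf g).Coprime (orderOf x) :=
    Nat.Coprime.coprime_dvd_right h1 (Nat.Coprime.pow_right k hg)
  exact (H08.nilpotent_coprime_commute h2).symm

/-- The main local step: a Sylow of the maximal subgroup is Sylow, and there is a normal complement. -/
theorem exists_npc_of_coatom {M : Subgroup G} (hM : IsCoatom M) (hnil : Group.IsNilpotent M)
    (hcore : ∀ D : Subgroup G, D ≤ M → D.Normal → D = ⊥)
    (p : ℕ) [hpp : Fact p.Prime] (hp2 : p ≠ 2) (hpM : p ∣ Nat.card M) :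
    ∃ K : Subgroup G, K.Normal ∧ ¬ p ∣ Nat.card K ∧ K.index = p ^ (Nat.card M).factorization p := by
  classical
  obtain ⟨S⟩ : Nonempty (Sylow p M) := inferInstance
  haveI hSn : (S : Subgroup M).Normal :=
    Sylow.normal_of_normalizerCondition (fun H h => Group.normalizerCondition_of_isNilpotent H h) S
  set T : Subgroup G := (S : Subgroup M).map M.subtype with hT
  have hTM : T ≤ M := Subgroup.map_subtype_le _
  have hcardT : Nat.card T = p ^ (Nat.card M).factorization p := by
    have h1 : Nat.card T = Nat.card S :=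
      (Nat.card_congr (Subgroup.equivMapOfInjective (S : Subgroup M) _ M.subtype_injective).toEquiv).symm
    rw [h1]
    exact S.card_eq_multiplicity
  have hMne : Nat.card M ≠ 0 := Nat.card_pos.ne'
  have hT1 : T ≠ ⊥ := by
    intro h
    rw [h, Subgroup.card_bot] at hcardT
    have h2 : 1 ≤ (Nat.card M).factorization p :=
      (hpp.out.dvd_iff_one_le_factorization hMne).mp hpM
    have h3 : 1 < p ^ (Nat.card M).factorization p := Nat.one_lt_pow (by omega) hpp.out.one_lt
    omega
  have hTN : M ≤ Subgroup.normalizer (T : Set G) := by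
    intro m hm
    rw [Subgroup.mem_normalizer_iff]
    intro x
    constructor
    · rintro ⟨s, hs, rfl⟩
      exact ⟨⟨m, hm⟩ * s * ⟨m, hm⟩⁻¹, hSn.conj_mem s hs ⟨m, hm⟩, rfl⟩
    · intro hx
      obtain ⟨s, hs, hs2⟩ := hx
      refine ⟨⟨m, hm⟩⁻¹ * s * (⟨m, hm⟩⁻¹)⁻¹, hSn.conj_mem s hs _, ?_⟩
      have h3 : (s : G) = m * x * m⁻¹ := hs2
      show (m⁻¹ * (s : G) * m⁻¹⁻¹) = x
      rw [h3]
      group
  have hNT := normalizer_eq_of_coatom hM hcore hT1 hTM hTN
  have hTp : IsPGroup p T := (S.isPGroup').map _
  obtain ⟨P, hP⟩ := hTp.exists_le_sylow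
  -- `T` is Sylow in `G`
  have hPT : (P : Subgroup G) = T := by
    by_contra hne
    haveI : Group.IsNilpotent (P : Subgroup G) := P.isPGroup'.isNilpotent
    have hlt : T.subgroupOf P < ⊤ := by
      refine lt_top_iff_ne_top.mpr ?_
      intro htop
      apply hne
      apply le_antisymm _ hP
      exact Subgroup.subgroupOf_eq_top.mp htop
    have hgrow := Group.normalizerCondition_of_isNilpotent _ hlt
    obtain ⟨x, hx1, hx2⟩ := SetLike.exists_of_lt hgrow
    have hxN : (x : G) ∈ Subgroup.normalizer (T : Set G) := by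
      rw [Subgroup.mem_normalizer_iff]
      intro t
      rw [Subgroup.mem_normalizer_iff] at hx1
      constructor
      · intro ht
        have := (hx1 ⟨t, hP ht⟩).mp ht
        exact this
      · intro ht
        have hmem : (x : G) * t * (x : G)⁻¹ ∈ (P : Subgroup G) := hP ht
        have htP : t ∈ (P : Subgroup G) := by
          have : t = (x : G)⁻¹ * ((x : G) * t * (x : G)⁻¹) * x := by group
          rw [this]
          exact Subgroup.mul_mem _ (Subgroup.mul_mem _ (Subgroup.inv_mem _ x.2) hmem) x.2
        exact (hx1 ⟨t, htP⟩).mpr ht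
    rw [hNT] at hxN
    apply hx2
    show (x : G) ∈ T
    obtain ⟨k, hk⟩ := P.isPGroup' x
    have hk' : ((⟨x, hxN⟩ : M)) ^ p ^ k = 1 := by
      apply Subtype.ext
      simpa using congrArg Subtype.val hk
    obtain ⟨j, -, hj⟩ := (Nat.dvd_prime_pow hpp.out).mp (orderOf_dvd_of_pow_eq_one hk')
    have := mem_sylow_of_normal hj S hSn
    exact ⟨_, this, rfl⟩
  -- the characteristic subgroup
  have hPp : IsPGroup p (P : Subgroup G) := P.isPGroup'
  have hPb : (P : Subgroup G) ≠ ⊥ := by rw [hPT]; exact hT1
  have hZ := zz_ne_bot hPp hPb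
  have hZle : (elFam G 0).zz (P : Subgroup G) ≤ M := by
    intro z hz
    have h1 := ZJFam.jj_le _ hz.1
    rw [hPT] at h1
    exact hTM h1
  have hZN : M ≤ Subgroup.normalizer (((elFam G 0).zz (P : Subgroup G) : Subgroup G) : Set G) := by
    intro m hm
    apply zz_normalizer
    rw [hPT]
    exact hTN hm
  have hNZ := normalizer_eq_of_coatom hM hcore hZ hZle hZN
  have hnpc : HasNormalPComplement p
      (Subgroup.normalizer (((elFam G 0).zz (P : Subgroup G) : Subgroup G) : Set G)) := by
    rw [hNZ]
    exact npc_of_nilpotent M p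
  have hG := glauberman_thompson hp2 (Or.inl rfl) P (D := (P : Subgroup G))
    ⟨le_rfl, fun x _ g h => h⟩ hnpc
  obtain ⟨P', K, hK, hc⟩ := hG
  refine ⟨K, hK, ?_, ?_⟩
  · have h1 : (P' : Subgroup G).index = Nat.card K := hc.index_eq_card
    rw [← h1]
    exact P'.not_dvd_index
  · have h1 : K.index = Nat.card P' := hc.symm.index_eq_card
    rw [h1, P'.card_eq_multiplicity, ← P.card_eq_multiplicity, hPT, hcardT]

end

theorem isSolvable_of_coatom_nilpotent_odd : ∀ (n : ℕ) (G : Type u) [Group G] [Finite G],
    Nat.card G = n → ∀ M : Subgroup G, IsCoatom M → Group.IsNilpotent M → Odd (Nat.card M) →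
      Group.IsSolvable G := by
  classical
  intro n
  induction n using Nat.strong_induction_on with
  | _ n ih =>
  intro G _ _ hG M hM hnil hodd
  by_cases hcore : ∃ D : Subgroup G, D ≤ M ∧ D.Normal ∧ D ≠ ⊥
  · obtain ⟨D, hDM, hDn, hD⟩ := hcore
    haveI := hDn
    have hcard : Nat.card (G ⧸ D) < n := by
      rw [← hG]
      have h1 : Nat.card G = Nat.card (G ⧸ D) * Nat.card D :=
        Subgroup.card_eq_card_quotient_mul_card_subgroup D
      have h2 : 1 < Nat.card D := by
        haveI : Nontrivial D := (Subgroup.nontrivial_iff_ne_bot _).mpr hD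
        exact Finite.one_lt_card
      rw [h1]
      exact lt_mul_of_one_lt_right Nat.card_pos h2
    let f : M →* (M.map (QuotientGroup.mk' D)) := (QuotientGroup.mk' D).subgroupMap M
    have hf : Function.Surjective f := MonoidHom.subgroupMap_surjective _ _
    have hq := ih _ hcard (G ⧸ D) rfl (M.map (QuotientGroup.mk' D)) (H01.isCoatom_map_mk hDM hM)
      (nilpotent_of_surjective f hf) (Odd.of_dvd_nat hodd
        (Subgroup.card_dvd_of_surjective f hf))
    haveI : Group.IsSolvable M := inferInstance
    haveI : Group.IsSolvable D := solvable_of_solvable_injective (Subgroup.inclusion_injective hDM)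
    exact solvable_of_ker_le_range D.subtype (QuotientGroup.mk' D) (by simp)
  · push Not at hcore
    have hcore' : ∀ D : Subgroup G, D ≤ M → D.Normal → D = ⊥ := by
      intro D h1 h2
      exact hcore D h1 h2
    set π := (Nat.card M).primeFactors with hπ
    have hMne : Nat.card M ≠ 0 := Nat.card_pos.ne'
    have hK : ∀ p : ℕ, ∃ K : Subgroup G, p ∈ π →
        K.Normal ∧ ¬ p ∣ Nat.card K ∧ K.index = p ^ (Nat.card M).factorization p := by
      intro p
      by_cases hp : p ∈ π
      · have hpp := Nat.prime_of_mem_primeFactors hp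
        haveI : Fact p.Prime := ⟨hpp⟩
        have hdvd := Nat.dvd_of_mem_primeFactors hp
        have hp2 : p ≠ 2 := by
          rintro rfl
          exact (Nat.not_even_iff_odd.mpr hodd) (even_iff_two_dvd.mpr hdvd)
        obtain ⟨K, h⟩ := exists_npc_of_coatom hM hnil hcore' p hp2 hdvd
        exact ⟨K, fun _ => h⟩
      · exact ⟨⊥, fun h => absurd h hp⟩
    choose K hK using hK
    let L : Subgroup G := ⨅ p : π, K p
    have hLn : L.Normal := by
      apply Subgroup.normal_iInf_normal
      intro p
      exact (hK p p.2).1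
    have hLle : ∀ p ∈ π, L ≤ K p := fun p hp => iInf_le (fun p : π => K p) ⟨p, hp⟩
    have hidx : L.index ≤ Nat.card M := by
      have h1 := Subgroup.index_iInf_le (fun p : π => K p)
      refine h1.trans (le_of_eq ?_)
      have h2 : ∀ p : π, (K p).index = (p : ℕ) ^ (Nat.card M).factorization p := fun p =>
        (hK p p.2).2.2
      simp_rw [h2]
      rw [Finset.prod_coe_sort π (fun p => p ^ (Nat.card M).factorization p)]
      exact Nat.factorization_prod_pow_eq_self hMne
    have hdisj : ∀ x ∈ L, x ∈ M → x = 1 := by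
      intro x hxL hxM
      by_contra hne
      have h1 : orderOf x ≠ 1 := fun h => hne (orderOf_eq_one_iff.mp h)
      obtain ⟨q, hq, hd⟩ := Nat.exists_prime_and_dvd h1
      have h2 : orderOf x ∣ Nat.card M := by
        have := orderOf_dvd_natCard (⟨x, hxM⟩ : M)
        rwa [Subgroup.orderOf_mk] at this
      have hqπ : q ∈ π := Nat.mem_primeFactors.mpr ⟨hq, hd.trans h2, hMne⟩
      have h3 : orderOf x ∣ Nat.card (K q) := by
        have := orderOf_dvd_natCard (⟨x, hLle q hqπ hxL⟩ : K q)
        rwa [Subgroup.orderOf_mk] at this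
      exact (hK q hqπ).2.1 (hd.trans h3)
    have hcop : (Nat.card M).Coprime (Nat.card L) := by
      apply Nat.Coprime.symm
      apply Nat.coprime_of_dvd
      intro q hq hd1 hd2
      have hqπ : q ∈ π := Nat.mem_primeFactors.mpr ⟨hq, hd2, hMne⟩
      exact (hK q hqπ).2.1 (hd1.trans (Subgroup.card_dvd_of_le (hLle q hqπ)))
    have hL1 : L ≠ ⊥ := by
      intro h
      apply hM.1
      rw [h, Subgroup.index_bot] at hidx
      apply Subgroup.eq_top_of_card_eq
      apply le_antisymm (Subgroup.card_le_card_group M) hidx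
    have hLc : Nat.card L ≠ 1 := by
      intro h
      exact hL1 ((Subgroup.card_eq_one).mp h)
    obtain ⟨r, hr, hrd⟩ := Nat.exists_prime_and_dvd hLc
    haveI : Fact r.Prime := ⟨hr⟩
    haveI : Group.IsSolvable M := inferInstance
    have hMN : M ≤ Subgroup.normalizer (L : Set G) := by
      rw [Subgroup.normalizer_eq_top_iff.mpr hLn]
      exact le_top
    obtain ⟨R, hR⟩ := H01.exists_invariant_sylow hMN hcop (Or.inl inferInstance) r
    set R' : Subgroup G := (R : Subgroup L).map L.subtype with hR'
    have hR'L : R' ≤ L := Subgroup.map_subtype_le _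
    have hR'1 : R' ≠ ⊥ := by
      intro h
      have h1 : (R : Subgroup L) = ⊥ := by
        rwa [hR', Subgroup.map_eq_bot_iff_of_injective _ L.subtype_injective] at h
      have h2 := R.card_eq_multiplicity
      rw [h1, Subgroup.card_bot] at h2
      have h3 : 1 ≤ (Nat.card L).factorization r :=
        (hr.dvd_iff_one_le_factorization Nat.card_pos.ne').mp hrd
      have h4 : 1 < r ^ (Nat.card L).factorization r := Nat.one_lt_pow (by omega) hr.one_lt
      omega
    have hsup : M ⊔ R' = ⊤ := by
      apply hM.2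
      refine lt_of_le_of_ne le_sup_left ?_
      intro h
      have h1 : R' ≤ M := h ▸ le_sup_right
      apply hR'1
      rw [eq_bot_iff]
      intro x hx
      exact Subgroup.mem_bot.mpr (hdisj x (hR'L hx) (h1 hx))
    have hRnorm : R'.Normal := by
      rw [← Subgroup.normalizer_eq_top_iff, eq_top_iff, ← hsup]
      exact sup_le hR Subgroup.le_normalizer
    haveI := hRnorm
    have hRp : IsPGroup r R' := (R.isPGroup').map _
    haveI : Group.IsSolvable R' := by
      haveI : Group.IsNilpotent R' := hRp.isNilpotent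
      infer_instance
    have hq : Group.IsSolvable (G ⧸ R') := by
      let f : M →* G ⧸ R' := (QuotientGroup.mk' R').comp M.subtype
      apply solvable_of_surjective (f := f)
      intro y
      obtain ⟨g, rfl⟩ := QuotientGroup.mk_surjective y
      have hg : g ∈ M ⊔ R' := by rw [hsup]; trivial
      obtain ⟨m, hm, s, hs, rfl⟩ := Subgroup.mem_sup_of_normal_right.mp hg
      refine ⟨⟨m, hm⟩, ?_⟩
      show ((m : G) : G ⧸ R') = ((m * s : G) : G ⧸ R')
      rw [QuotientGroup.eq]
      simpa using hs
    exact solvable_of_ker_le_range R'.subtype (QuotientGroup.mk' R') (by simp)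

end Cfsg.Agent.H19
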