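import Cfsg.Agent.Lib.H19.Lifts
import Cfsg.Agent.Lib.H06.CoprimeCoset
import Cfsg.Agent.Lib.H15.BaerSuzuki
import Mathlib

set_option autoImplicit false
open scoped Pointwise

namespace Cfsg.Agent.H19

universe u

/-- If no `2`-element inverts a nontrivial element of odd order, the Sylow `2`-subgroups are normal. -/
theorem normal_sylow_two_of_no_inverting : ∀ (n : ℕ) (G : Type u) [Group G] [Finite G], Nat.card G = n →
    (∀ t y : G, (∃ k : ℕ, orderOf t = 2 ^ k) → Odd (orderOf y) → t * y * t⁻¹ = y⁻¹ → y = 1) →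
    ∀ P : Sylow 2 G, (P : Subgroup G).Normal := by
  intro n
  induction n using Nat.strong_induction_on with
  | _ n ih =>
    intro G _ _ hn hinv P
    have hF : Fact (Nat.Prime 2) := ⟨Nat.prime_two⟩
    by_cases hP : (P : Subgroup G) = ⊥
    · rw [hP]; infer_instance
    -- an involution
    have : Nontrivial (P : Subgroup G) := (Subgroup.nontrivial_iff_ne_bot _).2 hP
    obtain ⟨m, hm0, hm⟩ := P.isPGroup'.nontrivial_iff_card.1 this
    have h2P : 2 ∣ Nat.card (P : Subgroup G) := by
      rw [hm]; exact dvd_pow_self 2 hm0.ne'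
    obtain ⟨t', ht'⟩ := exists_prime_orderOf_dvd_card' (G := (P : Subgroup G)) 2 h2P
    set t : G := (t' : G) with htdef
    have ht : orderOf t = 2 := by rw [htdef, Subgroup.orderOf_coe, ht']
    have htt : t * t = 1 := by rw [← pow_two, ← ht]; exact pow_orderOf_eq_one t
    have htinv : t⁻¹ = t := inv_eq_of_mul_eq_one_left htt
    have hX : IsPGroup 2 (Subgroup.zpowers t) := by
      apply isPGroup_zpowers_of_orderOf (k := 1)
      rw [ht, pow_one]
    -- Baer-Suzuki
    have hBS : ∀ g : G, IsPGroup 2 ↥(Subgroup.zpowers t ⊔ (Subgroup.zpowers t).map (MulAut.conj g).toMonoidHom) := by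
      intro g
      set s := g * t * g⁻¹ with hs
      have hss : s * s = 1 := by
        rw [hs]
        calc g * t * g⁻¹ * (g * t * g⁻¹) = g * (t * t) * g⁻¹ := by group
          _ = 1 := by rw [htt]; group
      have hsinv : s⁻¹ = s := inv_eq_of_mul_eq_one_left hss
      set z := t * s with hz
      have htz : t * z * t⁻¹ = z⁻¹ := by
        rw [hz, mul_inv_rev, htinv, hsinv]
        calc t * (t * s) * t = (t * t) * s * t := by group
          _ = s * t := by rw [htt, one_mul]
      obtain ⟨a, b, hab, hcomm, ⟨k, hk⟩, hb, ham, hbm⟩ := exists_primary_decomp 2 z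
      have hb1 : b = 1 := by
        apply hinv t b ⟨1, by rw [ht, pow_one]⟩ (Nat.Coprime.odd_of_right hb)
        obtain ⟨i, hi⟩ := hbm
        have hi' : z ^ i = b := hi
        rw [← hi', ← conj_zpow, htz, inv_zpow]
      have hzk : orderOf z = 2 ^ k := by rw [hab, hb1, mul_one, hk]
      have hZ : IsPGroup 2 (Subgroup.zpowers z) := isPGroup_zpowers_of_orderOf hzk
      have hle : Subgroup.zpowers t ≤ Subgroup.normalizer ((Subgroup.zpowers z : Subgroup G) : Set G) := by
        rw [Subgroup.zpowers_le]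
        apply mem_normalizer_zpowers_of_conj_mem
        rw [htz]
        exact Subgroup.inv_mem _ (Subgroup.mem_zpowers z)
      have hsup := hX.to_sup_of_normal_right' hZ hle
      refine hsup.to_le ?_
      apply sup_le le_sup_left
      rw [Subgroup.map_le_iff_le_comap, Subgroup.zpowers_le, Subgroup.mem_comap]
      show g * t * g⁻¹ ∈ _
      have e : g * t * g⁻¹ = t * z := by
        rw [hz, ← mul_assoc, htt, one_mul]
      rw [e]
      exact Subgroup.mul_mem _ (Subgroup.mem_sup_left (Subgroup.mem_zpowers t))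
        (Subgroup.mem_sup_right (Subgroup.mem_zpowers z))
    obtain ⟨N, hNn, hNp, htN⟩ := Cfsg.Agent.H15.baer_suzuki_normal _ hX hBS
    have htN' : t ∈ N := htN (Subgroup.mem_zpowers t)
    have hN1 : N ≠ ⊥ := by
      intro h
      rw [h, Subgroup.mem_bot] at htN'
      rw [htN', orderOf_one] at ht
      omega
    let π : G →* G ⧸ N := QuotientGroup.mk' N
    have hπ : Function.Surjective π := QuotientGroup.mk'_surjective N
    have hker : ∀ v : G, π v = 1 ↔ v ∈ N := fun v => QuotientGroup.eq_one_iff v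
    have hcard : Nat.card (G ⧸ N) < n := by
      rw [← hn, Subgroup.card_eq_card_quotient_mul_card_subgroup N]
      have h1 : 1 < Nat.card N := by
        rw [Finite.one_lt_card_iff_nontrivial]
        exact (Subgroup.nontrivial_iff_ne_bot N).2 hN1
      have h2 : 0 < Nat.card (G ⧸ N) := Nat.card_pos
      exact lt_mul_of_one_lt_right h2 h1
    have hQ := ih _ hcard (G ⧸ N) rfl ?_ (Sylow.mapSurjective hπ P)
    · -- transfer back
      have hle : N ≤ (P : Subgroup G) := hNp.le_sylow_of_normal P
      have h1 : ((Sylow.mapSurjective hπ P : Sylow 2 (G ⧸ N)) : Subgroup (G ⧸ N)).comap π = P := by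
        rw [Sylow.coe_mapSurjective, Subgroup.comap_map_eq, QuotientGroup.ker_mk']
        exact sup_eq_left.2 hle
      rw [← h1]
      exact Subgroup.Normal.comap hQ π
    · -- the hypothesis passes to the quotient
      intro tb yb htb hyb hinvb
      obtain ⟨k, hk⟩ := htb
      have h1 : ∀ r : ℕ, r.Prime → r ∣ orderOf tb → r ∈ ({2} : Set ℕ) := by
        intro r hr hr1
        rw [hk] at hr1
        exact (Nat.prime_dvd_prime_iff_eq hr Nat.prime_two).1 (hr.dvd_of_dvd_pow hr1)
      have h2 : ∀ r : ℕ, r.Prime → r ∣ orderOf yb → r ∈ {r : ℕ | r ≠ 2} := by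
        intro r hr hr1
        show r ≠ 2
        rintro rfl
        exact (Nat.not_even_iff_odd.2 hyb) (even_iff_two_dvd.2 hr1)
      obtain ⟨t₀, rfl, ht₀⟩ := exists_pi_lift π hπ {2} tb h1
      obtain ⟨y, rfl, hy⟩ := exists_pi_lift π hπ {r | r ≠ 2} yb h2
      have hyodd : Odd (orderOf y) := by
        rw [← Nat.not_even_iff_odd, even_iff_two_dvd]
        intro h3
        exact hy 2 Nat.prime_two h3 rfl
      have ht₀k : ∃ j, orderOf t₀ = 2 ^ j :=
        ⟨_, Nat.eq_prime_pow_of_unique_prime_dvd (orderOf_pos t₀).ne' (fun {d} hd hd1 => ht₀ d hd hd1)⟩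
      obtain ⟨j, hj⟩ := ht₀k
      set w := t₀ * y * t₀⁻¹ with hw
      have hh : w * y ∈ N := by
        rw [← hker, map_mul, hw, map_mul, map_mul, map_inv, hinvb]
        simp
      have hgN : ∀ v ∈ N, y⁻¹ * v * y⁻¹⁻¹ ∈ N := fun v hv => hNn.conj_mem v hv _
      have hcop : (orderOf y⁻¹).Coprime (Nat.card N) := by
        rw [orderOf_inv]
        obtain ⟨q, hq⟩ := IsPGroup.iff_card.1 hNp
        rw [hq]
        exact Nat.Coprime.pow_right _ (Nat.coprime_two_right.2 hyodd)
      have hpow : (w * y * y⁻¹) ^ orderOf y⁻¹ = 1 := by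
        rw [mul_inv_cancel_right, orderOf_inv, hw, conj_pow, pow_orderOf_eq_one]
        simp
      obtain ⟨o, ho, he⟩ := Cfsg.Agent.H06.exists_conj_eq_of_pow_eq_one hgN hcop hh hpow
      rw [mul_inv_cancel_right] at he
      -- the new 2-element
      have hsup : IsPGroup 2 ↥(Subgroup.zpowers t₀ ⊔ N) :=
        (isPGroup_zpowers_of_orderOf hj).to_sup_of_normal_right hNp
      have hot : ∃ k, orderOf (o * t₀) = 2 ^ k := by
        apply orderOf_of_mem_isPGroup hsup
        exact Subgroup.mul_mem _ (Subgroup.mem_sup_right ho)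
          (Subgroup.mem_sup_left (Subgroup.mem_zpowers t₀))
      have hy1 : y = 1 := by
        apply hinv (o * t₀) y hot hyodd
        rw [← he, hw]
        group
      rw [hy1, map_one]

end Cfsg.Agent.H19
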