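import Mathlib

/-!
Abstract inequality for two commuting endomorphisms `a`, `b` of a finite commutative group of
order prime to `p`, with `b ^ p = 1`: the "eigenspaces" of `a` relative to powers of `b` are
independent modulo the fixed points of `b`.
-/

set_option linter.unusedSectionVars false
set_option linter.style.haveILetI false

namespace Cfsg.Agent.H19.PElt

open Subgroup

section Abstract
variable {A : Type*} [CommGroup A] [Finite A] {p : ℕ} [hp : Fact p.Prime]

/-- `b ^ c` for `c : ZMod p`. -/
noncomputable def Zp (p : ℕ) (b : Monoid.End A) (c : ZMod p) : Monoid.End A := b ^ c.val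

theorem Zp_add {b : Monoid.End A} (hb : b ^ p = 1) (c d : ZMod p) :
    Zp p b (c + d) = Zp p b c * Zp p b d := by
  simp only [Zp, ZMod.val_add]
  rw [← pow_add]
  exact (pow_eq_pow_mod _ hb).symm

theorem Zp_zero (b : Monoid.End A) : Zp p b 0 = 1 := by
  simp [Zp]

theorem Zp_one (b : Monoid.End A) : Zp p b 1 = b := by
  haveI : Fact (1 < p) := ⟨hp.out.one_lt⟩
  simp [Zp, ZMod.val_one]

theorem Zp_comm (a b : Monoid.End A) (hab : Commute a b) (c : ZMod p) : Commute a (Zp p b c) :=
  hab.pow_right _

theorem Zp_apply_add {b : Monoid.End A} (hb : b ^ p = 1) (c d : ZMod p) (x : A) :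
    Zp p b c (Zp p b d x) = Zp p b (c + d) x := by
  rw [Zp_add hb]; rfl

theorem indep_aux (hcop : (Nat.card A).Coprime p) (a b : Monoid.End A) (hab : Commute a b)
    (hb : b ^ p = 1) (d : ZMod p → A) (h1 : ∀ c, a (Zp p b c (d c)) = d c)
    (h2 : ∀ c, ∏ j : ZMod p, Zp p b j (d c) = 1) (h3 : ∏ c, d c = 1) (k : ZMod p) : d k = 1 := by
  classical
  -- action of `a` on `d c`
  have haz : ∀ c, a (d c) = Zp p b (-c) (d c) := by
    intro c
    have h := congrArg (Zp p b (-c)) (h1 c)
    have hc := (Zp_comm a b hab (-c)).eq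
    have h' : Zp p b (-c) (a (Zp p b c (d c))) = a (Zp p b (-c) (Zp p b c (d c))) :=
      (DFunLike.congr_fun hc _).symm
    rw [h', Zp_apply_add hb, neg_add_cancel, Zp_zero] at h
    exact h
  have han : ∀ (n : ℕ) (c : ZMod p), (a ^ n) (d c) = Zp p b (-c * n) (d c) := by
    intro n c
    induction n with
    | zero => simp [Zp_zero]
    | succ n ih =>
      have hc : Commute (a ^ n) (Zp p b (-c)) := (Zp_comm a b hab (-c)).pow_left n
      have h1' : (a ^ (n + 1)) (d c) = (a ^ n) (a (d c)) := by
        rw [pow_succ]; rfl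
      have h2' : (a ^ (n + 1)) (d c) = Zp p b (-c) ((a ^ n) (d c)) := by
        rw [h1', haz c]
        exact DFunLike.congr_fun hc.eq _
      rw [h2', ih, Zp_apply_add hb]
      congr 2
      push_cast
      ring
  have rel : ∀ j : ZMod p, ∏ c, Zp p b (-c * j) (d c) = 1 := by
    intro j
    have := congrArg (a ^ j.val) h3
    rw [map_prod, map_one] at this
    simpa only [han, ZMod.natCast_zmod_val] using this
  have rel2 : ∀ j : ZMod p, ∏ c, Zp p b ((k - c) * j) (d c) = 1 := by
    intro j
    have := congrArg (Zp p b (k * j)) (rel j)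
    rw [map_prod, map_one] at this
    rw [← this]
    refine Finset.prod_congr rfl (fun c _ => ?_)
    rw [Zp_apply_add hb]
    congr 2
    ring
  have tot : ∏ c, ∏ j : ZMod p, Zp p b ((k - c) * j) (d c) = 1 := by
    rw [Finset.prod_comm]
    exact Finset.prod_eq_one (fun j _ => rel2 j)
  rw [Finset.prod_eq_single k] at tot
  · have h4 : (d k) ^ p = 1 := by
      have : ∀ j : ZMod p, Zp p b ((k - k) * j) (d k) = d k := by
        intro j
        simp [Zp_zero]
      simp only [this, Finset.prod_const, Finset.card_univ, ZMod.card] at tot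
      exact tot
    have h5 : orderOf (d k) ∣ p := orderOf_dvd_of_pow_eq_one h4
    have h6 : orderOf (d k) ∣ Nat.card A := orderOf_dvd_natCard _
    have h7 : orderOf (d k) = 1 := Nat.eq_one_of_dvd_coprimes hcop h6 h5
    exact orderOf_eq_one_iff.mp h7
  · intro c _ hc
    have hne : k - c ≠ 0 := sub_ne_zero.2 (Ne.symm hc)
    rw [← h2 c]
    exact Fintype.prod_equiv (Equiv.mulLeft₀ (k - c) hne) _ _ (fun j => rfl)
  · intro h
    exact absurd (Finset.mem_univ k) h

/-- Fixed points of an endomorphism. -/
def fixS (f : Monoid.End A) : Subgroup A where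
  carrier := {x | f x = x}
  mul_mem' := by
    intro x y hx hy
    simp only [Set.mem_setOf_eq] at *
    rw [map_mul, hx, hy]
  one_mem' := by simp
  inv_mem' := by
    intro x hx
    simp only [Set.mem_setOf_eq] at *
    rw [map_inv, hx]

theorem mem_fixS {f : Monoid.End A} {x : A} : x ∈ fixS f ↔ f x = x := Iff.rfl

/-- `x ↦ b x / x`. -/
def dH (b : Monoid.End A) : A →* A :=
  MonoidHom.mk' (fun x => b x / x) (by
    intro x y
    rw [map_mul, mul_div_mul_comm])

theorem dH_apply (b : Monoid.End A) (x : A) : dH b x = b x / x := rfl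

theorem dH_ker (b : Monoid.End A) : (dH b).ker = fixS b := by
  ext x
  rw [MonoidHom.mem_ker, dH_apply, div_eq_one, mem_fixS]

theorem relIndex_eq_card_range (b : Monoid.End A) (T : Subgroup A) :
    (fixS b).relIndex T = Nat.card ((dH b).comp T.subtype).range := by
  have h : ((dH b).comp T.subtype).ker = (fixS b).subgroupOf T := by
    ext x
    rw [MonoidHom.mem_ker, Subgroup.mem_subgroupOf, mem_fixS]
    simp only [MonoidHom.comp_apply, Subgroup.coe_subtype, dH_apply, div_eq_one]
  rw [Subgroup.relIndex, ← h, Subgroup.index_ker]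

theorem dagger (hcop : (Nat.card A).Coprime p) (a b : Monoid.End A) (hab : Commute a b)
    (hb : b ^ p = 1) :
    ∏ c : ZMod p, (fixS b).relIndex (fixS (a * Zp p b c)) ≤ (fixS b).index := by
  classical
  let T : ZMod p → Subgroup A := fun c => fixS (a * Zp p b c)
  let S : ZMod p → Subgroup A := fun c => ((dH b).comp (T c).subtype).range
  have hS : ∀ c, ∀ x ∈ S c, ∃ t, (a * Zp p b c) t = t ∧ dH b t = x := by
    rintro c x ⟨t, rfl⟩
    exact ⟨t, t.2, rfl⟩
  have hprop : ∀ c, ∀ x ∈ S c, a (Zp p b c x) = x ∧ ∏ j : ZMod p, Zp p b j x = 1 := by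
    intro c x hx
    obtain ⟨t, ht, rfl⟩ := hS c x hx
    constructor
    · rw [dH_apply, map_div, map_div]
      have h1 : a (Zp p b c t) = t := ht
      have h2 : a (Zp p b c (b t)) = b t := by
        have hc : Commute (a * Zp p b c) b :=
          hab.mul_left ((Commute.refl b).pow_left _)
        have h3 := DFunLike.congr_fun hc.eq t
        have h4 : ((a * Zp p b c) * b) t = a (Zp p b c (b t)) := rfl
        have h5 : (b * (a * Zp p b c)) t = b (a (Zp p b c t)) := rfl
        rw [h4, h5, h1] at h3
        exact h3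
      rw [h1, h2]
    · have h1 : ∀ j : ZMod p, Zp p b j (dH b t) = Zp p b (j + 1) t / Zp p b j t := by
        intro j
        rw [dH_apply, map_div, Zp_add hb, Zp_one]
        rfl
      simp only [h1]
      rw [Finset.prod_div_distrib, div_eq_one]
      exact Fintype.prod_equiv (Equiv.addRight 1) _ _ (fun j => rfl)
  have hrange : ∀ c, ∀ x ∈ S c, x ∈ (dH b).range := by
    rintro c x ⟨t, rfl⟩
    exact ⟨t, rfl⟩
  let Φ : (∀ c, S c) → (dH b).range := fun s =>
    ⟨∏ c, (s c : A), Subgroup.prod_mem _ (fun c _ => hrange c _ (s c).2)⟩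
  have hΦ : Function.Injective Φ := by
    intro s s' h
    have h0 : ∏ c, ((s c : A) / (s' c : A)) = 1 := by
      rw [Finset.prod_div_distrib, div_eq_one]
      exact congrArg Subtype.val h
    funext k
    have hk := indep_aux hcop a b hab hb (fun c => (s c : A) / (s' c : A))
      (fun c => (hprop c _ ((S c).div_mem (s c).2 (s' c).2)).1)
      (fun c => (hprop c _ ((S c).div_mem (s c).2 (s' c).2)).2) h0 k
    exact Subtype.ext (div_eq_one.mp hk)
  have h1 := Nat.card_le_card_of_injective Φ hΦ
  rw [Nat.card_pi] at h1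
  have h2 : Nat.card (dH b).range = (fixS b).index := by
    rw [← dH_ker, Subgroup.index_ker]
  rw [h2] at h1
  calc ∏ c : ZMod p, (fixS b).relIndex (fixS (a * Zp p b c))
      = ∏ c, Nat.card (S c) := by
        refine Finset.prod_congr rfl (fun c _ => ?_)
        exact relIndex_eq_card_range b _
    _ ≤ _ := h1

end Abstract

end Cfsg.Agent.H19.PElt

namespace Cfsg.Agent.H19.PElt

section Aut

/-- Fixed points of an automorphism. -/
def fixA {A : Type*} [Group A] (f : MulAut A) : Subgroup A where
  carrier := {x | f x = x}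
  mul_mem' := by
    intro x y hx hy
    simp only [Set.mem_setOf_eq] at *
    rw [map_mul, hx, hy]
  one_mem' := by simp
  inv_mem' := by
    intro x hx
    simp only [Set.mem_setOf_eq] at *
    rw [map_inv, hx]

theorem mem_fixA {A : Type*} [Group A] {f : MulAut A} {x : A} : x ∈ fixA f ↔ f x = x := Iff.rfl

/-- `MulAut A → End A`. -/
def toEH (A : Type*) [Group A] : MulAut A →* Monoid.End A where
  toFun x := x.toMonoidHom
  map_one' := rfl
  map_mul' _ _ := rfl

theorem card_inf_of_subgroupOf {A : Type*} [Group A] (X T : Subgroup A) :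
    Nat.card (X.subgroupOf T) = Nat.card ↥(T ⊓ X) := by
  have h : (X.subgroupOf T).map T.subtype = T ⊓ X := by
    ext x
    simp only [Subgroup.mem_map, Subgroup.mem_subgroupOf, Subgroup.coe_subtype, Subgroup.mem_inf]
    constructor
    · rintro ⟨t, ht, rfl⟩
      exact ⟨t.2, ht⟩
    · rintro ⟨h1, h2⟩
      exact ⟨⟨x, h1⟩, h2, rfl⟩
  rw [← h]
  exact (Subgroup.card_map_of_injective T.subtype_injective).symm

theorem dagger_aut {A : Type*} [CommGroup A] [Finite A] {p : ℕ} [hp : Fact p.Prime]
    (hcop : (Nat.card A).Coprime p) (a b : MulAut A) (hab : Commute a b) (hb : b ^ p = 1) :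
    ∏ c : ZMod p, Nat.card ↥(fixA (a * b ^ c.val)) ≤
      Nat.card ↥(fixA a ⊓ fixA b) ^ p * (fixA b).index := by
  classical
  have hab' : Commute (toEH A a) (toEH A b) := hab.map _
  have hb' : (toEH A b) ^ p = 1 := by rw [← map_pow, hb, map_one]
  have hd := dagger hcop (toEH A a) (toEH A b) hab' hb'
  have hfix : ∀ f : MulAut A, fixS (toEH A f) = fixA f := fun f => rfl
  have hZ : ∀ c : ZMod p, toEH A a * Zp p (toEH A b) c = toEH A (a * b ^ c.val) := by
    intro c
    simp only [Zp, map_mul, map_pow]
  have hcard : ∀ c : ZMod p, Nat.card ↥(fixA (a * b ^ c.val)) =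
      Nat.card ↥(fixA a ⊓ fixA b) * (fixA b).relIndex (fixA (a * b ^ c.val)) := by
    intro c
    have h1 := Subgroup.card_mul_index ((fixA b).subgroupOf (fixA (a * b ^ c.val)))
    rw [card_inf_of_subgroupOf] at h1
    have h2 : fixA (a * b ^ c.val) ⊓ fixA b = fixA a ⊓ fixA b := by
      have hbc : ∀ x, b x = x → (b ^ c.val) x = x := by
        intro x hx
        have : ∀ n : ℕ, (b ^ n) x = x := by
          intro n
          induction n with
          | zero => rfl
          | succ n ih =>
            rw [pow_succ, MulAut.mul_apply, hx, ih]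
        exact this _
      ext x
      simp only [Subgroup.mem_inf, mem_fixA, MulAut.mul_apply]
      constructor
      · rintro ⟨h1, h2⟩
        rw [hbc x h2] at h1
        exact ⟨h1, h2⟩
      · rintro ⟨h1, h2⟩
        rw [hbc x h2]
        exact ⟨h1, h2⟩
    rw [h2] at h1
    exact h1.symm
  calc ∏ c : ZMod p, Nat.card ↥(fixA (a * b ^ c.val))
      = ∏ c : ZMod p, (Nat.card ↥(fixA a ⊓ fixA b) * (fixA b).relIndex (fixA (a * b ^ c.val))) :=
        Finset.prod_congr rfl (fun c _ => hcard c)
    _ = Nat.card ↥(fixA a ⊓ fixA b) ^ p * ∏ c : ZMod p, (fixA b).relIndex (fixA (a * b ^ c.val)) := by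
        rw [Finset.prod_mul_distrib, Finset.prod_const, Finset.card_univ, ZMod.card]
    _ ≤ _ := by
        refine Nat.mul_le_mul_left _ ?_
        have : ∀ c : ZMod p, fixS (toEH A a * Zp p (toEH A b) c) = fixA (a * b ^ c.val) := by
          intro c
          rw [hZ, hfix]
        simp only [this] at hd
        exact hd

end Aut

end Cfsg.Agent.H19.PElt
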