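import Mathlib
import Cfsg.Agent.Lib.H19.Basic
import Cfsg.Agent.Lib.H19.Lifts
import Cfsg.Agent.Lib.H06.CoprimeCoset
import Cfsg.Agent.Lib.H15.Modular

/-! `π`-elements forming a subgroup across a normal section (helper19). -/

set_option autoImplicit false
set_option linter.style.haveILetI false

namespace Cfsg.Agent.H19

variable {G : Type*} [Group G]

/-- `π`-elements. -/
def IsPiElt (π : Set ℕ) (x : G) : Prop := ∀ p : ℕ, p.Prime → p ∣ orderOf x → p ∈ π

section
variable {π : Set ℕ}

theorem isPiElt_one : IsPiElt π (1 : G) := by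
  intro p hp hd
  rw [orderOf_one] at hd
  exact absurd (Nat.dvd_one.mp hd) hp.ne_one

theorem IsPiElt.of_dvd {x : G} {y : G} (hx : IsPiElt π x) (h : orderOf y ∣ orderOf x) : IsPiElt π y :=
  fun p hp hd => hx p hp (hd.trans h)

theorem IsPiElt.pow {x : G} (hx : IsPiElt π x) (n : ℕ) : IsPiElt π (x ^ n) :=
  hx.of_dvd (orderOf_pow_dvd n)

theorem IsPiElt.inv {x : G} (hx : IsPiElt π x) : IsPiElt π x⁻¹ := by
  intro p hp hd
  rw [orderOf_inv] at hd
  exact hx p hp hd

theorem IsPiElt.mul {x y : G} (hx : IsPiElt π x) (hy : IsPiElt π y) (h : Commute x y) :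
    IsPiElt π (x * y) := by
  intro p hp hd
  have h1 : orderOf (x * y) ∣ orderOf x * orderOf y := h.orderOf_mul_dvd_mul_orderOf
  rcases (Nat.Prime.dvd_mul hp).1 (hd.trans h1) with h2 | h2
  · exact hx p hp h2
  · exact hy p hp h2

theorem IsPiElt.map {G' : Type*} [Group G'] {x : G} (hx : IsPiElt π x) (f : G →* G') :
    IsPiElt π (f x) :=
  fun p hp hd => hx p hp (hd.trans (orderOf_map_dvd f x))

theorem IsPiElt.of_pow {x : G} {m : ℕ} (hm : ∀ p : ℕ, p.Prime → p ∣ m → p ∈ π)
    (hx : IsPiElt π (x ^ m)) : IsPiElt π x := by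
  intro p hp hd
  have h1 : orderOf x ∣ orderOf (x ^ m) * m := by
    apply orderOf_dvd_of_pow_eq_one
    rw [mul_comm, pow_mul, pow_orderOf_eq_one]
  rcases (Nat.Prime.dvd_mul hp).1 (hd.trans h1) with h2 | h2
  · exact hx p hp h2
  · exact hm p hp h2

theorem IsPiElt.conj {x : G} (hx : IsPiElt π x) (g : G) : IsPiElt π (g * x * g⁻¹) := by
  have h : orderOf (g * x * g⁻¹) = orderOf x := by
    have h1 : g * x * g⁻¹ = (MulAut.conj g).toMonoidHom x := rfl
    rw [h1]
    exact orderOf_injective _ (MulEquiv.injective _) x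
  intro p hp hd
  rw [h] at hd
  exact hx p hp hd

theorem isPiElt_coe {H : Subgroup G} {x : H} : IsPiElt π (x : G) ↔ IsPiElt π x := by
  unfold IsPiElt
  rw [Subgroup.orderOf_coe]

end

/-- The main step: across a normal subgroup. -/
theorem exists_subgroup_pi_elements [Finite G] (π : Set ℕ)
    (hhom : ∀ H : Subgroup G, H ≠ ⊥ → (∀ p : ℕ, p.Prime → p ∣ Nat.card H → p ∉ π) →
      ∀ x ∈ Subgroup.normalizer (H : Set G), IsPiElt π x → x ∈ Subgroup.centralizer (H : Set G))
    (K : Subgroup G) [K.Normal]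
    (hK : ∃ L : Subgroup K, ∀ x : K, x ∈ L ↔ IsPiElt π x)
    (hQ : ∃ L : Subgroup (G ⧸ K), ∀ x : G ⧸ K, x ∈ L ↔ IsPiElt π x) :
    ∃ W : Subgroup G, ∀ x : G, x ∈ W ↔ IsPiElt π x := by
  classical
  obtain ⟨L₀, hL₀⟩ := hK
  obtain ⟨M₀, hM₀⟩ := hQ
  set L : Subgroup G := L₀.map K.subtype with hLdef
  have hLmem : ∀ x : G, x ∈ L ↔ x ∈ K ∧ IsPiElt π x := by
    intro x
    constructor
    · rintro ⟨y, hy, rfl⟩
      exact ⟨y.2, isPiElt_coe.2 ((hL₀ y).1 hy)⟩
    · rintro ⟨h1, h2⟩
      exact ⟨⟨x, h1⟩, (hL₀ _).2 (isPiElt_coe.1 h2), rfl⟩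
  haveI hLn : L.Normal := by
    constructor
    intro n hn g
    rw [hLmem] at hn ⊢
    exact ⟨(inferInstance : K.Normal).conj_mem _ hn.1 g, hn.2.conj g⟩
  have hLK : L ≤ K := fun x hx => ((hLmem x).1 hx).1
  set ρ := QuotientGroup.mk' L with hρ
  have hρs : Function.Surjective ρ := QuotientGroup.mk'_surjective L
  set Kb : Subgroup (G ⧸ L) := K.map ρ with hKb
  haveI hKbn : Kb.Normal := Subgroup.Normal.map inferInstance ρ hρs
  -- `Kb` has no nontrivial π-elements
  have hF1 : ∀ z ∈ Kb, IsPiElt π z → z = 1 := by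
    rintro _ ⟨k, hk, rfl⟩ hz
    obtain ⟨a, b, hab, -, ha, hb, haz, hbz⟩ := exists_pi_decomp π k
    have hzk : Subgroup.zpowers k ≤ K := by rwa [Subgroup.zpowers_le]
    have haL : a ∈ L := (hLmem a).2 ⟨hzk haz, ha⟩
    have h1 : ρ k = ρ b := by
      have h0 : ρ a = 1 := (QuotientGroup.eq_one_iff a).2 haL
      rw [hab, map_mul, h0, one_mul]
    rw [h1] at hz ⊢
    by_contra hne
    have h2 : orderOf (ρ b) ≠ 1 := fun h => hne (orderOf_eq_one_iff.mp h)
    obtain ⟨r, hr, hrd⟩ := Nat.exists_prime_and_dvd h2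
    exact hb r hr (hrd.trans (orderOf_map_dvd ρ b)) (hz r hr hrd)
  have hF2 : ∀ r : ℕ, r.Prime → r ∣ Nat.card Kb → r ∉ π := by
    intro r hr hrd hrπ
    haveI := Fact.mk hr
    obtain ⟨z, hz⟩ := exists_prime_orderOf_dvd_card' r hrd
    have hz1 : ((z : Kb) : G ⧸ L) = 1 := by
      apply hF1 _ z.2
      intro p hp hd
      rw [Subgroup.orderOf_coe, hz] at hd
      rw [(Nat.prime_dvd_prime_iff_eq hp hr).1 hd]
      exact hrπ
    have : z = 1 := Subtype.ext hz1
    rw [this, orderOf_one] at hz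
    exact hr.one_lt.ne hz
  have hcop : ∀ g : G ⧸ L, IsPiElt π g → (orderOf g).Coprime (Nat.card Kb) := by
    intro g hg
    apply Nat.coprime_of_dvd
    intro r hr h1 h2
    exact hF2 r hr h2 (hg r hr h1)
  -- the key commutation
  have hcomm : ∀ x : G, IsPiElt π x → ∀ k ∈ K, Commute (ρ k) (ρ x) := by
    intro x hx
    set g : G ⧸ L := ρ x with hg
    have hgpi : IsPiElt π g := hx.map ρ
    have hnorm : ∀ y ∈ Kb, g * y * g⁻¹ ∈ Kb := fun y hy => hKbn.conj_mem y hy g
    have hC : ∀ (r : ℕ) [Fact r.Prime], r ∉ π → ∀ T : Sylow r K, ∃ k₀ : K, ∀ t ∈ (T : Subgroup K),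
        Commute (ρ ((k₀ : G) * t * (k₀ : G)⁻¹)) g := by
      intro r _ hr T
      have hr' : r.Prime := Fact.out
      set T₀ : Subgroup G := (T : Subgroup K).map K.subtype with hT₀
      have hfr : Subgroup.normalizer (T₀ : Set G) ⊔ K = ⊤ := Sylow.normalizer_sup_eq_top T
      obtain ⟨n, hn, k, hk, hnk⟩ := Subgroup.mem_sup_of_normal_right.1
        (hfr ▸ Subgroup.mem_top x : x ∈ Subgroup.normalizer (T₀ : Set G) ⊔ K)
      obtain ⟨a, b, hab, -, ha, hb, haz, hbz⟩ := exists_pi_decomp π n
      have hzn : Subgroup.zpowers n ≤ Subgroup.normalizer (T₀ : Set G) := by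
        rwa [Subgroup.zpowers_le]
      have haN := hzn haz
      -- b ∈ K
      have hbK : b ∈ K := by
        set f := QuotientGroup.mk' K with hf
        have h1 : f n = f x := by
          have h0 : f k = 1 := (QuotientGroup.eq_one_iff k).2 hk
          rw [← hnk, map_mul, h0, mul_one]
        have h2 : f b ∈ Subgroup.zpowers (f x) := by
          obtain ⟨i, hi⟩ := hbz
          refine ⟨i, ?_⟩
          simp only at hi ⊢
          rw [← h1, ← map_zpow, hi]
        have h3 : orderOf (f b) ∣ orderOf (f x) := orderOf_dvd_of_mem_zpowers h2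
        have h4 : orderOf (f b) = 1 := by
          by_contra hne
          obtain ⟨s, hs, hsd⟩ := Nat.exists_prime_and_dvd hne
          exact hb s hs (hsd.trans (orderOf_map_dvd f b)) ((hx.map f) s hs (hsd.trans h3))
        rw [orderOf_eq_one_iff] at h4
        exact (QuotientGroup.eq_one_iff b).1 h4
      have hT₀p : IsPGroup r T₀ := T.2.map K.subtype
      have haC : a ∈ Subgroup.centralizer (T₀ : Set G) := by
        by_cases hbot : T₀ = ⊥
        · rw [hbot]
          refine Subgroup.mem_centralizer_iff.2 ?_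
          intro t ht
          have : t = 1 := by simpa using ht
          rw [this, one_mul, mul_one]
        · apply hhom T₀ hbot _ a haN ha
          intro p hp hpd
          obtain ⟨e, he⟩ := IsPGroup.iff_card.mp hT₀p
          rw [he] at hpd
          have := hp.dvd_of_dvd_pow hpd
          rw [(Nat.prime_dvd_prime_iff_eq hp hr').1 this]
          exact hr
      set k₁ : G := b * k with hk₁
      have hk₁K : k₁ ∈ K := K.mul_mem hbK hk
      have hxa : x = a * k₁ := by
        rw [hk₁, ← mul_assoc, ← hab, hnk]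
      -- y
      set y : G ⧸ L := ρ a * g⁻¹ with hy
      have hyK : y ∈ Kb := by
        refine ⟨a * k₁⁻¹ * a⁻¹, (inferInstance : K.Normal).conj_mem _ (K.inv_mem hk₁K) a, ?_⟩
        rw [hy, hg, hxa]
        simp only [map_mul, map_inv]
        group
      have hyg : y * g = ρ a := by rw [hy]; group
      have hpow : (y * g) ^ orderOf g = 1 := by
        rw [hyg]
        apply hF1
        · set m := orderOf g with hm
          have hxm : x ^ m ∈ L := by
            rw [← QuotientGroup.eq_one_iff]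
            show g ^ m = 1
            rw [hm]; exact pow_orderOf_eq_one g
          have hamK : a ^ m ∈ K := by
            rw [← QuotientGroup.eq_one_iff]
            have h1 : (a : G ⧸ K) = (x : G ⧸ K) := by
              rw [hxa, QuotientGroup.mk_mul, (QuotientGroup.eq_one_iff k₁).2 hk₁K, mul_one]
            rw [QuotientGroup.mk_pow, h1, ← QuotientGroup.mk_pow, QuotientGroup.eq_one_iff]
            exact hLK hxm
          exact ⟨a ^ m, hamK, by rw [map_pow]⟩
        · exact (IsPiElt.map ha ρ).pow _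
      obtain ⟨c, hcK, hc⟩ := H06.exists_conj_eq_of_pow_eq_one hnorm (hcop g hgpi) hyK hpow
      obtain ⟨k₀, hk₀, rfl⟩ := hcK
      refine ⟨⟨k₀, hk₀⟩, ?_⟩
      intro t ht
      have hgeq : g = ρ (k₀ * a * k₀⁻¹) := by
        rw [← hc, hyg]
        simp only [map_mul, map_inv]
      have hat : Commute a (t : G) := by
        have h1 := Subgroup.mem_centralizer_iff.1 haC (t : G) ⟨t, ht, rfl⟩
        exact h1.symm
      rw [hgeq]
      show ρ (k₀ * t * k₀⁻¹) * ρ (k₀ * a * k₀⁻¹) = ρ (k₀ * a * k₀⁻¹) * ρ (k₀ * t * k₀⁻¹)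
      rw [← map_mul, ← map_mul]
      congr 1
      have hat' : (t : G) * a = a * (t : G) := hat.eq.symm
      calc k₀ * (t : G) * k₀⁻¹ * (k₀ * a * k₀⁻¹) = k₀ * ((t : G) * a) * k₀⁻¹ := by group
        _ = k₀ * (a * (t : G)) * k₀⁻¹ := by rw [hat']
        _ = k₀ * a * k₀⁻¹ * (k₀ * (t : G) * k₀⁻¹) := by group
    -- the index argument
    set D : Subgroup K := (Subgroup.centralizer ({g} : Set (G ⧸ L)) |>.comap ρ).subgroupOf K with hD
    have hDmem : ∀ k : K, k ∈ D ↔ Commute (ρ (k : G)) g := by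
      intro k
      rw [hD, Subgroup.mem_subgroupOf, Subgroup.mem_comap, Subgroup.mem_centralizer_iff]
      constructor
      · intro h
        exact (h g (Set.mem_singleton g)).symm
      · intro h t ht
        rw [Set.mem_singleton_iff] at ht
        rw [ht]
        exact h.eq.symm
    have hidx : D.index = 1 := by
      by_contra hne
      obtain ⟨r, hr, hrd⟩ := Nat.exists_prime_and_dvd hne
      haveI := Fact.mk hr
      by_cases hrπ : r ∈ π
      · let S : Sylow r K := default
        have hSD : (S : Subgroup K) ≤ D := by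
          intro s hs
          rw [hDmem]
          obtain ⟨e, he⟩ := S.2 ⟨s, hs⟩
          have hse : s ^ r ^ e = 1 := by
            have := congrArg Subtype.val he
            simpa using this
          obtain ⟨f, -, hf⟩ := (Nat.dvd_prime_pow hr).1 (orderOf_dvd_of_pow_eq_one hse)
          have hspi : IsPiElt π s := by
            intro p hp hd
            rw [hf] at hd
            rw [(Nat.prime_dvd_prime_iff_eq hp hr).1 (hp.dvd_of_dvd_pow hd)]
            exact hrπ
          have hsL : (s : G) ∈ L := (hLmem _).2 ⟨s.2, isPiElt_coe.2 hspi⟩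
          have h1 : ρ (s : G) = 1 := (QuotientGroup.eq_one_iff _).2 hsL
          rw [h1]
          exact Commute.one_left g
        exact S.not_dvd_index (hrd.trans (Subgroup.index_dvd_of_le hSD))
      · let T : Sylow r K := default
        obtain ⟨k₀, hk₀⟩ := hC r hrπ T
        have hTD : ((k₀ • T : Sylow r K) : Subgroup K) ≤ D := by
          rw [Sylow.coe_subgroup_smul]
          intro t ht
          rw [mem_conj_smul] at ht
          have h1 := hk₀ _ ht
          rw [hDmem]
          have h2 : ((k₀ : G) * ((k₀⁻¹ * t * k₀ : K) : G) * (k₀ : G)⁻¹) = (t : G) := by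
            push_cast
            group
          rw [h2] at h1
          exact h1
        exact (k₀ • T : Sylow r K).not_dvd_index (hrd.trans (Subgroup.index_dvd_of_le hTD))
    have hDtop : D = ⊤ := Subgroup.index_eq_one.mp hidx
    intro k hk
    have : (⟨k, hk⟩ : K) ∈ D := by rw [hDtop]; exact Subgroup.mem_top _
    exact (hDmem _).1 this
  -- the subgroup generated
  set X : Set (G ⧸ L) := {z | ∃ x : G, IsPiElt π x ∧ ρ x = z} with hX
  set V : Subgroup (G ⧸ L) := Subgroup.closure X with hV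
  have hVcent : V ≤ Subgroup.centralizer (Kb : Set (G ⧸ L)) := by
    rw [hV, Subgroup.closure_le]
    rintro _ ⟨x, hx, rfl⟩
    rw [SetLike.mem_coe, Subgroup.mem_centralizer_iff]
    rintro _ ⟨k, hk, rfl⟩
    exact hcomm x hx k hk
  let θ : (G ⧸ L) →* (G ⧸ K) := QuotientGroup.map L K (MonoidHom.id G) hLK
  have hθρ : ∀ x : G, θ (ρ x) = (x : G ⧸ K) := fun x => rfl
  have hVM : V.map θ ≤ M₀ := by
    rw [hV, MonoidHom.map_closure, Subgroup.closure_le]
    rintro _ ⟨_, ⟨x, hx, rfl⟩, rfl⟩
    rw [SetLike.mem_coe, hM₀, hθρ]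
    exact hx.map (QuotientGroup.mk' K)
  have hM₀card : ∀ p : ℕ, p.Prime → p ∣ Nat.card M₀ → p ∈ π := by
    intro p hp hd
    haveI := Fact.mk hp
    obtain ⟨z, hz⟩ := exists_prime_orderOf_dvd_card' p hd
    have h1 : IsPiElt π ((z : M₀) : G ⧸ K) := (hM₀ _).1 z.2
    apply h1 p hp
    rw [Subgroup.orderOf_coe, hz]
  let θ' : V →* (G ⧸ K) := θ.comp V.subtype
  have hker : θ'.ker ≤ Subgroup.center V := by
    intro v hv
    rw [Subgroup.mem_center_iff]
    intro w
    have h1 : θ (v : G ⧸ L) = 1 := hv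
    obtain ⟨x, hx⟩ := hρs (v : G ⧸ L)
    have h2 : x ∈ K := by
      rw [← hx, hθρ] at h1
      exact (QuotientGroup.eq_one_iff x).1 h1
    have h3 := Subgroup.mem_centralizer_iff.1 (hVcent w.2) (v : G ⧸ L) ⟨x, h2, hx⟩
    exact Subtype.ext h3.symm
  set c : ℕ := (Subgroup.center V).index with hc
  have hcpi : ∀ p : ℕ, p.Prime → p ∣ c → p ∈ π := by
    intro p hp hd
    apply hM₀card p hp
    have h1 : c ∣ θ'.ker.index := Subgroup.index_dvd_of_le hker
    have h2 : θ'.ker.index = Nat.card θ'.range := Subgroup.index_ker θ'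
    have h3 : θ'.range ≤ M₀ := by
      rintro _ ⟨v, rfl⟩
      exact hVM ⟨v, v.2, rfl⟩
    have h4 := Subgroup.card_dvd_of_le h3
    exact hd.trans (h1.trans (h2 ▸ h4))
  haveI : (Subgroup.center V).FiniteIndex := inferInstance
  have hf : ∀ v (hv : v ∈ Subgroup.closure X),
      IsPiElt π (((MonoidHom.transferCenterPow V ⟨v, hv⟩ : Subgroup.center V) : V) : G ⧸ L) := by
    intro v hv
    induction hv using Subgroup.closure_induction with
    | mem z hz =>
      obtain ⟨x, hx, rfl⟩ := hz
      rw [MonoidHom.transferCenterPow_apply]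
      push_cast
      exact (hx.map ρ).pow _
    | one =>
      have : (⟨1, Subgroup.one_mem _⟩ : V) = 1 := rfl
      rw [this, map_one]
      exact isPiElt_one
    | mul x y hx hy ihx ihy =>
      have : (⟨x * y, Subgroup.mul_mem _ hx hy⟩ : V) = ⟨x, hx⟩ * ⟨y, hy⟩ := rfl
      rw [this, map_mul]
      push_cast
      apply ihx.mul ihy
      have h1 := Subgroup.mem_center_iff.1 (MonoidHom.transferCenterPow V ⟨y, hy⟩).2
        ((MonoidHom.transferCenterPow V ⟨x, hx⟩ : Subgroup.center V) : V)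
      exact congrArg Subtype.val h1
    | inv x hx ih =>
      have : (⟨x⁻¹, Subgroup.inv_mem _ hx⟩ : V) = ⟨x, hx⟩⁻¹ := rfl
      rw [this, map_inv]
      push_cast
      exact ih.inv
  have hVpi : ∀ v ∈ V, IsPiElt π v := by
    intro v hv
    have h1 := hf v hv
    rw [MonoidHom.transferCenterPow_apply] at h1
    push_cast at h1
    exact IsPiElt.of_pow hcpi h1
  refine ⟨V.comap ρ, ?_⟩
  intro x
  constructor
  · intro hx
    have h1 : IsPiElt π (ρ x) := hVpi _ hx
    have h2 : x ^ orderOf (ρ x) ∈ L := by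
      rw [← QuotientGroup.eq_one_iff]
      exact pow_orderOf_eq_one (ρ x)
    exact IsPiElt.of_pow h1 ((hLmem _).1 h2).2
  · intro hx
    exact Subgroup.subset_closure ⟨x, hx, rfl⟩

end Cfsg.Agent.H19

namespace Cfsg.Agent.H19

variable {G : Type*} [Group G]

/-- The centralizer is normal in the normalizer. -/
theorem centralizer_subgroupOf_normal (H : Subgroup G) :
    ((Subgroup.centralizer (H : Set G)).subgroupOf (Subgroup.normalizer (H : Set G))).Normal := by
  constructor
  intro c hc g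
  rw [Subgroup.mem_subgroupOf] at hc ⊢
  refine Subgroup.mem_centralizer_iff.2 ?_
  intro h hh
  have h1 : (g : G)⁻¹ * h * g ∈ H := by
    have := (Subgroup.mem_normalizer_iff.1 (Subgroup.inv_mem _ g.2) h).1 hh
    simpa using this
  have h2 := Subgroup.mem_centralizer_iff.1 hc _ h1
  show h * ((g : G) * c * (g : G)⁻¹) = (g : G) * c * (g : G)⁻¹ * h
  calc h * ((g : G) * c * (g : G)⁻¹) = g * (((g : G)⁻¹ * h * g) * c) * (g : G)⁻¹ := by group
    _ = g * (c * ((g : G)⁻¹ * h * g)) * (g : G)⁻¹ := by rw [h2]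
    _ = (g : G) * c * (g : G)⁻¹ * h := by group

/-- From the `relIndex` condition to the element form. -/
theorem mem_centralizer_of_relIndex [Finite G] {π : Set ℕ} (H : Subgroup G)
    (hr : ∀ p : ℕ, p.Prime →
      p ∣ (Subgroup.centralizer (H : Set G)).relIndex (Subgroup.normalizer (H : Set G)) → p ∉ π)
    {x : G} (hx : x ∈ Subgroup.normalizer (H : Set G)) (hpi : IsPiElt π x) :
    x ∈ Subgroup.centralizer (H : Set G) := by
  set N := Subgroup.normalizer (H : Set G) with hN
  set D : Subgroup N := (Subgroup.centralizer (H : Set G)).subgroupOf N with hD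
  haveI : D.Normal := centralizer_subgroupOf_normal H
  let y : N := ⟨x, hx⟩
  have h1 : y ^ D.index ∈ D := Subgroup.pow_index_mem D y
  have h2 : y ^ orderOf y ∈ D := by rw [pow_orderOf_eq_one]; exact D.one_mem
  have h3 : Nat.Coprime D.index (orderOf y) := by
    apply Nat.coprime_of_dvd
    intro r hrp hr1 hr2
    apply hr r hrp hr1
    apply hpi r hrp
    rw [← Subgroup.orderOf_coe y] at hr2
    exact hr2
  have h4 : y ∈ D := H15.mem_of_pow_mem_of_pow_mem h1 h2 h3
  exact h4

/-- A `π`-subgroup from a subgroup of `π`-elements: the element form of the hypothesis inherited by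
a subgroup. -/
theorem hom_subgroup {π : Set ℕ} [Finite G]
    (hhom : ∀ H : Subgroup G, H ≠ ⊥ → (∀ p : ℕ, p.Prime → p ∣ Nat.card H → p ∉ π) →
      ∀ x ∈ Subgroup.normalizer (H : Set G), IsPiElt π x → x ∈ Subgroup.centralizer (H : Set G))
    (A : Subgroup G) :
    ∀ H : Subgroup A, H ≠ ⊥ → (∀ p : ℕ, p.Prime → p ∣ Nat.card H → p ∉ π) →
      ∀ x ∈ Subgroup.normalizer (H : Set A), IsPiElt π x → x ∈ Subgroup.centralizer (H : Set A) := by
  intro H hH hp x hx hxpi
  set H' : Subgroup G := H.map A.subtype with hH'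
  have hcard : Nat.card H' = Nat.card H :=
    Nat.card_congr (H.equivMapOfInjective A.subtype A.subtype_injective).toEquiv.symm
  have hne : H' ≠ ⊥ := by
    intro hb
    apply hH
    rw [hH', Subgroup.map_eq_bot_iff_of_injective _ A.subtype_injective] at hb
    exact hb
  have hxN : (x : G) ∈ Subgroup.normalizer (H' : Set G) := by
    apply mem_normalizer_of_conj_le
    rintro _ ⟨h, hh, rfl⟩
    exact ⟨x * h * x⁻¹, (Subgroup.mem_normalizer_iff.1 hx h).1 hh, rfl⟩
  have h1 := hhom H' hne (by rw [hcard]; exact hp) _ hxN (isPiElt_coe.2 hxpi)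
  refine Subgroup.mem_centralizer_iff.2 ?_
  intro h hh
  have h2 := Subgroup.mem_centralizer_iff.1 h1 (h : G) ⟨h, hh, rfl⟩
  exact Subtype.ext h2

/-- The forward direction of the characterization. -/
theorem relIndex_of_subgroup_pi [Finite G] {π : Set ℕ} {W : Subgroup G}
    (hW : ∀ x : G, x ∈ W ↔ IsPiElt π x) (hWn : W.Normal) (H : Subgroup G)
    (hH : ∀ p : ℕ, p.Prime → p ∣ Nat.card H → p ∉ π) :
    ∀ p : ℕ, p.Prime →
      p ∣ (Subgroup.centralizer (H : Set G)).relIndex (Subgroup.normalizer (H : Set G)) → p ∉ π := by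
  intro p hp hd hpπ
  haveI := Fact.mk hp
  set N := Subgroup.normalizer (H : Set G) with hN
  set D : Subgroup N := (Subgroup.centralizer (H : Set G)).subgroupOf N with hD
  haveI : D.Normal := centralizer_subgroupOf_normal H
  have hd' : p ∣ Nat.card (N ⧸ D) := hd
  obtain ⟨y, hy⟩ := exists_prime_orderOf_dvd_card' p hd'
  obtain ⟨x, hxy, hxpi⟩ := exists_pi_lift (QuotientGroup.mk' D) (QuotientGroup.mk'_surjective D) π y
    (by
      intro r hr hrd
      rw [hy] at hrd
      rw [(Nat.prime_dvd_prime_iff_eq hr hp).1 hrd]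
      exact hpπ)
  have hxW : (x : G) ∈ W := (hW _).2 (isPiElt_coe.2 hxpi)
  have hxC : (x : G) ∈ Subgroup.centralizer (H : Set G) := by
    refine Subgroup.mem_centralizer_iff.2 ?_
    intro h hh
    set c : G := (x : G) * h * (x : G)⁻¹ * h⁻¹ with hc
    have h1 : c ∈ H := H.mul_mem ((Subgroup.mem_normalizer_iff.1 x.2 h).1 hh) (H.inv_mem hh)
    have h2 : c ∈ W := by
      have e : c = (x : G) * (h * (x : G)⁻¹ * h⁻¹) := by rw [hc]; group
      rw [e]
      exact W.mul_mem hxW (hWn.conj_mem _ (W.inv_mem hxW) h)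
    have h3 : c = 1 := by
      by_contra hne
      have h4 : orderOf c ≠ 1 := fun h5 => hne (orderOf_eq_one_iff.mp h5)
      obtain ⟨r, hr, hrd⟩ := Nat.exists_prime_and_dvd h4
      have h5 := (hW c).1 h2 r hr hrd
      exact hH r hr (hrd.trans (Subgroup.orderOf_dvd_natCard H h1)) h5
    have h6 : (x : G) * h * (x : G)⁻¹ = h := by
      rw [hc, mul_inv_eq_one] at h3
      exact h3
    rw [mul_inv_eq_iff_eq_mul] at h6
    exact h6.symm
  have hxD : x ∈ D := hxC
  have h1 : y = 1 := by
    rw [← hxy]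
    exact (QuotientGroup.eq_one_iff x).2 hxD
  rw [h1, orderOf_one] at hy
  exact hp.one_lt.ne hy

/-- `K` is normal when it consists of the `π`-elements. -/
theorem normal_of_pi {π : Set ℕ} {W : Subgroup G} (hW : ∀ x : G, x ∈ W ↔ IsPiElt π x) : W.Normal := by
  constructor
  intro n hn g
  rw [hW] at hn ⊢
  exact hn.conj g

end Cfsg.Agent.H19
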