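import Cfsg.Agent.Lib.H19.TwoCyclic
import Cfsg.Agent.Lib.H19.FrobCount
import Cfsg.Agent.Lib.H18.Syl
import Cfsg.Agent.Lib.H14.Nilp
import Cfsg.Agent.Lib.H06.Nilp

/-!
`p`-groups in which subgroups of the same order are isomorphic (helper19).
-/

set_option autoImplicit false
set_option linter.style.haveILetI false

universe u

namespace Cfsg.Agent.H19

/-- Recognition of the quaternion group of order `8`. -/
theorem quaternion_iso {X : Type*} [Group X] [Finite X] (hX : Nat.card X = 8) {α β : X}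
    (hα : orderOf α = 4) (hβ2 : β ^ 2 = α ^ 2) (hrel : β * α * β⁻¹ = α⁻¹)
    (hβ : β ∉ Subgroup.zpowers α) : Nonempty (X ≃* QuaternionGroup 2) := by
  classical
  haveI : NeZero (2 * 2) := ⟨by norm_num⟩
  let f : ZMod (2 * 2) → X := fun i => α ^ i.val
  have hfadd : ∀ i j, f (i + j) = f i * f j := by
    intro i j
    show α ^ (i + j).val = α ^ i.val * α ^ j.val
    rw [ZMod.val_add, ← pow_add]
    have : (i.val + j.val) % (2 * 2) = (i.val + j.val) % orderOf α := by rw [hα]
    rw [this, pow_mod_orderOf]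
  have hf0 : f 0 = 1 := by
    show α ^ (0 : ZMod (2 * 2)).val = 1
    rw [ZMod.val_zero, pow_zero]
  have hfinv : ∀ i, f (-i) = (f i)⁻¹ := by
    intro i
    apply eq_inv_of_mul_eq_one_left
    rw [← hfadd, neg_add_cancel, hf0]
  have hfsub : ∀ i j, f (j - i) = (f i)⁻¹ * f j := by
    intro i j
    rw [sub_eq_neg_add, hfadd, hfinv]
  have hf2 : f ((2 : ℕ) : ZMod (2 * 2)) = α ^ 2 := by
    show α ^ ((2 : ℕ) : ZMod (2 * 2)).val = α ^ 2
    rw [ZMod.val_natCast]
  have hconj : ∀ i, β * f i = (f i)⁻¹ * β := by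
    intro i
    have h1 : β * f i * β⁻¹ = (f i)⁻¹ := by
      show β * α ^ i.val * β⁻¹ = (α ^ i.val)⁻¹
      rw [← conj_pow, hrel, inv_pow]
    rw [← h1]; group
  have hcomm : ∀ i j, f i * f j = f j * f i := by
    intro i j
    rw [← hfadd, ← hfadd, add_comm]
  let φ : QuaternionGroup 2 →* X := MonoidHom.mk'
    (fun q => match q with
      | QuaternionGroup.a i => f i
      | QuaternionGroup.xa i => β * f i)
    (by
      rintro (i | i) (j | j)
      · show f (i + j) = f i * f j
        exact hfadd i j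
      · show β * f (j - i) = f i * (β * f j)
        rw [hfsub, ← mul_assoc, ← mul_assoc]
        congr 1
        have := hconj i
        rw [← inv_inj] at this
        have h2 : β * (f i)⁻¹ = f i * β := by
          have h3 := hconj (-i)
          rw [hfinv, inv_inv] at h3
          exact h3
        exact h2
      · show β * f (i + j) = β * f i * f j
        rw [hfadd, mul_assoc]
      · show f (((2 : ℕ) : ZMod (2 * 2)) + j - i) = β * f i * (β * f j)
        rw [hfsub, hfadd, hf2]
        rw [mul_assoc β, ← mul_assoc (f i), ← mul_assoc β]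
        have h3 : f i * β = β * (f i)⁻¹ := by
          have h4 := hconj (-i)
          rw [hfinv, inv_inv] at h4
          exact h4.symm
        rw [h3, ← mul_assoc β, ← pow_two, hβ2]
        rw [mul_assoc (α ^ 2), ← mul_assoc]
        have h5 : α ^ 2 = f ((2 : ℕ) : ZMod (2 * 2)) := hf2.symm
        rw [h5]
        have h6 : (f i)⁻¹ * f ((2 : ℕ) : ZMod (2 * 2)) = f ((2 : ℕ) : ZMod (2 * 2)) * (f i)⁻¹ := by
          rw [← hfinv]; exact hcomm _ _
        rw [h6]
        group)
  have hinj : Function.Injective φ := by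
    rw [injective_iff_map_eq_one]
    rintro (i | i) h
    · have h1 : α ^ i.val = 1 := h
      have h2 : orderOf α ∣ i.val := orderOf_dvd_of_pow_eq_one h1
      rw [hα] at h2
      have h3 : i.val < 2 * 2 := ZMod.val_lt i
      have h4 : i.val = 0 := Nat.eq_zero_of_dvd_of_lt h2 (by omega)
      have h5 : i = 0 := (ZMod.val_eq_zero i).1 h4
      rw [h5]
      rfl
    · exfalso
      have h1 : β * α ^ i.val = 1 := h
      apply hβ
      have h2 : β = (α ^ i.val)⁻¹ := eq_inv_of_mul_eq_one_left h1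
      rw [h2]
      exact Subgroup.inv_mem _ (Subgroup.pow_mem _ (Subgroup.mem_zpowers α) _)
  have hcard : Nat.card X ≤ Nat.card (QuaternionGroup 2) := by
    rw [hX, Nat.card_eq_fintype_card, QuaternionGroup.card]
  have hbij := hinj.bijective_of_nat_card_le hcard
  exact ⟨(MulEquiv.ofBijective φ hbij).symm⟩

/-- Unique involution. -/
def UI (X : Type*) [Group X] : Prop :=
  ∀ y y' : X, y ^ 2 = 1 → y' ^ 2 = 1 → y ≠ 1 → y' ≠ 1 → y = y'

theorem UI.sub {X : Type*} [Group X] (h : UI X) (M : Subgroup X) : UI M := by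
  intro y y' h1 h2 h3 h4
  apply Subtype.ext
  apply h y.1 y'.1
  · exact congrArg Subtype.val h1
  · exact congrArg Subtype.val h2
  · exact fun h5 => h3 (Subtype.ext h5)
  · exact fun h5 => h4 (Subtype.ext h5)

theorem exists_gen_of_isCyclic {X : Type*} [Group X] [Finite X] {M : Subgroup X} (hc : IsCyclic M) :
    ∃ a : X, M = Subgroup.zpowers a ∧ orderOf a = Nat.card M := by
  obtain ⟨a₀, ha₀⟩ := hc.exists_generator
  have h1 : M = Subgroup.zpowers a₀.1 := by
    apply le_antisymm
    · intro x hx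
      obtain ⟨k, hk⟩ := ha₀ ⟨x, hx⟩
      exact ⟨k, congrArg Subtype.val hk⟩
    · rw [Subgroup.zpowers_le]; exact a₀.2
  refine ⟨a₀.1, h1, ?_⟩
  conv_rhs => rw [h1]
  exact (Nat.card_zpowers _).symm

/-- Two cyclic maximal subgroups and a unique involution. -/
theorem q8_core {X : Type*} [Group X] [Finite X] {n : ℕ} (hX : Nat.card X = 2 ^ (n + 1))
    (hUI : UI X) {M₁ M₂ : Subgroup X} (h1 : Nat.card M₁ = 2 ^ n)
    (h2 : Nat.card M₂ = 2 ^ n) (hne : M₁ ≠ M₂) (hc1 : IsCyclic M₁) (hc2 : IsCyclic M₂) (hn : 2 ≤ n) :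
    n = 2 ∧ Nonempty (X ≃* QuaternionGroup 2) := by
  obtain ⟨hcentral, t, ht, -, ht4⟩ := exists_small_outside hX h1 h2 hne hc1 hc2
  have ht4 := ht4 rfl
  obtain ⟨α, hαM, hαo⟩ := exists_gen_of_isCyclic hc1
  obtain ⟨β, hβM, hβo⟩ := exists_gen_of_isCyclic hc2
  have hidx : ∀ M : Subgroup X, Nat.card M = 2 ^ n → M.index = 2 := by
    intro M hM
    have h3 := M.card_mul_index
    rw [hM, hX, pow_succ] at h3
    exact Nat.eq_of_mul_eq_mul_left (by positivity) h3
  haveI hn1 : M₁.Normal := Subgroup.normal_of_index_eq_two (hidx M₁ h1)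
  haveI hn2 : M₂.Normal := Subgroup.normal_of_index_eq_two (hidx M₂ h2)
  have hαin : α ∈ M₁ := by rw [hαM]; exact Subgroup.mem_zpowers α
  have hβin : β ∈ M₂ := by rw [hβM]; exact Subgroup.mem_zpowers β
  have hβout : β ∉ M₁ := by
    intro hb
    have h3 : M₂ ≤ M₁ := by rw [hβM, Subgroup.zpowers_le]; exact hb
    exact hne (Subgroup.eq_of_le_of_card_ge h3 (by rw [h1, h2])).symm
  have hα2 : α ^ 2 ∈ M₂ := by
    have := Subgroup.pow_index_mem M₂ α
    rwa [hidx M₂ h2] at this
  have hn2' : n = 2 := by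
    by_contra hne2
    have hn3 : 3 ≤ n := by omega
    obtain ⟨r, rfl⟩ := Nat.exists_eq_add_of_le hn3
    set d := α ^ (2 ^ (r + 1)) with hd
    have hdo : orderOf d = 4 := by
      rw [hd, orderOf_pow_of_dvd (by positivity) ?_, hαo, h1]
      · rw [show 3 + r = (r + 1) + 2 by ring, pow_add]
        norm_num
      · rw [hαo, h1]
        exact pow_dvd_pow 2 (by omega)
    have hd1 : d ∈ M₁ := M₁.pow_mem hαin _
    have hd2 : d ∈ M₂ := by
      rw [hd, pow_succ', pow_mul]
      exact M₂.pow_mem hα2 _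
    have hdc := hcentral d ⟨hd1, hd2⟩
    have hd4 : d ^ 4 = 1 := by rw [← hdo]; exact pow_orderOf_eq_one d
    have hd22 : (d ^ 2) ^ 2 = 1 := by rw [← pow_mul]; exact hd4
    have hd2ne : d ^ 2 ≠ 1 := pow_ne_one_of_lt_orderOf (by norm_num) (by rw [hdo]; norm_num)
    have htne : t ≠ 1 := by
      rintro rfl
      exact ht M₁.one_mem
    have ht22 : (t ^ 2) ^ 2 = 1 := by rw [← pow_mul]; exact ht4
    have hd2M : d ^ 2 ∈ M₁ := M₁.pow_mem hd1 2
    by_cases ht2 : t ^ 2 = 1
    · have := hUI t (d ^ 2) ht2 hd22 htne hd2ne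
      rw [this] at ht
      exact ht hd2M
    · have h3 := hUI (t ^ 2) (d ^ 2) ht22 hd22 ht2 hd2ne
      have hcomm : Commute t d⁻¹ := Commute.inv_right (hdc t)
      have h4 : (t * d⁻¹) ^ 2 = 1 := by
        rw [hcomm.mul_pow, h3, inv_pow, mul_inv_cancel]
      by_cases h5 : t * d⁻¹ = 1
      · have : t = d := mul_inv_eq_one.1 h5
        rw [this] at ht
        exact ht hd1
      · have h6 := hUI _ _ h4 hd22 h5 hd2ne
        have h7 : t = d ^ 2 * d := mul_inv_eq_iff_eq_mul.1 h6
        apply ht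
        rw [h7]
        exact M₁.mul_mem hd2M hd1
  subst hn2'
  refine ⟨rfl, ?_⟩
  rw [h1] at hαo
  rw [h2] at hβo
  have hα4 : orderOf α = 4 := by rw [hαo]; norm_num
  have hβ4 : orderOf β = 4 := by rw [hβo]; norm_num
  have hαα : α ^ 4 = 1 := by rw [← hα4]; exact pow_orderOf_eq_one α
  have hββ : β ^ 4 = 1 := by rw [← hβ4]; exact pow_orderOf_eq_one β
  have hα22 : (α ^ 2) ^ 2 = 1 := by rw [← pow_mul]; exact hαα
  have hβ22 : (β ^ 2) ^ 2 = 1 := by rw [← pow_mul]; exact hββ
  have hαne : α ^ 2 ≠ 1 := pow_ne_one_of_lt_orderOf (by norm_num) (by rw [hα4]; norm_num)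
  have hβne : β ^ 2 ≠ 1 := pow_ne_one_of_lt_orderOf (by norm_num) (by rw [hβ4]; norm_num)
  have hsq : β ^ 2 = α ^ 2 := hUI _ _ hβ22 hα22 hβne hαne
  set γ := β * α * β⁻¹ with hγ
  have hγM : γ ∈ M₁ := hn1.conj_mem _ hαin β
  have hγ2 : γ ^ 2 = α ^ 2 := by
    rw [hγ, conj_pow, ← hsq]
    group
  have hγc : Commute γ α := by
    rw [hαM] at hγM
    obtain ⟨k, hk⟩ := hγM
    rw [← hk]
    exact Commute.zpow_left (Commute.refl α) k
  have hu : (γ * α⁻¹) ^ 2 = 1 := by
    rw [hγc.inv_right.mul_pow, hγ2, inv_pow, mul_inv_cancel]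
  have hout : β ∉ Subgroup.zpowers α := by rw [← hαM]; exact hβout
  by_cases hu1 : γ * α⁻¹ = 1
  · exfalso
    have h3 : γ = α := mul_inv_eq_one.1 hu1
    have h4 : Commute β α := by
      rw [hγ] at h3
      have h5 : β * α = α * β := mul_inv_eq_iff_eq_mul.1 h3
      exact h5
    have h5 : (α * β⁻¹) ^ 2 = 1 := by
      rw [h4.symm.inv_right.mul_pow, inv_pow, ← hsq, mul_inv_cancel]
    by_cases h6 : α * β⁻¹ = 1
    · have : α = β := mul_inv_eq_one.1 h6
      rw [← this] at hβout
      exact hβout hαin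
    · have h7 := hUI _ _ h5 hα22 h6 hαne
      apply hβout
      have h8 : β = α⁻¹ := by
        have h9 : α * β⁻¹ * α⁻¹ = α := by rw [h7]; group
        have : β⁻¹ = α := by
          have h10 : α * β⁻¹ = α ^ 2 := h7
          rw [pow_two] at h10
          exact mul_left_cancel h10
        rw [← this]; simp
      rw [h8]
      exact M₁.inv_mem hαin
  · have h7 := hUI _ _ hu hα22 hu1 hαne
    have h8 : γ = α⁻¹ := by
      have h9 : γ = α ^ 2 * α := mul_inv_eq_iff_eq_mul.1 h7
      rw [h9]
      apply eq_inv_of_mul_eq_one_left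
      rw [← pow_succ, ← pow_succ]
      exact hαα
    exact quaternion_iso (by rw [hX]; norm_num) hα4 hsq h8 hout

/-- Index `2`-free version of: a non-cyclic `p`-group has two distinct subgroups of index `p`. -/
theorem exists_two_maximal {X : Type*} [Group X] [Finite X] {p n : ℕ} [Fact p.Prime]
    (hX : Nat.card X = p ^ (n + 1)) (hnc : ¬ IsCyclic X) :
    ∃ M₁ M₂ : Subgroup X, Nat.card M₁ = p ^ n ∧ Nat.card M₂ = p ^ n ∧ M₁ ≠ M₂ := by
  have hpp : p.Prime := Fact.out
  obtain ⟨M₁, hM₁⟩ := Sylow.exists_subgroup_card_pow_prime (G := X) p (n := n)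
    (by rw [hX]; exact pow_dvd_pow p (Nat.le_succ n))
  have hM₁top : M₁ ≠ ⊤ := by
    rintro rfl
    rw [Subgroup.card_top, hX] at hM₁
    have := Nat.pow_right_injective hpp.two_le hM₁
    omega
  obtain ⟨x, hx⟩ : ∃ x, x ∉ M₁ := by
    by_contra hcon
    push_neg at hcon
    exact hM₁top (eq_top_iff.2 (fun y _ => hcon y))
  have hxord : orderOf x ∣ p ^ (n + 1) := by rw [← hX]; exact orderOf_dvd_natCard x
  obtain ⟨j, hj, hj2⟩ := (Nat.dvd_prime_pow hpp).1 hxord
  have hjm : j ≤ n := by
    by_contra hcon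
    have hj' : j = n + 1 := by omega
    subst hj'
    exact hnc (isCyclic_of_orderOf_eq_card x (by rw [hj2, hX]))
  obtain ⟨M₂, hM₂, hxM₂⟩ := Sylow.exists_subgroup_card_pow_prime_le p (n := j) (m := n)
    (by rw [hX]; exact pow_dvd_pow p (Nat.le_succ n)) (Subgroup.zpowers x)
    (by rw [Nat.card_zpowers, hj2]) hjm
  refine ⟨M₁, M₂, hM₁, hM₂, ?_⟩
  rintro rfl
  exact hx (hxM₂ (Subgroup.mem_zpowers x))

/-- A `2`-group with a unique involution, containing an element of order `4`, in which subgroups of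
the same order are isomorphic, is cyclic or quaternion of order `8`. -/
theorem quaternion_of_sameOrder {T : Type*} [Group T] [Finite T] (hT : IsPGroup 2 T)
    (hiso : ∀ A B : Subgroup T, Nat.card A = Nat.card B → Nonempty (A ≃* B))
    (hUI : UI T) {x₄ : T} (hx₄ : orderOf x₄ = 4) (hnc : ¬ IsCyclic T) :
    Nonempty (T ≃* QuaternionGroup 2) := by
  classical
  haveI : Fact (Nat.Prime 2) := ⟨Nat.prime_two⟩
  -- a minimal non-cyclic subgroup
  haveI : Nonempty {Q : Subgroup T // ¬ IsCyclic Q} := by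
    refine ⟨⟨⊤, fun h => hnc ?_⟩⟩
    exact isCyclic_of_surjective _ (Subgroup.topEquiv (G := T)).surjective
  obtain ⟨⟨Q, hQ⟩, hQmin⟩ := Finite.exists_min (fun Q : {Q : Subgroup T // ¬ IsCyclic Q} => Nat.card Q.1)
  have hQmin' : ∀ K : Subgroup T, Nat.card K < Nat.card Q → IsCyclic K := by
    intro K hK
    by_contra hcon
    exact absurd (hQmin ⟨K, hcon⟩) (not_le.2 hK)
  obtain ⟨j, hj⟩ := (hT.to_subgroup Q).exists_card_eq
  obtain ⟨n, rfl⟩ : ∃ n, j = n + 1 := by
    rcases j with _ | n
    · exfalso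
      apply hQ
      rw [pow_zero] at hj
      haveI : Subsingleton Q := (Nat.card_eq_one_iff_unique.1 hj).1
      exact isCyclic_of_subsingleton
    · exact ⟨n, rfl⟩
  obtain ⟨M₁, M₂, h1, h2, hne⟩ := exists_two_maximal hj hQ
  have hcycM : ∀ M : Subgroup Q, Nat.card M = 2 ^ n → IsCyclic M := by
    intro M hM
    have h3 : Nat.card (M.map Q.subtype) = 2 ^ n := by
      rw [← hM]
      exact Nat.card_congr (M.equivMapOfInjective _ Q.subtype_injective).toEquiv.symm
    have h4 : Nat.card (M.map Q.subtype) < Nat.card Q := by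
      rw [h3, hj]
      exact Nat.pow_lt_pow_right (by norm_num) (Nat.lt_succ_self n)
    haveI := hQmin' _ h4
    exact isCyclic_of_surjective _ (M.equivMapOfInjective _ Q.subtype_injective).symm.surjective
  have hn2 : 2 ≤ n := by
    by_contra hcon
    have hn' : n = 0 ∨ n = 1 := by omega
    rcases hn' with rfl | rfl
    · apply hQ
      haveI : Fact (Nat.Prime (Nat.card Q)) := ⟨by rw [hj]; norm_num⟩
      exact isCyclic_of_prime_card rfl
    · have h3 : Nat.card (Subgroup.zpowers x₄) = Nat.card Q := by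
        rw [Nat.card_zpowers, hx₄, hj]; norm_num
      obtain ⟨e⟩ := hiso _ _ h3
      apply hQ
      exact isCyclic_of_surjective _ e.surjective
  obtain ⟨rfl, ⟨eQ⟩⟩ := q8_core hj (hUI.sub Q) h1 h2 hne (hcycM M₁ h1) (hcycM M₂ h2) hn2
  have hQ8 : Nat.card Q = 8 := by rw [hj]; norm_num
  -- exponent `4`
  have hexp : ∀ x : T, x ^ 4 = 1 := by
    intro x
    obtain ⟨i, hi⟩ := IsPGroup.iff_orderOf.1 hT x
    by_cases hi3 : 3 ≤ i
    · exfalso
      obtain ⟨r, rfl⟩ := Nat.exists_eq_add_of_le hi3
      have h3 : orderOf (x ^ 2 ^ r) = 8 := by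
        rw [orderOf_pow_of_dvd (by positivity) (by rw [hi]; exact pow_dvd_pow 2 (by omega)), hi]
        rw [add_comm, pow_add]
        simp
      have h4 : Nat.card (Subgroup.zpowers (x ^ 2 ^ r)) = Nat.card Q := by
        rw [Nat.card_zpowers, h3, hQ8]
      obtain ⟨e⟩ := hiso _ _ h4
      apply hQ
      exact isCyclic_of_surjective _ e.surjective
    · apply orderOf_dvd_iff_pow_eq_one.1
      rw [hi]
      exact pow_dvd_pow 2 (by omega : i ≤ 2) |>.trans (by norm_num)
  -- a self-centralizing normal abelian subgroup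
  haveI : Group.IsNilpotent T := hT.isNilpotent
  obtain ⟨A, hAn, hAc, hAC⟩ := Cfsg.Agent.H14.exists_normal_abelian_selfCentralizing (G := T)
  set z := x₄ ^ 2 with hz
  have hz2 : z ^ 2 = 1 := by
    rw [hz, ← pow_mul]
    exact hexp x₄
  have hzne : z ≠ 1 := pow_ne_one_of_lt_orderOf (by norm_num) (by rw [hx₄]; norm_num)
  have hinv : ∀ y : T, y ^ 2 = 1 → y = 1 ∨ y = z := by
    intro y hy
    by_cases hy1 : y = 1
    · exact Or.inl hy1
    · exact Or.inr (hUI _ _ hy hz2 hy1 hzne)
  have hzc : ∀ g : T, g * z * g⁻¹ = z := by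
    intro g
    have h3 : (g * z * g⁻¹) ^ 2 = 1 := by rw [conj_pow, hz2]; group
    rcases hinv _ h3 with h4 | h4
    · exfalso
      apply hzne
      have : z = g⁻¹ * (g * z * g⁻¹) * g := by group
      rw [this, h4]; group
    · exact h4
  have hzc' : ∀ g : T, g * z = z * g := by
    intro g
    have := hzc g
    exact mul_inv_eq_iff_eq_mul.1 this
  -- an element of `A` of order `4`
  obtain ⟨w, hwA, hw2⟩ : ∃ w ∈ A, w ^ 2 ≠ 1 := by
    by_contra hcon
    push_neg at hcon
    have h3 : x₄ ∈ Subgroup.centralizer (A : Set T) := by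
      rw [Subgroup.mem_centralizer_iff]
      intro a ha
      rcases hinv a (hcon a ha) with rfl | rfl
      · simp
      · exact (hzc' x₄).symm
    have h4 := hcon x₄ (hAC h3)
    have h5 : x₄ ^ 2 ≠ 1 := hzne
    exact h5 h4
  have hw4 : (w ^ 2) ^ 2 = 1 := by rw [← pow_mul]; exact hexp w
  have hw2z : w ^ 2 = z := (hinv _ hw4).resolve_left hw2
  have hAcomm : ∀ a ∈ A, ∀ b ∈ A, a * b = b * a := by
    intro a ha b hb
    have := hAc.is_comm.comm ⟨a, ha⟩ ⟨b, hb⟩
    exact congrArg Subtype.val this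
  have hAsub : ∀ a ∈ A, a = 1 ∨ a = z ∨ a = w ∨ a = z * w := by
    intro a ha
    have h3 : (a ^ 2) ^ 2 = 1 := by rw [← pow_mul]; exact hexp a
    rcases hinv _ h3 with h4 | h4
    · rcases hinv _ h4 with h5 | h5
      · exact Or.inl h5
      · exact Or.inr (Or.inl h5)
    · have h5 : Commute a w⁻¹ := Commute.inv_right (hAcomm a ha w hwA)
      have h6 : (a * w⁻¹) ^ 2 = 1 := by
        rw [h5.mul_pow, h4, inv_pow, hw2z, mul_inv_cancel]
      rcases hinv _ h6 with h7 | h7
      · exact Or.inr (Or.inr (Or.inl (mul_inv_eq_one.1 h7)))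
      · exact Or.inr (Or.inr (Or.inr (mul_inv_eq_iff_eq_mul.1 h7)))
  have hAcard : Nat.card A ≤ 4 := by
    haveI := Fintype.ofFinite T
    have h3 : (A : Set T) ⊆ (({1, z, w, z * w} : Finset T) : Set T) := by
      intro a ha
      simp only [Finset.coe_insert, Finset.coe_singleton, Set.mem_insert_iff, Set.mem_singleton_iff]
      exact hAsub a ha
    have h4 := Set.ncard_le_ncard h3 (Finset.finite_toSet _)
    rw [Set.ncard_coe_finset] at h4
    show Nat.card (A : Set T) ≤ 4
    rw [Nat.card_coe_set_eq]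
    exact h4.trans Finset.card_le_four
  have hCw : Nat.card (Subgroup.centralizer ({w} : Set T)) ≤ 4 := by
    refine le_trans (Subgroup.card_le_of_le ?_) hAcard
    intro t ht
    apply hAC
    rw [Subgroup.mem_centralizer_iff]
    intro a ha
    have h3 : t * w = w * t := (Subgroup.mem_centralizer_singleton_iff.1 ht)
    rcases hAsub a ha with rfl | rfl | rfl | rfl
    · simp
    · exact (hzc' t).symm
    · exact h3.symm
    · calc z * w * t = z * (w * t) := by group
        _ = z * (t * w) := by rw [h3]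
        _ = (z * t) * w := by group
        _ = (t * z) * w := by rw [hzc' t]
        _ = t * (z * w) := by group
  have hclass : (ConjClasses.mk w).carrier.ncard ≤ 2 := by
    haveI := Fintype.ofFinite T
    have h3 : (ConjClasses.mk w).carrier ⊆ (({w, z * w} : Finset T) : Set T) := by
      intro y hy
      rw [ConjClasses.mem_carrier_iff_mk_eq, ConjClasses.mk_eq_mk_iff_isConj] at hy
      obtain ⟨g, hg⟩ := isConj_iff.1 hy.symm
      have h4 : y ∈ A := by rw [← hg]; exact hAn.conj_mem w hwA g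
      have h5 : y ^ 2 ≠ 1 := by
        rw [← hg, conj_pow]
        intro h6
        apply hw2
        have : w ^ 2 = g⁻¹ * (g * w ^ 2 * g⁻¹) * g := by group
        rw [this, h6]; group
      simp only [Finset.coe_insert, Finset.coe_singleton, Set.mem_insert_iff, Set.mem_singleton_iff]
      rcases hAsub y h4 with rfl | rfl | h6 | h6
      · simp at h5
      · exact absurd hz2 h5
      · exact Or.inl h6
      · exact Or.inr h6
    have h4 := Set.ncard_le_ncard h3 (Finset.finite_toSet _)
    rw [Set.ncard_coe_finset] at h4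
    exact h4.trans Finset.card_le_two
  have hTcard : Nat.card T ≤ 8 := by
    rw [← card_class_mul_card_centralizer w]
    exact Nat.mul_le_mul hclass hCw
  have hQtop : Q = ⊤ := by
    apply Subgroup.eq_top_of_card_eq
    apply le_antisymm (Subgroup.card_le_card_group _)
    rw [hQ8]; exact hTcard
  subst hQtop
  exact ⟨Subgroup.topEquiv.symm.trans eQ⟩

/-- Adjoining an element of prime order normalizing a subgroup. -/
theorem card_sup_zpowers {G : Type*} [Group G] [Finite G] {N : Subgroup G} {t : G} {p : ℕ} [Fact p.Prime]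
    (ht : t ∈ Subgroup.normalizer (N : Set G)) (htN : t ∉ N) (htp : t ^ p = 1) :
    Nat.card (N ⊔ Subgroup.zpowers t : Subgroup G) = p * Nat.card N := by
  have hpp : p.Prime := Fact.out
  have ht1 : t ≠ 1 := by
    rintro rfl
    exact htN N.one_mem
  have hord : orderOf t = p := orderOf_eq_prime htp ht1
  have hWcard : Nat.card (Subgroup.zpowers t) = p := by rw [Nat.card_zpowers, hord]
  set Γ := Subgroup.normalizer (N : Set G) with hΓ
  have hNΓ : N ≤ Γ := Subgroup.le_normalizer
  have hWΓ : Subgroup.zpowers t ≤ Γ := by rw [Subgroup.zpowers_le]; exact ht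
  haveI hN'n : (N.subgroupOf Γ).Normal := by
    constructor
    rintro ⟨d, hd⟩ hd2 ⟨g, hg⟩
    exact (Subgroup.mem_normalizer_iff.1 hg d).1 hd2
  have h1 := H18.card_sup_mul_card_inf ((Subgroup.zpowers t).subgroupOf Γ) (N.subgroupOf Γ)
  have hinf : Subgroup.zpowers t ⊓ N = ⊥ := by
    have h2 : Nat.card (Subgroup.zpowers t ⊓ N : Subgroup G) ∣ p := by
      rw [← hWcard]; exact Subgroup.card_dvd_of_le inf_le_left
    rcases (Nat.dvd_prime hpp).1 h2 with h3 | h3
    · exact (Subgroup.card_eq_one).1 h3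
    · exfalso
      have h4 : (Subgroup.zpowers t ⊓ N : Subgroup G) = Subgroup.zpowers t :=
        Subgroup.eq_of_le_of_card_ge inf_le_left (by rw [h3, hWcard])
      apply htN
      have h5 : t ∈ (Subgroup.zpowers t ⊓ N : Subgroup G) := by
        rw [h4]; exact Subgroup.mem_zpowers t
      exact h5.2
  have hinf' : (Subgroup.zpowers t).subgroupOf Γ ⊓ N.subgroupOf Γ = ⊥ := by
    rw [eq_bot_iff]
    rintro x ⟨hx1, hx2⟩
    have h2 : (x : G) ∈ Subgroup.zpowers t ⊓ N := ⟨hx1, hx2⟩
    rw [hinf, Subgroup.mem_bot] at h2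
    rw [Subgroup.mem_bot]
    exact Subtype.ext h2
  rw [hinf'] at h1
  simp only [Subgroup.card_bot, mul_one] at h1
  have hc1 : Nat.card ((Subgroup.zpowers t).subgroupOf Γ) = p := by
    rw [H18.card_subgroupOf, inf_of_le_left hWΓ, hWcard]
  have hc2 : Nat.card (N.subgroupOf Γ) = Nat.card N := by
    rw [H18.card_subgroupOf, inf_of_le_left hNΓ]
  rw [hc1, hc2] at h1
  rw [← h1, sup_comm]
  have hmap : ((Subgroup.zpowers t).subgroupOf Γ ⊔ N.subgroupOf Γ).map Γ.subtype = Subgroup.zpowers t ⊔ N := by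
    rw [Subgroup.map_sup, Subgroup.map_subgroupOf_eq_of_le hWΓ, Subgroup.map_subgroupOf_eq_of_le hNΓ]
  rw [← hmap]
  exact Nat.card_congr (Subgroup.equivMapOfInjective _ _ Γ.subtype_injective).toEquiv.symm

/-- A non-abelian group of exponent `p` in which subgroups of the same order are isomorphic has
order `p ^ 3`. -/
theorem card_of_exp_p {T : Type*} [Group T] [Finite T] {p : ℕ} [Fact p.Prime] (hT : IsPGroup p T)
    (hexp : ∀ x : T, x ^ p = 1) (hnc : ¬ ∀ a b : T, a * b = b * a)
    (hiso : ∀ A B : Subgroup T, Nat.card A = Nat.card B → Nonempty (A ≃* B)) :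
    Nat.card T = p ^ 3 := by
  classical
  have hpp : p.Prime := Fact.out
  haveI hnil : Group.IsNilpotent T := hT.isNilpotent
  have hcZ : ∀ z ∈ Subgroup.center T, ∀ g : T, g * z = z * g := fun z hz g =>
    Subgroup.mem_center_iff.1 hz g
  have hZcent : ∀ z ∈ Subgroup.center T, z ≠ 1 → Nat.card (Subgroup.zpowers z) = p := by
    intro z _ hz1
    rw [Nat.card_zpowers, orderOf_eq_prime (hexp z) hz1]
  have hnormZ : ∀ {U : Subgroup T}, U ≤ Subgroup.center T → ∀ t, t ∈ Subgroup.normalizer (U : Set T) := by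
    intro U hU t
    apply mem_normalizer_of_conj_le
    intro u hu
    have := hcZ u (hU hu) t
    rw [this]; simpa using hu
  -- a non-abelian subgroup of order `p ^ 3`
  obtain ⟨H, hHcard, x, hxH, y, hyH, hxy⟩ : ∃ H : Subgroup T, Nat.card H = p ^ 3 ∧
      ∃ x ∈ H, ∃ y ∈ H, y * x ≠ x * y := by
    have hZtop : Subgroup.center T ≠ ⊤ := by
      intro h
      apply hnc
      intro a b
      have : b ∈ Subgroup.center T := by rw [h]; trivial
      exact (Subgroup.mem_center_iff.1 this a)
    haveI : Nontrivial (T ⧸ Subgroup.center T) := QuotientGroup.nontrivial_iff.2 hZtop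
    obtain ⟨xb, -, hxb1, hxbc⟩ := Cfsg.Agent.H06.exists_central_of_normal (Q := T ⧸ Subgroup.center T)
      (N := ⊤) inferInstance (by simp)
    obtain ⟨x, rfl⟩ := QuotientGroup.mk'_surjective _ xb
    have hxZ : x ∉ Subgroup.center T := fun h => hxb1 ((QuotientGroup.eq_one_iff x).2 h)
    have hcomm : ∀ g : T, g * x * g⁻¹ * x⁻¹ ∈ Subgroup.center T := by
      intro g
      apply (QuotientGroup.eq_one_iff _).1
      have h1 := Subgroup.mem_center_iff.1 hxbc (QuotientGroup.mk' _ g)
      show QuotientGroup.mk' (Subgroup.center T) (g * x * g⁻¹ * x⁻¹) = 1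
      rw [map_mul, map_mul, map_mul, map_inv, map_inv, h1]
      group
    obtain ⟨y, hy⟩ : ∃ y, y * x ≠ x * y := by
      by_contra hcon
      push_neg at hcon
      exact hxZ (Subgroup.mem_center_iff.2 hcon)
    set c := y * x * y⁻¹ * x⁻¹ with hc
    have hcZ' : c ∈ Subgroup.center T := hcomm y
    have hc1 : c ≠ 1 := by
      intro h
      apply hy
      rw [hc] at h
      have h2 : y * x * y⁻¹ = x := mul_inv_eq_one.1 h
      exact mul_inv_eq_iff_eq_mul.1 h2
    have hUle : Subgroup.zpowers c ≤ Subgroup.center T := by rw [Subgroup.zpowers_le]; exact hcZ'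
    have hS : Nat.card (Subgroup.zpowers c ⊔ Subgroup.zpowers x : Subgroup T) = p * p := by
      rw [card_sup_zpowers (hnormZ hUle x) (fun h => hxZ (hUle h)) (hexp x), hZcent c hcZ' hc1]
    set S : Subgroup T := Subgroup.zpowers c ⊔ Subgroup.zpowers x with hSdef
    have hSC : S ≤ Subgroup.centralizer ({x} : Set T) := by
      apply sup_le
      · rw [Subgroup.zpowers_le, Subgroup.mem_centralizer_singleton_iff]
        exact (hcZ c hcZ' x).symm
      · rw [Subgroup.zpowers_le, Subgroup.mem_centralizer_singleton_iff]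
    have hyS : y ∉ S := by
      intro h
      apply hy
      exact (Subgroup.mem_centralizer_singleton_iff.1 (hSC h))
    have hcS : c ∈ S := (le_sup_left : Subgroup.zpowers c ≤ S) (Subgroup.mem_zpowers c)
    have hxS : x ∈ S := (le_sup_right : Subgroup.zpowers x ≤ S) (Subgroup.mem_zpowers x)
    have hyN : y ∈ Subgroup.normalizer (S : Set T) := by
      apply mem_normalizer_of_conj_le
      have h2 : S ≤ S.comap (MulAut.conj y).toMonoidHom := by
        apply sup_le
        · rw [Subgroup.zpowers_le]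
          show y * c * y⁻¹ ∈ S
          rw [hcZ c hcZ' y, mul_inv_cancel_right]
          exact hcS
        · rw [Subgroup.zpowers_le]
          show y * x * y⁻¹ ∈ S
          have h3 : y * x * y⁻¹ = c * x := by rw [hc]; group
          rw [h3]
          exact S.mul_mem hcS hxS
      exact fun s hs => h2 hs
    refine ⟨S ⊔ Subgroup.zpowers y, ?_, x, (le_sup_left : S ≤ _) hxS, y,
      (le_sup_right : Subgroup.zpowers y ≤ _) (Subgroup.mem_zpowers y), hy⟩
    rw [card_sup_zpowers hyN hyS (hexp y), hS]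
    ring
  obtain ⟨m, hm⟩ := hT.exists_card_eq
  have hm3 : 3 ≤ m := by
    have h1 : p ^ 3 ∣ p ^ m := by
      rw [← hm, ← hHcard]; exact Subgroup.card_subgroup_dvd_card H
    exact (Nat.pow_dvd_pow_iff_le_right hpp.one_lt).1 h1
  by_contra hne
  have hm4 : 4 ≤ m := by
    by_contra hcon
    have : m = 3 := by omega
    subst this
    exact hne hm
  exfalso
  -- an abelian subgroup of order `p ^ 3`
  obtain ⟨A, hAcard, hAcomm⟩ : ∃ A : Subgroup T, Nat.card A = p ^ 3 ∧ ∀ a ∈ A, ∀ b ∈ A, a * b = b * a := by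
    haveI : Nontrivial T := by
      by_contra hcon
      rw [not_nontrivial_iff_subsingleton] at hcon
      exact hnc (fun a b => Subsingleton.elim _ _)
    obtain ⟨z, -, hz1, hzc⟩ := Cfsg.Agent.H06.exists_central_of_normal (Q := T) (N := ⊤) inferInstance (by simp)
    set U := Subgroup.zpowers z with hU
    have hUle : U ≤ Subgroup.center T := by rw [hU, Subgroup.zpowers_le]; exact hzc
    have hUcard : Nat.card U = p := hZcent z hzc hz1
    haveI hUn : U.Normal := by
      constructor
      intro u hu g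
      rw [hcZ u (hUle hu) g, mul_inv_cancel_right]
      exact hu
    have hUtop : U ≠ ⊤ := by
      intro h
      rw [h, Subgroup.card_top, hm] at hUcard
      have h1 : p ^ m = p ^ 1 := by rw [hUcard, pow_one]
      have := Nat.pow_right_injective hpp.two_le h1
      omega
    haveI : Nontrivial (T ⧸ U) := QuotientGroup.nontrivial_iff.2 hUtop
    obtain ⟨nb, -, hnb1, hnbc⟩ := Cfsg.Agent.H06.exists_central_of_normal (Q := T ⧸ U)
      (N := ⊤) inferInstance (by simp)
    obtain ⟨n, rfl⟩ := QuotientGroup.mk'_surjective _ nb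
    have hnU : n ∉ U := fun h => hnb1 ((QuotientGroup.eq_one_iff n).2 h)
    have hcomm : ∀ g : T, g * n * g⁻¹ * n⁻¹ ∈ U := by
      intro g
      apply (QuotientGroup.eq_one_iff _).1
      have h1 := Subgroup.mem_center_iff.1 hnbc (QuotientGroup.mk' _ g)
      show QuotientGroup.mk' U (g * n * g⁻¹ * n⁻¹) = 1
      rw [map_mul, map_mul, map_mul, map_inv, map_inv, h1]
      group
    have hN : Nat.card (U ⊔ Subgroup.zpowers n : Subgroup T) = p * p := by
      rw [card_sup_zpowers (hnormZ hUle n) hnU (hexp n), hUcard]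
    set N : Subgroup T := U ⊔ Subgroup.zpowers n with hNdef
    set C := Subgroup.centralizer ({n} : Set T) with hC
    have hNC : N ≤ C := by
      apply sup_le
      · intro u hu
        rw [hC, Subgroup.mem_centralizer_singleton_iff]
        exact (hcZ u (hUle hu) n).symm
      · rw [Subgroup.zpowers_le, hC, Subgroup.mem_centralizer_singleton_iff]
    -- the class of `n`
    have hclass : (ConjClasses.mk n).carrier.ncard ≤ p := by
      have h1 : (ConjClasses.mk n).carrier ⊆ (fun u => u * n) '' (U : Set T) := by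
        intro y hy
        rw [ConjClasses.mem_carrier_iff_mk_eq, ConjClasses.mk_eq_mk_iff_isConj] at hy
        obtain ⟨g, hg⟩ := isConj_iff.1 hy.symm
        refine ⟨g * n * g⁻¹ * n⁻¹, hcomm g, ?_⟩
        simp only [inv_mul_cancel_right, hg]
      have h2 := Set.ncard_le_ncard h1 (Set.toFinite _)
      refine h2.trans ((Set.ncard_image_le (Set.toFinite _)).trans ?_)
      rw [← Nat.card_coe_set_eq]
      exact hUcard.le
    have hCcard : p ^ 3 ∣ Nat.card C := by
      have h1 := card_class_mul_card_centralizer n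
      have h2 : Nat.card C ∣ p ^ m := by
        rw [← hm]; exact Subgroup.card_subgroup_dvd_card C
      obtain ⟨j, hj, hj2⟩ := (Nat.dvd_prime_pow hpp).1 h2
      rw [hj2]
      apply pow_dvd_pow
      by_contra hcon
      have hj3 : j + 1 ≤ 3 := by omega
      have h3 : p ^ m ≤ p * p ^ j := by
        rw [← hm, ← h1, hj2]
        exact Nat.mul_le_mul_right _ hclass
      rw [← pow_succ'] at h3
      have h4 : m ≤ j + 1 := (Nat.pow_le_pow_iff_right hpp.one_lt).1 h3
      omega
    have hN' : Nat.card (N.subgroupOf C) = p ^ 2 := by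
      rw [H18.card_subgroupOf, inf_of_le_left hNC, hN]; ring
    obtain ⟨K', hK', hNK'⟩ := Sylow.exists_subgroup_card_pow_prime_le (G := C) p (n := 2) (m := 3) hCcard
      (N.subgroupOf C) hN' (by norm_num)
    set A : Subgroup T := K'.map C.subtype with hA
    have hAcard : Nat.card A = p ^ 3 := by
      rw [← hK']
      exact Nat.card_congr (K'.equivMapOfInjective _ C.subtype_injective).toEquiv.symm
    have hAC : A ≤ C := Subgroup.map_subtype_le _
    have hNA : N ≤ A := by
      intro d hd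
      exact ⟨⟨d, hNC hd⟩, hNK' hd, rfl⟩
    refine ⟨A, hAcard, ?_⟩
    -- `N` is central in `A` of index `p`
    have hNcent : ∀ d ∈ N, ∀ a ∈ A, a * d = d * a := by
      intro d hd a ha
      have h1 : N ≤ Subgroup.centralizer ({a} : Set T) := by
        apply sup_le
        · intro u hu
          rw [Subgroup.mem_centralizer_singleton_iff]
          exact (hcZ u (hUle hu) a).symm
        · rw [Subgroup.zpowers_le, Subgroup.mem_centralizer_singleton_iff]
          have h2 := Subgroup.mem_centralizer_singleton_iff.1 (hAC ha)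
          exact h2.symm
      have h3 := Subgroup.mem_centralizer_singleton_iff.1 (h1 hd)
      exact h3.symm
    let N₀ : Subgroup A := N.subgroupOf A
    have hN₀cent : N₀ ≤ Subgroup.center A := by
      intro d hd
      rw [Subgroup.mem_center_iff]
      intro a
      exact Subtype.ext (hNcent d.1 hd a.1 a.2)
    haveI hN₀n : N₀.Normal := by
      constructor
      intro d hd a
      have h1 := Subgroup.mem_center_iff.1 (hN₀cent hd) a
      rw [h1, mul_inv_cancel_right]
      exact hd
    have hN₀card : Nat.card N₀ = p ^ 2 := by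
      rw [H18.card_subgroupOf, inf_of_le_left hNA, hN]; ring
    have hidx : N₀.index = p := by
      have h1 := N₀.card_mul_index
      rw [hN₀card, hAcard, pow_succ p 2] at h1
      exact Nat.eq_of_mul_eq_mul_left (by have := hpp.pos; positivity) h1
    haveI : Fact (Nat.card (A ⧸ N₀)).Prime := ⟨by
      show N₀.index.Prime
      rw [hidx]; exact hpp⟩
    haveI : IsCyclic (A ⧸ N₀) := isCyclic_of_prime_card rfl
    intro a ha b hb
    have h2 := commutative_of_cyclic_center_quotient (QuotientGroup.mk' N₀)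
      (by rw [QuotientGroup.ker_mk']; exact hN₀cent) ⟨a, ha⟩ ⟨b, hb⟩
    exact congrArg Subtype.val h2
  obtain ⟨e⟩ := hiso A H (by rw [hAcard, hHcard])
  apply hxy
  have h3 := hAcomm _ (e.symm ⟨y, hyH⟩).2 _ (e.symm ⟨x, hxH⟩).2
  have h4 : e.symm ⟨y, hyH⟩ * e.symm ⟨x, hxH⟩ = e.symm ⟨x, hxH⟩ * e.symm ⟨y, hyH⟩ := Subtype.ext h3
  rw [← map_mul, ← map_mul] at h4
  have h5 := e.symm.injective h4
  exact congrArg Subtype.val h5

end Cfsg.Agent.H19
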