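import Mathlib
import Cfsg.Agent.S0042
import Cfsg.Agent.Lib.H17.PrimeGraph
import Cfsg.Agent.Lib.H19.Basic

/-!
A solvable subgroup central in every solvable overgroup is central (via Frobenius + Thompson).
-/

set_option autoImplicit false
set_option linter.style.haveILetI false

namespace Cfsg.Agent.H19

open Cfsg
open scoped Pointwise

universe u

theorem solCentral_main : ∀ (n : ℕ) (G : Type u) [Group G] [Finite G] (A : Subgroup G),
    Nat.card G = n → Group.IsSolvable A →
    (∀ S : Subgroup G, A ≤ S → Group.IsSolvable S → ∀ a ∈ A, ∀ s ∈ S, a * s = s * a) →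
    A ≤ Subgroup.center G := by
  intro n
  induction n using Nat.strong_induction_on with
  | _ n ih =>
  intro G _ _ A hn hA hc
  classical
  by_contra hnot
  set C := Subgroup.centralizer (A : Set G) with hCdef
  have hmemC : ∀ x, x ∈ C ↔ ∀ a ∈ A, a * x = x * a := by
    intro x
    rw [hCdef, Subgroup.mem_centralizer_iff]
    exact Iff.rfl
  have hAC : A ≤ C := by
    intro x hx
    rw [hmemC]
    intro a ha
    exact hc A le_rfl hA a ha x hx
  have hCtop : C ≠ ⊤ := by
    intro h
    apply hnot
    intro a ha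
    rw [Subgroup.mem_center_iff]
    intro g
    have hg : g ∈ C := by rw [h]; trivial
    exact (((hmemC g).mp hg a ha)).symm
  -- proper overgroups
  have hprop : ∀ L : Subgroup G, A ≤ L → L ≠ ⊤ → L ≤ C := by
    intro L hAL hL
    have hlt : Nat.card L < n := by
      rw [← hn]
      exact lt_of_le_of_ne (Subgroup.card_le_card_group L) (fun h => hL (Subgroup.eq_top_of_card_eq L h))
    have hA' : Group.IsSolvable (A.subgroupOf L) :=
      solvable_of_solvable_injective (f := (Subgroup.subgroupOfEquivOfLe hAL).toMonoidHom)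
        (Subgroup.subgroupOfEquivOfLe hAL).injective
    have hc' : ∀ S' : Subgroup L, A.subgroupOf L ≤ S' → Group.IsSolvable S' →
        ∀ a ∈ A.subgroupOf L, ∀ s ∈ S', a * s = s * a := by
      intro S' hAS' hS' a ha s hs
      have hS : Group.IsSolvable (S'.map L.subtype) :=
        solvable_of_solvable_injective (f := (Subgroup.equivMapOfInjective S' L.subtype
          L.subtype_injective).symm.toMonoidHom)
          (Subgroup.equivMapOfInjective S' L.subtype L.subtype_injective).symm.injective
      have hAS : A ≤ S'.map L.subtype := by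
        intro x hx
        refine ⟨⟨x, hAL hx⟩, hAS' ?_, rfl⟩
        exact hx
      have h1 := hc _ hAS hS a.1 ha s.1 ⟨s, hs, rfl⟩
      exact Subtype.ext h1
    have h1 := ih _ hlt L (A.subgroupOf L) rfl hA' hc'
    intro x hx
    rw [hmemC]
    intro a ha
    have h2 : (⟨a, hAL ha⟩ : L) ∈ Subgroup.center L := h1 ha
    rw [Subgroup.mem_center_iff] at h2
    have h3 := h2 ⟨x, hx⟩
    exact (congrArg Subtype.val h3).symm
  -- the normalizer of C
  have hnorm : ∀ g : G, MulAut.conj g • C = C → g ∈ C := by
    intro g hg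
    set Z : Subgroup G := (Subgroup.center C).map C.subtype with hZ
    have hZmem : ∀ z, z ∈ Z ↔ z ∈ C ∧ ∀ c ∈ C, c * z = z * c := by
      intro z
      constructor
      · rintro ⟨w, hw, rfl⟩
        refine ⟨w.2, fun c hc => ?_⟩
        have hw' := Subgroup.mem_center_iff.mp hw
        exact congrArg Subtype.val (hw' ⟨c, hc⟩)
      · rintro ⟨hz, hzc⟩
        refine ⟨⟨z, hz⟩, ?_, rfl⟩
        refine Subgroup.mem_center_iff.mpr ?_
        intro c
        exact Subtype.ext (hzc c.1 c.2)
    have hZs : Group.IsSolvable Z := by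
      refine Group.isSolvable_of_comm ?_
      intro a b
      have h1 := ((hZmem a).mp a.2).2 b ((hZmem b).mp b.2).1
      exact Subtype.ext h1.symm
    have hAZ : A ≤ Z := by
      intro a ha
      rw [hZmem]
      refine ⟨hAC ha, fun c hc => ?_⟩
      exact ((hmemC c).mp hc a ha).symm
    have hconjC : ∀ c, c ∈ C ↔ g⁻¹ * c * g ∈ C := by
      intro c
      conv_lhs => rw [← hg]
      rw [mem_conj_smul]
    have hleN : Subgroup.zpowers g ≤ Subgroup.normalizer (Z : Set G) := by
      rw [Subgroup.zpowers_le, Subgroup.mem_normalizer_iff]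
      intro h
      rw [hZmem, hZmem]
      constructor
      · rintro ⟨h1, h2⟩
        refine ⟨?_, fun c hc => ?_⟩
        · rw [hconjC]
          have : g⁻¹ * (g * h * g⁻¹) * g = h := by group
          rw [this]
          exact h1
        · have h3 := h2 (g⁻¹ * c * g) ((hconjC c).mp hc)
          have h4 : g * (g⁻¹ * c * g * h) * g⁻¹ = g * (h * (g⁻¹ * c * g)) * g⁻¹ := by rw [h3]
          simpa [mul_assoc] using h4
      · rintro ⟨h1, h2⟩
        refine ⟨?_, fun c hc => ?_⟩
        · rw [hconjC] at h1
          have : g⁻¹ * (g * h * g⁻¹) * g = h := by group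
          rwa [this] at h1
        · have hc' : g * c * g⁻¹ ∈ C := by
            rw [hconjC]
            have : g⁻¹ * (g * c * g⁻¹) * g = c := by group
            rwa [this]
          have h3 := h2 _ hc'
          have h4 : g⁻¹ * (g * c * g⁻¹ * (g * h * g⁻¹)) * g = g⁻¹ * (g * h * g⁻¹ * (g * c * g⁻¹)) * g := by
            rw [h3]
          simpa [mul_assoc] using h4
    have hzs : Group.IsSolvable (Subgroup.zpowers g) := by
      refine Group.isSolvable_of_comm ?_
      rintro ⟨a, k, rfl⟩ ⟨b, l, rfl⟩
      refine Subtype.ext ?_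
      show g ^ k * g ^ l = g ^ l * g ^ k
      rw [← zpow_add, ← zpow_add, add_comm]
    have hT := Cfsg.Agent.H17.sol_sup Z (Subgroup.zpowers g) hleN hZs hzs
    rw [hmemC]
    intro a ha
    exact hc (Z ⊔ Subgroup.zpowers g) (hAZ.trans le_sup_left) hT a ha g
      (Subgroup.mem_sup_right (Subgroup.mem_zpowers g))
  -- conjugates of A
  have hnotle : ∀ g : G, g ∉ C → ¬ (MulAut.conj g • A ≤ C) := by
    intro g hg hle
    apply hg
    apply hnorm
    have hAle : A ≤ MulAut.conj g • C := by
      intro a ha
      rw [mem_conj_smul, hmemC]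
      intro b hb
      have h1 : g * b * g⁻¹ ∈ MulAut.conj g • A := by
        rw [mem_conj_smul]
        have : g⁻¹ * (g * b * g⁻¹) * g = b := by group
        rwa [this]
      have h2 := (hmemC _).mp (hle h1) a ha
      have h3 : g⁻¹ * (a * (g * b * g⁻¹)) * g = g⁻¹ * (g * b * g⁻¹ * a) * g := by rw [h2]
      have h4 : g⁻¹ * (a * (g * b * g⁻¹)) * g = g⁻¹ * a * g * b := by group
      have h5 : g⁻¹ * (g * b * g⁻¹ * a) * g = b * (g⁻¹ * a * g) := by group
      rw [h4, h5] at h3
      exact h3.symm
    have hne : MulAut.conj g • C ≠ ⊤ := by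
      intro h
      apply hCtop
      rw [eq_top_iff]
      intro x _
      have hx : g * x * g⁻¹ ∈ MulAut.conj g • C := by rw [h]; trivial
      rw [mem_conj_smul] at hx
      have : g⁻¹ * (g * x * g⁻¹) * g = x := by group
      rwa [this] at hx
    have hle2 := hprop _ hAle hne
    refine Subgroup.eq_of_le_of_card_ge hle2 ?_
    exact le_of_eq (Nat.card_congr (Subgroup.equivSMul (MulAut.conj g) C).toEquiv)
  have hzcent : ∀ g : G, g ∉ C → ∀ z ∈ C, z ∈ MulAut.conj g • C → z ∈ Subgroup.center G := by
    intro g hg z hz hzg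
    have htop : A ⊔ (MulAut.conj g • A) = ⊤ := by
      by_contra hne
      exact hnotle g hg ((le_sup_right).trans (hprop _ le_sup_left hne))
    have hle : A ⊔ (MulAut.conj g • A) ≤ Subgroup.centralizer ({z} : Set G) := by
      rw [sup_le_iff]
      constructor
      · intro a ha
        rw [Subgroup.mem_centralizer_singleton_iff]
        exact (hmemC z).mp hz a ha
      · intro y hy
        rw [Subgroup.mem_centralizer_singleton_iff]
        rw [mem_conj_smul] at hy hzg
        have h1 := (hmemC _).mp hzg _ hy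
        have h2 : g * (g⁻¹ * y * g * (g⁻¹ * z * g)) * g⁻¹ = g * (g⁻¹ * z * g * (g⁻¹ * y * g)) * g⁻¹ := by
          rw [h1]
        simpa [mul_assoc] using h2
    rw [htop] at hle
    rw [Subgroup.mem_center_iff]
    intro x
    have := hle (Subgroup.mem_top x)
    rw [Subgroup.mem_centralizer_singleton_iff] at this
    exact this
  -- pass to the central quotient
  set Z := Subgroup.center G with hZdef
  have hZC : Z ≤ C := by
    intro z hz
    rw [hmemC]
    intro a _
    exact (Subgroup.mem_center_iff.mp hz a)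
  have hZconj : ∀ g : G, Z ≤ MulAut.conj g • C := by
    intro g z hz
    rw [mem_conj_smul]
    have h1 := Subgroup.mem_center_iff.mp hz g
    have : g⁻¹ * z * g = z := by
      rw [mul_assoc, ← h1]
      group
    rw [this]
    exact hZC hz
  let π := QuotientGroup.mk' Z
  have hπ : ∀ x : G, π x = 1 ↔ x ∈ Z := fun x => by
    show ((x : G ⧸ Z)) = 1 ↔ _
    exact QuotientGroup.eq_one_iff x
  set Cb : Subgroup (G ⧸ Z) := C.map π with hCb
  have hmemCb : ∀ x : G, π x ∈ Cb ↔ x ∈ C := by
    intro x
    constructor
    · rintro ⟨c, hc, hcx⟩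
      have h1 : π (c⁻¹ * x) = 1 := by rw [map_mul, map_inv, hcx, inv_mul_cancel]
      have h2 := hZC ((hπ _).mp h1)
      have : x = c * (c⁻¹ * x) := by group
      rw [this]
      exact C.mul_mem hc h2
    · intro hx
      exact ⟨x, hx, rfl⟩
  have hF : IsFrobeniusComplement Cb := by
    refine ⟨?_, ?_, ?_⟩
    · intro h
      apply hnot
      intro a ha
      rw [← hπ]
      have : π a ∈ Cb := (hmemCb a).mpr (hAC ha)
      rw [h] at this
      exact this
    · intro h
      apply hCtop
      rw [eq_top_iff]
      intro x _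
      rw [← hmemCb, h]
      trivial
    · intro gb hgb
      obtain ⟨g, rfl⟩ := QuotientGroup.mk'_surjective Z gb
      rw [eq_bot_iff]
      rintro xb ⟨hxb1, hxb2⟩
      obtain ⟨c, hc, rfl⟩ := hxb1
      have hxb2' : π c ∈ MulAut.conj (QuotientGroup.mk' Z g) • Cb := hxb2
      rw [mem_conj_smul] at hxb2'
      have h1 : g⁻¹ * c * g ∈ C := by
        rw [← hmemCb, map_mul, map_mul, map_inv]
        exact hxb2'
      have hg : g ∉ C := fun h => hgb ((hmemCb g).mpr h)
      have h2 := hzcent g hg c hc (mem_conj_smul.mpr h1)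
      rw [Subgroup.mem_bot]
      exact (hπ c).mpr h2
  obtain ⟨N, hNset, hNn, hNnil⟩ := Cfsg.Agent.S0042.result Cb hF
  obtain ⟨N', hN'set, -, hcomp⟩ := Cfsg.Agent.H01.frobenius_theorem Cb hF
  have hNN' : N' = N := SetLike.coe_injective (hN'set.trans hNset.symm)
  rw [hNN'] at hcomp
  set K : Subgroup G := N.comap π with hK
  haveI hKn : K.Normal := Subgroup.Normal.comap hNn π
  have hNs : Group.IsSolvable N := inferInstance
  have hKs : Group.IsSolvable K := by
    let φ : K →* N := (π.comp K.subtype).codRestrict N (fun x => x.2)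
    have hker : Group.IsSolvable φ.ker := by
      refine Group.isSolvable_of_comm ?_
      intro a b
      have ha : π (a.1 : G) = 1 := by
        have := a.2
        rw [MonoidHom.mem_ker] at this
        exact congrArg Subtype.val this
      have h1 := (hπ _).mp ha
      exact Subtype.ext (Subtype.ext (Subgroup.mem_center_iff.mp h1 _).symm)
    exact solvable_of_ker_le_range φ.ker.subtype φ (by rw [Subgroup.range_subtype])
  have hT := Cfsg.Agent.H17.sol_sup K A (by
    rw [Subgroup.normalizer_eq_top_iff.mpr hKn]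
    exact le_top) hKs hA
  have hKC : K ≤ C := by
    intro k hk
    rw [hmemC]
    intro a ha
    exact hc (K ⊔ A) le_sup_right hT a ha k (Subgroup.mem_sup_left hk)
  have hNbot : N = ⊥ := by
    rw [eq_bot_iff]
    intro n hn'
    obtain ⟨g, rfl⟩ := QuotientGroup.mk'_surjective Z n
    have h1 : g ∈ K := hn'
    have h2 : π g ∈ Cb := (hmemCb g).mpr (hKC h1)
    have h3 : (QuotientGroup.mk' Z g : G ⧸ Z) ∈ frobeniusKernel Cb := by
      rw [← hNset]
      exact hn'
    rcases h3 with h3 | h3
    · rw [Subgroup.mem_bot]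
      exact h3
    · exfalso
      apply h3 1
      rw [mem_conj_smul]
      simpa using (show (QuotientGroup.mk' Z g) ∈ Cb from h2)
  rw [hNbot] at hcomp
  have hcard := hcomp.card_mul
  rw [Subgroup.card_bot, one_mul] at hcard
  apply hCtop
  rw [eq_top_iff]
  intro x _
  rw [← hmemCb, Subgroup.eq_top_of_card_eq Cb hcard]
  trivial

end Cfsg.Agent.H19
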