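import Mathlib
import Cfsg.Prelude.Def_Transfer
import Cfsg.Agent.Lib.H19.Basic
import Cfsg.Agent.Lib.H19.AbelianSylow
import Cfsg.Agent.Lib.H01.Coprime
import Cfsg.Agent.Lib.H18.Prod

/-! Groups with cyclic Sylow `p`-subgroups and abelian `p'`-subgroups (helper19): basics. -/

set_option autoImplicit false
set_option linter.style.haveILetI false

namespace Cfsg.Agent.H19.Sp

open Subgroup

universe u

/-- All `p`-subgroups cyclic and all `p'`-subgroups abelian. -/
def Hyp (p : ℕ) (G : Type u) [Group G] : Prop :=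
  (∀ H : Subgroup G, IsPGroup p H → IsCyclic H) ∧
  (∀ H : Subgroup G, ¬ p ∣ Nat.card H → ∀ x ∈ H, ∀ y ∈ H, x * y = y * x)

/-- A normal `p`-complement or a normal Sylow `p`-subgroup. -/
def Conc (p : ℕ) (G : Type u) [Group G] : Prop :=
  (∃ K : Subgroup G, K.Normal ∧ ¬ p ∣ Nat.card K ∧ ∃ n, K.index = p ^ n) ∨
  (∃ S : Subgroup G, S.Normal ∧ IsPGroup p S ∧ ¬ p ∣ S.index)

variable {G : Type u} [Group G] {p : ℕ}

theorem Hyp.subgroup (h : Hyp p G) (M : Subgroup G) : Hyp p M := by
  constructor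
  · intro H hH
    have h1 := h.1 (H.map M.subtype) (hH.map _)
    exact isCyclic_of_surjective _
      (H.equivMapOfInjective M.subtype M.subtype_injective).symm.surjective
  · intro H hH x hx y hy
    have hc : Nat.card (H.map M.subtype) = Nat.card H :=
      Subgroup.card_map_of_injective M.subtype_injective
    have h1 := h.2 (H.map M.subtype) (by rwa [hc]) x (mem_map_of_mem _ hx) y (mem_map_of_mem _ hy)
    exact Subtype.ext h1

/-- Descent along a surjection with lifts. -/
theorem Hyp.of_surjective {G' : Type u} [Group G'] (h : Hyp p G) (f : G →* G')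
    (hlift1 : ∀ K : Subgroup G', IsPGroup p K → ∃ A : Subgroup G, IsPGroup p A ∧ A.map f = K)
    (hlift2 : ∀ K : Subgroup G', ¬ p ∣ Nat.card K → ∃ A : Subgroup G, ¬ p ∣ Nat.card A ∧ A.map f = K) :
    Hyp p G' := by
  constructor
  · intro K hK
    obtain ⟨A, hA, rfl⟩ := hlift1 K hK
    haveI := h.1 A hA
    exact isCyclic_of_surjective (f.subgroupMap A) (f.subgroupMap_surjective A)
  · intro K hK x hx y hy
    obtain ⟨A, hA, rfl⟩ := hlift2 K hK
    obtain ⟨a, ha, rfl⟩ := hx
    obtain ⟨b, hb, rfl⟩ := hy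
    rw [← map_mul, ← map_mul, h.2 A hA a ha b hb]

theorem card_comap_eq [Finite G] {G' : Type u} [Group G'] (f : G →* G')
    (hf : Function.Surjective f) (K : Subgroup G') :
    Nat.card (K.comap f) = Nat.card f.ker * Nat.card K := by
  have h1 := Subgroup.card_mul_index (K.comap f)
  have h2 := Subgroup.card_mul_index f.ker
  rw [Subgroup.index_ker, MonoidHom.range_eq_top.mpr hf, Subgroup.card_top] at h2
  haveI : Finite G' := Finite.of_surjective f hf
  have h3 := Subgroup.card_mul_index K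
  rw [Subgroup.index_comap_of_surjective K hf] at h1
  have hpos : 0 < K.index := Nat.pos_of_ne_zero (Subgroup.index_ne_zero_of_finite)
  apply Nat.eq_of_mul_eq_mul_right hpos
  rw [h1, ← h2, ← h3, mul_assoc]

/-- A Sylow subgroup maps onto a `p`-group quotient. -/
theorem sylow_map_top {Γ Γ' : Type*} [Group Γ] [Group Γ'] [Finite Γ] [Fact p.Prime]
    (f : Γ →* Γ') (hf : Function.Surjective f) (hΓ' : IsPGroup p Γ') (R : Sylow p Γ) :
    (R : Subgroup Γ).map f = ⊤ := by
  have := (R.mapSurjective hf).is_maximal' (Q := ⊤) (hΓ'.to_subgroup ⊤) le_top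
  rw [Sylow.coe_mapSurjective] at this
  exact this.symm

theorem Hyp.quot_pprime [Finite G] [Fact p.Prime] (h : Hyp p G) (V : Subgroup G) [V.Normal]
    (hV : ¬ p ∣ Nat.card V) : Hyp p (G ⧸ V) := by
  have hs : Function.Surjective (QuotientGroup.mk' V) := QuotientGroup.mk'_surjective V
  have hcard : ∀ K : Subgroup (G ⧸ V), Nat.card (K.comap (QuotientGroup.mk' V)) =
      Nat.card V * Nat.card K := by
    intro K
    rw [card_comap_eq _ hs, QuotientGroup.ker_mk']
  apply h.of_surjective (QuotientGroup.mk' V)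
  · intro K hK
    let L := K.comap (QuotientGroup.mk' V)
    let f : L →* K := (QuotientGroup.mk' V).subgroupComap K
    have hf : Function.Surjective f :=
      (QuotientGroup.mk' V).subgroupComap_surjective_of_surjective K hs
    obtain ⟨R⟩ : Nonempty (Sylow p L) := Sylow.nonempty
    have hR := sylow_map_top f hf hK R
    refine ⟨(R : Subgroup L).map L.subtype, R.2.map _, ?_⟩
    apply le_antisymm
    · rintro _ ⟨_, ⟨x, hx, rfl⟩, rfl⟩
      exact x.2
    · intro y hy
      have : (⟨y, hy⟩ : K) ∈ (R : Subgroup L).map f := by rw [hR]; trivial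
      obtain ⟨x, hx, hxy⟩ := this
      refine ⟨x, ⟨x, hx, rfl⟩, ?_⟩
      exact congrArg Subtype.val hxy
  · intro K hK
    refine ⟨K.comap (QuotientGroup.mk' V), ?_, Subgroup.map_comap_eq_self_of_surjective hs K⟩
    rw [hcard]
    haveI : Fact p.Prime := inferInstance
    intro hd
    rcases (Fact.out : p.Prime).dvd_mul.1 hd with h1 | h1
    · exact hV h1
    · exact hK h1

theorem Hyp.quot_p [Finite G] [Fact p.Prime] (h : Hyp p G) (V : Subgroup G) [V.Normal]
    (hV : IsPGroup p V) : Hyp p (G ⧸ V) := by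
  have hs : Function.Surjective (QuotientGroup.mk' V) := QuotientGroup.mk'_surjective V
  have hcard : ∀ K : Subgroup (G ⧸ V), Nat.card (K.comap (QuotientGroup.mk' V)) =
      Nat.card V * Nat.card K := by
    intro K
    rw [card_comap_eq _ hs, QuotientGroup.ker_mk']
  apply h.of_surjective (QuotientGroup.mk' V)
  · intro K hK
    refine ⟨K.comap (QuotientGroup.mk' V), ?_, Subgroup.map_comap_eq_self_of_surjective hs K⟩
    obtain ⟨a, ha⟩ := IsPGroup.iff_card.1 hV
    obtain ⟨b, hb⟩ := IsPGroup.iff_card.1 hK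
    apply IsPGroup.of_card (n := a + b)
    rw [hcard, ha, hb, pow_add]
  · intro K hK
    let L := K.comap (QuotientGroup.mk' V)
    have hVL : V ≤ L := by
      intro v hv
      show (QuotientGroup.mk' V) v ∈ K
      have : (QuotientGroup.mk' V) v = 1 := by
        rw [← MonoidHom.mem_ker, QuotientGroup.ker_mk']; exact hv
      rw [this]; exact K.one_mem
    haveI hV' : (V.subgroupOf L).Normal := Subgroup.normal_subgroupOf
    have hcard2 : Nat.card (V.subgroupOf L) = Nat.card V := Cfsg.Agent.H01.card_subgroupOf_of_le hVL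
    have hidx : (V.subgroupOf L).index = Nat.card K := by
      have h1 := Subgroup.card_mul_index (V.subgroupOf L)
      rw [hcard2, hcard] at h1
      have hpos : 0 < Nat.card V := Nat.card_pos
      exact (Nat.eq_of_mul_eq_mul_left hpos h1)
    obtain ⟨a, ha⟩ := IsPGroup.iff_card.1 hV
    have hcop : (Nat.card (V.subgroupOf L)).Coprime (V.subgroupOf L).index := by
      rw [hcard2, hidx, ha]
      apply Nat.Coprime.pow_left
      exact (Nat.Prime.coprime_iff_not_dvd Fact.out).2 hK
    obtain ⟨A, hA⟩ := Subgroup.exists_right_complement'_of_coprime hcop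
    have hAcard : Nat.card A = Nat.card K := by
      rw [← hidx]; exact hA.symm.index_eq_card.symm
    refine ⟨A.map L.subtype, ?_, ?_⟩
    · rw [Subgroup.card_map_of_injective L.subtype_injective, hAcard]
      exact hK
    · apply le_antisymm
      · rintro _ ⟨_, ⟨x, hx, rfl⟩, rfl⟩
        exact x.2
      · intro y hy
        obtain ⟨l, rfl⟩ := hs y
        have hl : l ∈ L := hy
        obtain ⟨⟨v, b⟩, hvb⟩ := (hA.existsUnique ⟨l, hl⟩).exists
        refine ⟨(b : L), ⟨b, b.2, rfl⟩, ?_⟩
        have h1 : ((v : L) : G) * ((b : L) : G) = l := congrArg Subtype.val hvb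
        have h2 : (QuotientGroup.mk' V) ((v : L) : G) = 1 := by
          rw [← MonoidHom.mem_ker, QuotientGroup.ker_mk']; exact v.2
        rw [← h1, map_mul, h2, one_mul]

/-- `p`-element exponents on a cyclic group: the key congruence. -/
theorem lemmaC [Fact p.Prime] {t x : G} {k o e : ℕ} (ht : t * x * t⁻¹ = x ^ k) (ho : t ^ o = 1)
    (hop : ¬ p ∣ o) (hx : orderOf x = p ^ e) (hk : (k : ZMod p) = 1) : x ^ k = x := by
  have hpow : ∀ i : ℕ, t ^ i * x * (t ^ i)⁻¹ = x ^ (k ^ i) := by
    intro i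
    induction i with
    | zero => simp
    | succ i ih =>
      have h1 : t ^ (i + 1) * x * (t ^ (i + 1))⁻¹ = t * (t ^ i * x * (t ^ i)⁻¹) * t⁻¹ := by
        rw [pow_succ']; group
      rw [h1, ih, ← conj_pow, ht, ← pow_mul, pow_succ, mul_comm]
  have h1 := hpow o
  rw [ho] at h1
  simp only [one_mul, inv_one, mul_one] at h1
  have h2 : (p ^ e : ℤ) ∣ ((k : ℤ) ^ o - 1) := by
    have h3 : x ^ (k ^ o) = x ^ 1 := by rw [← h1, pow_one]
    have h4 := pow_eq_pow_iff_modEq.1 h3
    rw [hx] at h4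
    have h5 := (Nat.modEq_iff_dvd.1 h4.symm)
    push_cast at h5
    exact h5
  have hgeom := geom_sum_mul (k : ℤ) o
  have hs : ¬ (p : ℤ) ∣ ∑ i ∈ Finset.range o, (k : ℤ) ^ i := by
    intro hd
    have h6 := (ZMod.intCast_zmod_eq_zero_iff_dvd _ p).2 hd
    push_cast at h6
    rw [hk] at h6
    simp only [one_pow, Finset.sum_const, Finset.card_range, nsmul_eq_mul, mul_one] at h6
    exact hop ((ZMod.natCast_eq_zero_iff o p).1 h6)
  have hcop : IsCoprime ((p : ℤ) ^ e) (∑ i ∈ Finset.range o, (k : ℤ) ^ i) := by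
    apply IsCoprime.pow_left
    exact (Prime.coprime_iff_not_dvd (Nat.prime_iff_prime_int.1 Fact.out)).2 hs
  have h7 : (p ^ e : ℤ) ∣ (k : ℤ) - 1 := by
    rw [← hgeom] at h2
    exact hcop.dvd_of_dvd_mul_left h2
  have h8 : x ^ ((k : ℤ)) = x ^ (1 : ℤ) := by
    have h9 : x ^ ((k : ℤ) - 1) = 1 := by
      apply orderOf_dvd_iff_zpow_eq_one.1
      rw [hx]
      exact_mod_cast h7
    rw [zpow_sub, zpow_one, mul_inv_eq_one] at h9
    rw [h9, zpow_one]
  rw [zpow_natCast, zpow_one] at h8
  exact h8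

/-- If `t` does not centralize `x` then the commutator generates. -/
theorem mem_zpowers_commutator [Fact p.Prime] {t x : G} {k o e : ℕ} (ht : t * x * t⁻¹ = x ^ k)
    (ho : t ^ o = 1) (hop : ¬ p ∣ o) (hx : orderOf x = p ^ e) (hne : t * x * t⁻¹ ≠ x) :
    x ∈ zpowers (t * x * t⁻¹ * x⁻¹) := by
  have hk : (k : ZMod p) ≠ 1 := by
    intro h1
    exact hne (by rw [ht]; exact lemmaC ht ho hop hx h1)
  have hs : ¬ (p : ℤ) ∣ (k : ℤ) - 1 := by
    intro hd
    have h6 := (ZMod.intCast_zmod_eq_zero_iff_dvd _ p).2 hd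
    push_cast at h6
    exact hk (sub_eq_zero.1 h6)
  have hcop : IsCoprime ((k : ℤ) - 1) ((p : ℤ) ^ e) := by
    apply IsCoprime.pow_right
    exact ((Prime.coprime_iff_not_dvd (Nat.prime_iff_prime_int.1 Fact.out)).2 hs).symm
  obtain ⟨a, b, hab⟩ := hcop
  have hy : t * x * t⁻¹ * x⁻¹ = x ^ ((k : ℤ) - 1) := by
    rw [ht, zpow_sub, zpow_natCast, zpow_one]
  refine ⟨a, ?_⟩
  show (t * x * t⁻¹ * x⁻¹) ^ a = x
  rw [hy, ← zpow_mul]
  have h1 : x ^ (b * (p : ℤ) ^ e) = 1 := by
    rw [mul_comm, zpow_mul]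
    have : x ^ ((p : ℤ) ^ e) = 1 := by
      apply orderOf_dvd_iff_zpow_eq_one.1
      rw [hx]; push_cast; exact dvd_rfl
    rw [this, one_zpow]
  have h2 : x ^ (((k : ℤ) - 1) * a) * x ^ (b * (p : ℤ) ^ e) = x := by
    rw [← zpow_add]
    have : ((k : ℤ) - 1) * a + b * (p : ℤ) ^ e = 1 := by linarith
    rw [this, zpow_one]
  rw [h1, mul_one] at h2
  exact h2

/-- A subgroup of a cyclic group is determined by its order. -/
theorem mem_of_pow_card_eq_one {C : Type*} [Group C] [Finite C] [IsCyclic C] (A : Subgroup C) {y : C}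
    (hy : y ^ Nat.card A = 1) : y ∈ A := by
  classical
  haveI := Fintype.ofFinite C
  have h1 := IsCyclic.card_pow_eq_one_le (α := C) (n := Nat.card A) Nat.card_pos
  by_contra hyA
  have h2 : (insert y (A : Set C).toFinset) ⊆ Finset.univ.filter (fun a : C => a ^ Nat.card A = 1) := by
    intro z hz
    rw [Finset.mem_insert] at hz
    rw [Finset.mem_filter]
    refine ⟨Finset.mem_univ _, ?_⟩
    rcases hz with rfl | hz
    · exact hy
    · rw [Set.mem_toFinset] at hz
      have h5 : (⟨z, hz⟩ : A) ^ Nat.card A = 1 := pow_card_eq_one'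
      exact congrArg Subtype.val h5
  have h3 := Finset.card_le_card h2
  rw [Finset.card_insert_of_notMem (by simpa using hyA)] at h3
  have h4 : (A : Set C).toFinset.card = Nat.card A := by
    rw [Set.toFinset_card, Nat.card_eq_fintype_card]
    rfl
  omega

end Cfsg.Agent.H19.Sp
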