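import Mathlib

/-! Regular friendship graphs of degree at least three do not exist (helper19). -/

set_option autoImplicit false

namespace Cfsg.Agent.H19.Sp

open Matrix

theorem no_friend {Ω : Type*} [Fintype Ω] [DecidableEq Ω] (i₀ : Ω) (Adj : Ω → Ω → Prop)
    [DecidableRel Adj] (hsymm : ∀ i j, Adj i j → Adj j i) (hirr : ∀ i, ¬ Adj i i) (k : ℕ)
    (hk : 3 ≤ k) (hdeg : ∀ i, (Finset.univ.filter (Adj i)).card = k)
    (hfr : ∀ i j, i ≠ j → (Finset.univ.filter (fun v => Adj i v ∧ Adj v j)).card = 1) : False := by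
  obtain ⟨l, hl, hlk⟩ := Nat.exists_prime_and_dvd (n := k - 1) (by omega)
  haveI : Fact l.Prime := ⟨hl⟩
  have hk1 : (k : ZMod l) = 1 := by
    have h1 : ((k - 1 : ℕ) : ZMod l) = 0 := (ZMod.natCast_eq_zero_iff _ _).2 hlk
    have h2 : k = (k - 1) + 1 := by omega
    rw [h2, Nat.cast_add, h1]
    simp
  let A : Matrix Ω Ω (ZMod l) := Matrix.of fun i j => if Adj i j then 1 else 0
  let J : Matrix Ω Ω (ZMod l) := Matrix.of fun _ _ => 1
  have hAA : A * A = J := by
    ext i j
    simp only [Matrix.mul_apply, A, J, Matrix.of_apply]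
    by_cases hij : i = j
    · subst hij
      have h1 : ∀ v, (if Adj i v then (1 : ZMod l) else 0) * (if Adj v i then 1 else 0) =
          if Adj i v then 1 else 0 := by
        intro v
        by_cases hv : Adj i v
        · simp [hv, hsymm i v hv]
        · simp [hv]
      simp only [h1]
      rw [Finset.sum_boole, hdeg, hk1]
    · have h1 : ∀ v, (if Adj i v then (1 : ZMod l) else 0) * (if Adj v j then 1 else 0) =
          if Adj i v ∧ Adj v j then 1 else 0 := by
        intro v
        by_cases hv : Adj i v <;> by_cases hw : Adj v j <;> simp [hv, hw]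
      simp only [h1]
      rw [Finset.sum_boole, hfr i j hij]
      simp
  have hAJ : A * J = J := by
    ext i j
    simp only [Matrix.mul_apply, A, J, Matrix.of_apply, mul_one]
    rw [Finset.sum_boole, hdeg, hk1]
  have hJJ : J * J = (Fintype.card Ω : ZMod l) • J := by
    ext i j
    simp [Matrix.mul_apply, J]
  have hpow : ∀ n : ℕ, A ^ (n + 2) = J := by
    intro n
    induction n with
    | zero => rw [zero_add, pow_two, hAA]
    | succ n ih => rw [show n + 1 + 2 = (n + 2) + 1 by ring, pow_succ', ih, hAJ]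
  have h4 : J * J = J := by
    have h5 := hpow 2
    rw [show 2 + 2 = 2 + 2 by rfl, pow_add, pow_two, hAA] at h5
    exact h5
  have hcard1 : (Fintype.card Ω : ZMod l) = 1 := by
    have h5 : (J * J) i₀ i₀ = J i₀ i₀ := by rw [h4]
    rw [hJJ] at h5
    simpa [J] using h5
  have htr : (J.trace : ZMod l) = 0 := by
    have h2 : 2 ≤ l := hl.two_le
    have h5 := hpow (l - 2)
    rw [show l - 2 + 2 = l by omega] at h5
    rw [← h5, ZMod.trace_pow_card]
    have h6 : A.trace = 0 := by
      simp [Matrix.trace, A, hirr]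
    rw [h6, zero_pow hl.ne_zero]
  have htr2 : J.trace = (Fintype.card Ω : ZMod l) := by
    simp [Matrix.trace, J]
  rw [htr2, hcard1] at htr
  exact one_ne_zero htr

end Cfsg.Agent.H19.Sp
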