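import Cfsg.Agent.Lib.H19.Sp2

/-! Groups with cyclic Sylow `p`-subgroups and abelian `p'`-subgroups: congruences (helper19). -/

set_option autoImplicit false
set_option linter.style.haveILetI false

namespace Cfsg.Agent.H19.Sp

open Subgroup
open scoped Pointwise

universe u

variable {G : Type u} [Group G] {p : ℕ}

open scoped IsMulCommutative in
theorem eq_one_of_mem_center_normalizer [Finite G] {q : ℕ} [Fact q.Prime]
    (hcomm : commutator G = ⊤) (Q : Sylow q G)
    (hQ : ∀ a ∈ (Q : Subgroup G), ∀ b ∈ (Q : Subgroup G), a * b = b * a) {z : G}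
    (hzQ : z ∈ (Q : Subgroup G))
    (hz : z ∈ centralizer (normalizer ((Q : Subgroup G) : Set G) : Set G)) : z = 1 := by
  classical
  haveI hc : IsMulCommutative (Q : Subgroup G) := ⟨⟨fun a b => Subtype.ext (hQ _ a.2 _ b.2)⟩⟩
  haveI : IsMulCommutative Q := hc
  let V : G →* (Q : Subgroup G) := MonoidHom.transfer (MonoidHom.id (Q : Subgroup G))
  have h1 : V z = 1 := by
    have : commutator G ≤ V.ker := Abelianization.commutator_subset_ker V
    exact this (by rw [hcomm]; trivial)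
  have hkey : ∀ (k : ℕ) (g₀ : G), g₀⁻¹ * z ^ k * g₀ ∈ (Q : Subgroup G) →
      g₀⁻¹ * z ^ k * g₀ = z ^ k := by
    intro k g₀ hk
    have hzk : z ^ k ∈ (Q : Subgroup G) := pow_mem hzQ k
    obtain ⟨n, hn, h⟩ := Q.conj_eq_normalizer_conj_of_mem (z ^ k) g₀ hzk hk
    have h3 : z ^ k ∈ centralizer (normalizer ((Q : Subgroup G) : Set G) : Set G) := pow_mem hz k
    have h5 : n * z ^ k = z ^ k * n := Subgroup.mem_centralizer_iff.1 h3 n hn
    rw [h, mul_assoc, ← h5]
    group
  have h2 := MonoidHom.transfer_eq_pow (MonoidHom.id (Q : Subgroup G)) z hkey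
  have h3 : z ^ (Q : Subgroup G).index = 1 := by
    have h5 : (MonoidHom.id (Q : Subgroup G))
        ⟨z ^ (Q : Subgroup G).index, MonoidHom.transfer_eq_pow_aux z hkey⟩ = 1 := by
      rw [← h2]
      exact h1
    exact congrArg Subtype.val h5
  have h6 : orderOf z ∣ (Q : Subgroup G).index := orderOf_dvd_of_pow_eq_one h3
  obtain ⟨k, hk⟩ := orderOf_of_mem_isPGroup Q.2 hzQ
  by_contra hne
  have hk0 : k ≠ 0 := by
    rintro rfl
    rw [pow_zero] at hk
    exact hne (orderOf_eq_one_iff.1 hk)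
  have h7 : q ∣ (Q : Subgroup G).index := by
    refine Dvd.dvd.trans ?_ h6
    rw [hk]
    exact dvd_pow_self q hk0
  exact Q.not_dvd_index h7

theorem not_dvd_card_of_sylow [Finite G] [Fact p.Prime] {q : ℕ} [Fact q.Prime] (hqp : q ≠ p)
    (Q : Sylow q G) : ¬ p ∣ Nat.card (Q : Subgroup G) := by
  obtain ⟨n, hn⟩ := IsPGroup.iff_card.1 Q.2
  rw [hn]
  intro hd
  have h1 := (Fact.out : p.Prime).dvd_of_dvd_pow hd
  exact hqp ((Nat.prime_dvd_prime_iff_eq Fact.out Fact.out).1 h1).symm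

theorem sylow_key [Finite G] [Fact p.Prime] (h : Hyp p G) (hcomm : commutator G = ⊤) {q : ℕ}
    [Fact q.Prime] (hqp : q ≠ p) (Q : Sylow q G) :
    ∃ R' : Subgroup G, IsPGroup p R' ∧ R' ≤ normalizer ((Q : Subgroup G) : Set G) ∧
      ((Q : Subgroup G) ⊓ centralizer (R' : Set G) : Subgroup G) = ⊥ := by
  have hQp := not_dvd_card_of_sylow hqp Q
  have hQab := h.2 _ hQp
  let A := normalizer ((Q : Subgroup G) : Set G)
  let D : Subgroup A := (centralizer ((Q : Subgroup G) : Set G)).subgroupOf A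
  haveI hDn : D.Normal := by
    constructor
    rintro ⟨d, hd⟩ hd2 ⟨g, hg⟩
    rw [Subgroup.mem_subgroupOf] at hd2 ⊢
    rw [Subgroup.mem_centralizer_iff] at hd2 ⊢
    intro z hz
    have h1 : g⁻¹ * z * g ∈ (Q : Subgroup G) := by
      have := (Subgroup.mem_normalizer_iff.1 (inv_mem hg) z).1 hz
      simpa using this
    have h2 := hd2 _ h1
    show z * (g * d * g⁻¹) = g * d * g⁻¹ * z
    calc z * (g * d * g⁻¹) = g * ((g⁻¹ * z * g) * d) * g⁻¹ := by group
      _ = g * (d * (g⁻¹ * z * g)) * g⁻¹ := by rw [h2]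
      _ = g * d * g⁻¹ * z := by group
  have hpq : IsPGroup p (A ⧸ D) := by
    intro x
    induction x using QuotientGroup.induction_on with
    | H g =>
      obtain ⟨k, m, hpm, hnm⟩ := Nat.exists_eq_pow_mul_and_not_dvd (orderOf_pos g).ne' p
        (Fact.out : p.Prime).ne_one
      refine ⟨k, ?_⟩
      rw [← QuotientGroup.mk_pow, QuotientGroup.eq_one_iff]
      have h1 : orderOf (g ^ p ^ k) = m := by
        rw [orderOf_pow_of_dvd (pow_ne_zero _ (Fact.out : p.Prime).ne_zero) ⟨m, hnm⟩, hnm,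
          Nat.mul_div_cancel_left _ (pow_pos (Fact.out : p.Prime).pos _)]
      have h2 : orderOf (((g ^ p ^ k : A)) : G) = m := by
        rw [Subgroup.orderOf_coe, h1]
      show (g ^ p ^ k : A) ∈ D
      rw [Subgroup.mem_subgroupOf, Subgroup.mem_centralizer_iff]
      intro z hz
      have h3 : zpowers (((g ^ p ^ k : A)) : G) ≤ normalizer ((Q : Subgroup G) : Set G) := by
        rw [Subgroup.zpowers_le]; exact (g ^ p ^ k : A).2
      exact h.comm_of_normalizes hQp (by rw [Nat.card_zpowers, h2]; exact hpm) h3 z hz _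
        (mem_zpowers _)
  obtain ⟨R⟩ : Nonempty (Sylow p A) := Sylow.nonempty
  have hRtop := sylow_map_top (QuotientGroup.mk' D) (QuotientGroup.mk'_surjective D) hpq R
  let R' := (R : Subgroup A).map A.subtype
  have hR'A : R' ≤ A := by
    rintro _ ⟨x, _, rfl⟩
    exact x.2
  refine ⟨R', R.2.map _, hR'A, ?_⟩
  rw [eq_bot_iff]
  rintro z ⟨hzQ, hzR⟩
  rw [Subgroup.mem_bot]
  apply eq_one_of_mem_center_normalizer hcomm Q hQab hzQ
  rw [Subgroup.mem_centralizer_iff]
  intro n hn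
  have h1 : (QuotientGroup.mk' D) (⟨n, hn⟩ : A) ∈ (R : Subgroup A).map (QuotientGroup.mk' D) := by
    rw [hRtop]; trivial
  obtain ⟨ρ, hρ, hρn⟩ := h1
  have h2 : ρ⁻¹ * ⟨n, hn⟩ ∈ D := by
    rw [← QuotientGroup.ker_mk' D, MonoidHom.mem_ker, map_mul, map_inv, hρn]
    simp
  have h3 : ((ρ⁻¹ * ⟨n, hn⟩ : A) : G) ∈ centralizer ((Q : Subgroup G) : Set G) :=
    Subgroup.mem_subgroupOf.1 h2
  have h4 : z * ((ρ⁻¹ * ⟨n, hn⟩ : A) : G) = ((ρ⁻¹ * ⟨n, hn⟩ : A) : G) * z :=
    Subgroup.mem_centralizer_iff.1 h3 z hzQ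
  have h5 : (ρ : G) * z = z * (ρ : G) :=
    Subgroup.mem_centralizer_iff.1 hzR (ρ : G) ⟨ρ, hρ, rfl⟩
  have h6 : n = (ρ : G) * ((ρ⁻¹ * ⟨n, hn⟩ : A) : G) := by
    push_cast
    group
  show n * z = z * n
  rw [h6, mul_assoc, ← h4, ← mul_assoc, h5, mul_assoc]

theorem sylow_card_modEq [Finite G] [Fact p.Prime] (h : Hyp p G) (hcomm : commutator G = ⊤) {q : ℕ}
    [Fact q.Prime] (hqp : q ≠ p) (Q : Sylow q G) : (Nat.card (Q : Subgroup G) : ZMod p) = 1 := by
  obtain ⟨R', hR', hR'N, hbot⟩ := sylow_key h hcomm hqp Q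
  have h1 := card_modEq_inf_centralizer hR' hR'N
  rw [hbot, Subgroup.card_bot] at h1
  have h2 := (ZMod.natCast_eq_natCast_iff _ _ _).2 h1
  simpa using h2

theorem index_modEq [Finite G] [Fact p.Prime] (h : Hyp p G) (hcomm : commutator G = ⊤)
    (P : Sylow p G) : ((P : Subgroup G).index : ZMod p) = 1 := by
  set m := (P : Subgroup G).index with hm
  have hm0 : m ≠ 0 := Subgroup.index_ne_zero_of_finite
  have hprod := Nat.factorization_prod_pow_eq_self hm0
  have hG : Nat.card G = Nat.card (P : Subgroup G) * m := (Subgroup.card_mul_index _).symm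
  obtain ⟨a, ha⟩ := IsPGroup.iff_card.1 P.2
  rw [← hprod, Finsupp.prod, Nat.cast_prod]
  apply Finset.prod_eq_one
  intro q hq
  have hq' : q ∈ m.primeFactors := by simpa using hq
  have hqp := Nat.prime_of_mem_primeFactors hq'
  have hqm := Nat.dvd_of_mem_primeFactors hq'
  haveI : Fact q.Prime := ⟨hqp⟩
  have hne : q ≠ p := by
    rintro rfl
    exact P.not_dvd_index hqm
  obtain ⟨Q⟩ : Nonempty (Sylow q G) := Sylow.nonempty
  have h1 := sylow_card_modEq h hcomm hne Q
  rw [Sylow.card_eq_multiplicity, hG, ha] at h1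
  have hf : (p ^ a * m).factorization q = m.factorization q := by
    rw [Nat.factorization_mul (pow_ne_zero _ (Fact.out : p.Prime).ne_zero) hm0]
    simp only [Nat.factorization_pow, Finsupp.coe_add, Finsupp.coe_smul, Pi.add_apply, Pi.smul_apply,
      smul_eq_mul]
    rw [Nat.factorization_eq_zero_of_not_dvd
      (fun hd => hne ((Nat.prime_dvd_prime_iff_eq hqp Fact.out).1 hd))]
    simp
  rw [hf] at h1
  exact_mod_cast h1

end Cfsg.Agent.H19.Sp
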