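import Cfsg.Agent.Lib.H19.Sp4

/-! Groups with cyclic Sylow `p`-subgroups and abelian `p'`-subgroups: the simple case (helper19). -/

set_option autoImplicit false
set_option linter.style.haveILetI false

namespace Cfsg.Agent.H19.Sp

open Subgroup
open scoped Pointwise

universe u

variable {G : Type u} [Group G] {p : ℕ}

theorem eq_one_of_pow [Finite G] [Fact p.Prime] {A : Subgroup G} (hA : IsPGroup p A) {y : G}
    (hy : y ∈ A) {o : ℕ} (hyo : y ^ o = 1) (ho : ¬ p ∣ o) : y = 1 := by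
  obtain ⟨k, hk⟩ := orderOf_of_mem_isPGroup hA hy
  have h1 : p ^ k ∣ o := by rw [← hk]; exact orderOf_dvd_of_pow_eq_one hyo
  have hk0 : k = 0 := by
    by_contra hne
    exact ho ((dvd_pow_self p hne).trans h1)
  rw [hk0, pow_zero] at hk
  exact orderOf_eq_one_iff.1 hk

theorem exists_zpowers_eq {H : Subgroup G} (hc : IsCyclic H) : ∃ x, zpowers x = H := by
  obtain ⟨⟨x, hxP⟩, hx⟩ := IsCyclic.exists_generator (α := H)
  refine ⟨x, le_antisymm ?_ ?_⟩
  · rw [Subgroup.zpowers_le]; exact hxP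
  · intro y hy
    obtain ⟨i, hi⟩ := hx ⟨y, hy⟩
    exact ⟨i, congrArg Subtype.val hi⟩

theorem card_dvd_of_exponent {C : Type*} [Group C] [Finite C] [IsCyclic C] (B : Subgroup C) {d : ℕ}
    (h : ∀ y ∈ B, y ^ d = 1) : Nat.card B ∣ d := by
  obtain ⟨g, hg⟩ := IsCyclic.exists_ofOrder_eq_natCard (α := B)
  rw [← hg]
  apply orderOf_dvd_of_pow_eq_one
  exact Subtype.ext (h _ g.2)

theorem mulAut_facts [Fact p.Prime] {W : Type*} [Group W] [Finite W] (hW : Nat.card W = p) :
    IsCyclic (MulAut W) ∧ Nat.card (MulAut W) = p - 1 := by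
  haveI : IsCyclic W := isCyclic_of_prime_card hW
  haveI : Fact (Nat.card W).Prime := ⟨hW ▸ Fact.out⟩
  constructor
  · exact isCyclic_of_surjective _ (IsCyclic.mulAutMulEquiv W).symm.surjective
  · rw [IsCyclic.card_mulAut, hW, Nat.totient_prime Fact.out]

/-- Context of the simple case. -/
structure Ctx (p : ℕ) (G : Type u) [Group G] where
  h : Hyp p G
  hcomm : commutator G = ⊤
  simple : ∀ X : Subgroup G, X.Normal → X = ⊥ ∨ X = ⊤
  P : Sylow p G
  W : Subgroup G
  T : Subgroup G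
  hW : W ≤ (P : Subgroup G)
  hWc : Nat.card W = p
  hTN : T ≤ normalizer ((P : Subgroup G) : Set G)
  hTp : ¬ p ∣ Nat.card T
  hdec : ∀ n ∈ normalizer ((P : Subgroup G) : Set G), ∃ x ∈ (P : Subgroup G), ∃ t ∈ T, n = x * t
  hTc : ¬ T ≤ centralizer ((P : Subgroup G) : Set G)
  hmax : ∀ M : Subgroup G, normalizer ((P : Subgroup G) : Set G) ≤ M → M ≠ ⊤ →
    M = normalizer ((P : Subgroup G) : Set G)
  hTcard : (Nat.card T : ZMod p) = 1

namespace Ctx

variable [Finite G] [Fact p.Prime] (c : Ctx p G)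

/-- The normalizer of the Sylow subgroup. -/
abbrev N : Subgroup G := normalizer ((c.P : Subgroup G) : Set G)

theorem P_cyclic : IsCyclic (c.P : Subgroup G) := c.h.1 _ c.P.2

theorem P_comm : ∀ a ∈ (c.P : Subgroup G), ∀ b ∈ (c.P : Subgroup G), a * b = b * a := by
  intro a ha b hb
  haveI := c.P_cyclic
  have : (⟨a, ha⟩ * ⟨b, hb⟩ : (c.P : Subgroup G)) = ⟨b, hb⟩ * ⟨a, ha⟩ :=
    (IsCyclic.commGroup (α := (c.P : Subgroup G))).mul_comm _ _
  exact congrArg Subtype.val this

theorem T_comm : ∀ a ∈ c.T, ∀ b ∈ c.T, a * b = b * a := c.h.2 _ c.hTp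

theorem conj_mem_P {n x : G} (hn : n ∈ c.N) (hx : x ∈ (c.P : Subgroup G)) :
    n * x * n⁻¹ ∈ (c.P : Subgroup G) := (mem_normalizer_iff.1 hn x).1 hx

theorem P_le_N : (c.P : Subgroup G) ≤ c.N := Subgroup.le_normalizer

theorem not_dvd_orderOf_of_mem_T {u : G} (hu : u ∈ c.T) : ¬ p ∣ orderOf u := by
  intro hd
  exact c.hTp (hd.trans (Subgroup.orderOf_dvd_natCard _ hu))

/-- `p'`-elements of `C_N(P)` lie in `T`. -/
theorem mem_T {u : G} (hu : u ∈ c.N) (hup : ¬ p ∣ orderOf u)
    (huc : u ∈ centralizer ((c.P : Subgroup G) : Set G)) : u ∈ c.T := by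
  obtain ⟨x, hx, t, ht, rfl⟩ := c.hdec u hu
  have hcx : x * (x * t) = (x * t) * x := mem_centralizer_iff.1 huc x hx
  have htx : x * t = t * x := by
    have := mul_left_cancel (a := x) (b := x * t) (c := t * x) (by rw [hcx]; group)
    exact this
  have hcomm : Commute x t := htx
  set o := orderOf (x * t)
  have h1 : x ^ o * t ^ o = 1 := by
    rw [← hcomm.mul_pow]; exact pow_orderOf_eq_one _
  have h2 : x ^ o ∈ c.T := by
    have : x ^ o = (t ^ o)⁻¹ := eq_inv_of_mul_eq_one_left h1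
    rw [this]
    exact inv_mem (pow_mem ht o)
  have h3 : (x ^ o) ^ Nat.card c.T = 1 := by
    have h5 : (⟨x ^ o, h2⟩ : c.T) ^ Nat.card c.T = 1 := pow_card_eq_one'
    exact congrArg Subtype.val h5
  have h4 : x ^ o = 1 := eq_one_of_pow c.P.2 (pow_mem hx o) h3 c.hTp
  have h5 : x = 1 := eq_one_of_pow c.P.2 hx h4 hup
  rw [h5, one_mul]
  exact ht

/-- Elements of `T ∩ C(P)` are central in `N`. -/
theorem N_le_centralizer {u : G} (hu : u ∈ c.T)
    (huc : u ∈ centralizer ((c.P : Subgroup G) : Set G)) : c.N ≤ centralizer ({u} : Set G) := by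
  intro n hn
  obtain ⟨x, hx, t, ht, rfl⟩ := c.hdec n hn
  rw [Subgroup.mem_centralizer_singleton_iff]
  have h1 : x * u = u * x := mem_centralizer_iff.1 huc x hx
  have h2 : t * u = u * t := c.T_comm t ht u hu
  rw [mul_assoc, h2, ← mul_assoc, h1, mul_assoc]

theorem P_ne_top : (c.P : Subgroup G) ≠ ⊤ := by
  intro hP
  apply c.hTc
  intro t ht
  have h1 : t = 1 := by
    apply eq_one_of_pow c.P.2 (by rw [hP]; trivial) (o := Nat.card c.T) _ c.hTp
    have h5 : (⟨t, ht⟩ : c.T) ^ Nat.card c.T = 1 := pow_card_eq_one'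
    exact congrArg Subtype.val h5
  rw [h1]
  exact one_mem _

theorem N_ne_top : c.N ≠ ⊤ := by
  intro hN
  have hn : (c.P : Subgroup G).Normal := Subgroup.normalizer_eq_top_iff.1 hN
  rcases c.simple _ hn with h1 | h1
  · apply c.hTc
    rw [h1]
    intro t _
    rw [Subgroup.mem_centralizer_iff]
    intro y hy
    have hy' : y = 1 := hy
    rw [hy']; simp
  · exact c.P_ne_top h1

theorem normalizer_eq {X : Subgroup G} (hX : X ≤ (c.P : Subgroup G)) (hne : X ≠ ⊥) :
    normalizer (X : Set G) = c.N := by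
  apply c.hmax
  · intro n hn
    apply Subgroup.mem_normalizer_fintype
    intro x hx
    have h1 : n * x * n⁻¹ ∈ (c.P : Subgroup G) := c.conj_mem_P hn (hX hx)
    haveI := c.P_cyclic
    have h2 : (⟨n * x * n⁻¹, h1⟩ : (c.P : Subgroup G)) ^ Nat.card (X.subgroupOf (c.P : Subgroup G)) = 1 := by
      apply Subtype.ext
      show (n * x * n⁻¹) ^ Nat.card (X.subgroupOf (c.P : Subgroup G)) = 1
      rw [H01.card_subgroupOf_of_le hX, conj_pow]
      have h5 : (⟨x, hx⟩ : X) ^ Nat.card X = 1 := pow_card_eq_one'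
      have h6 : x ^ Nat.card X = 1 := congrArg Subtype.val h5
      rw [h6]; simp
    exact Subgroup.mem_subgroupOf.1 (mem_of_pow_card_eq_one _ h2)
  · intro htop
    have hn : X.Normal := Subgroup.normalizer_eq_top_iff.1 htop
    rcases c.simple _ hn with h1 | h1
    · exact hne h1
    · apply c.P_ne_top
      rw [eq_top_iff, ← h1]
      exact hX

theorem W_ne_bot : c.W ≠ ⊥ := by
  intro h
  have h1 := c.hWc
  rw [h, Subgroup.card_bot] at h1
  exact (Fact.out : p.Prime).one_lt.ne h1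

theorem W_normalizer : normalizer (c.W : Set G) = c.N := c.normalizer_eq c.hW c.W_ne_bot

include c in
theorem zpowers_normalizer_ne_top {a : G} (ha : a ≠ 1) : normalizer ((zpowers a : Subgroup G) : Set G) ≠ ⊤ := by
  intro htop
  have hn : (zpowers a).Normal := Subgroup.normalizer_eq_top_iff.1 htop
  rcases c.simple _ hn with h1 | h1
  · exact ha (Subgroup.zpowers_eq_bot.1 h1)
  · have h2 : ∀ x y : G, x * y = y * x := by
      intro x y
      have hx : x ∈ zpowers a := by rw [h1]; trivial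
      have hy : y ∈ zpowers a := by rw [h1]; trivial
      obtain ⟨i, rfl⟩ := hx
      obtain ⟨j, rfl⟩ := hy
      exact ((Commute.refl a).zpow_zpow i j).eq
    have h3 : commutator G = ⊥ := by
      rw [commutator_def, Subgroup.commutator_eq_bot_iff_le_centralizer]
      intro x _
      rw [Subgroup.mem_centralizer_iff]
      intro y _
      exact h2 y x
    have h4 := c.hcomm
    rw [h3] at h4
    apply ha
    have h5 : a ∈ (⊥ : Subgroup G) := by rw [h4]; trivial
    exact h5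

theorem centralizer_eq {a : G} (ha : a ≠ 1) (hN : c.N ≤ centralizer ({a} : Set G)) :
    centralizer ({a} : Set G) = c.N := by
  apply c.hmax _ hN
  intro htop
  apply c.zpowers_normalizer_ne_top ha
  rw [eq_top_iff, ← htop]
  intro x hx
  rw [Subgroup.mem_centralizer_singleton_iff] at hx
  apply Subgroup.mem_normalizer_fintype
  rintro _ ⟨i, rfl⟩
  refine ⟨i, ?_⟩
  have h1 : x * a * x⁻¹ = a := by rw [hx]; group
  show a ^ i = x * a ^ i * x⁻¹
  rw [← conj_zpow, h1]

theorem zpowers_normalizer_eq {a : G} (ha : a ≠ 1) (hN : c.N ≤ centralizer ({a} : Set G)) :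
    normalizer ((zpowers a : Subgroup G) : Set G) = c.N := by
  apply c.hmax _ _ (c.zpowers_normalizer_ne_top ha)
  intro x hx
  have hx' := hN hx
  rw [Subgroup.mem_centralizer_singleton_iff] at hx'
  apply Subgroup.mem_normalizer_fintype
  rintro _ ⟨i, rfl⟩
  refine ⟨i, ?_⟩
  have h1 : x * a * x⁻¹ = a := by rw [hx']; group
  show a ^ i = x * a ^ i * x⁻¹
  rw [← conj_zpow, h1]

/-- A `p'`-element of `N` centralizing `W` centralizes `P`. -/
theorem commute_P_of_commute_W {u : G} (hu : u ∈ c.N) (hup : ¬ p ∣ orderOf u)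
    (huW : u ∈ centralizer (c.W : Set G)) : u ∈ centralizer ((c.P : Subgroup G) : Set G) := by
  obtain ⟨x, hzx⟩ := exists_zpowers_eq c.P_cyclic
  have hxP : x ∈ (c.P : Subgroup G) := by rw [← hzx]; exact mem_zpowers x
  obtain ⟨e, he⟩ := orderOf_of_mem_isPGroup c.P.2 hxP
  have htx : u * x * u⁻¹ ∈ zpowers x := by
    rw [hzx]; exact c.conj_mem_P hu hxP
  obtain ⟨k, hk⟩ : ∃ k : ℕ, u * x * u⁻¹ = x ^ k := by
    rw [← mem_powers_iff_mem_zpowers] at htx
    obtain ⟨k, hk⟩ := htx
    exact ⟨k, hk.symm⟩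
  obtain ⟨w, hw, hw1⟩ := (Subgroup.bot_or_exists_ne_one c.W).resolve_left c.W_ne_bot
  have hwP : w ∈ zpowers x := by rw [hzx]; exact c.hW hw
  obtain ⟨j, hj⟩ : ∃ j : ℕ, x ^ j = w := by
    rw [← mem_powers_iff_mem_zpowers] at hwP
    exact hwP
  have hwo : orderOf w = p := by
    have h5 : (⟨w, hw⟩ : c.W) ^ Nat.card c.W = 1 := pow_card_eq_one'
    have h6 : w ^ Nat.card c.W = 1 := congrArg Subtype.val h5
    rw [c.hWc] at h6
    exact orderOf_eq_prime h6 hw1
  have hcw : u * w = w * u := (mem_centralizer_iff.1 huW w hw).symm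
  have h1 : w ^ k = w := by
    have h2 : u * w * u⁻¹ = w := by rw [hcw]; group
    rw [← hj, ← conj_pow, hk, ← pow_mul, mul_comm, pow_mul, hj] at h2
    exact h2
  have h2 : (k : ZMod p) = 1 := by
    have h3 : w ^ k = w ^ 1 := by rw [h1, pow_one]
    have h4 := pow_eq_pow_iff_modEq.1 h3
    rw [hwo] at h4
    have h5 := (ZMod.natCast_eq_natCast_iff _ _ _).2 h4
    simpa using h5
  have h3 := lemmaC hk (pow_orderOf_eq_one u) hup he h2
  have h4 : u * x = x * u := by
    have : u * x * u⁻¹ = x := by rw [hk, h3]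
    rw [mul_inv_eq_iff_eq_mul] at this
    exact this
  have h5 : u ∈ centralizer ((zpowers x : Subgroup G) : Set G) := by
    rw [Subgroup.mem_centralizer_iff]
    rintro _ ⟨i, rfl⟩
    exact (((show Commute u x from h4).zpow_right i).eq).symm
  rwa [hzx] at h5

/-- Two elements of `T ∩ C(P)` conjugate by `r` force `r ∈ N`. -/
theorem mem_N_of_conj {z r : G} (hz1 : z ≠ 1) (hzT : z ∈ c.T)
    (hzC : z ∈ centralizer ((c.P : Subgroup G) : Set G)) (hrT : r * z * r⁻¹ ∈ c.T)
    (hrC : r * z * r⁻¹ ∈ centralizer ((c.P : Subgroup G) : Set G)) : r ∈ c.N := by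
  have h1 := c.centralizer_eq hz1 (c.N_le_centralizer hzT hzC)
  have hz2 : r * z * r⁻¹ ≠ 1 := by
    intro h
    apply hz1
    have : z = r⁻¹ * (r * z * r⁻¹) * r := by group
    rw [this, h]; group
  have h2 := c.centralizer_eq hz2 (c.N_le_centralizer hrT hrC)
  apply Subgroup.mem_normalizer_fintype
  intro x hx
  have hxN : x ∈ centralizer ({z} : Set G) := by
    rw [h1]; exact c.P_le_N hx
  rw [Subgroup.mem_centralizer_singleton_iff] at hxN
  have h3 : r * x * r⁻¹ ∈ centralizer ({r * z * r⁻¹} : Set G) := by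
    rw [Subgroup.mem_centralizer_singleton_iff]
    calc r * x * r⁻¹ * (r * z * r⁻¹) = r * (x * z) * r⁻¹ := by group
      _ = r * (z * x) * r⁻¹ := by rw [hxN]
      _ = r * z * r⁻¹ * (r * x * r⁻¹) := by group
  rw [h2] at h3
  obtain ⟨k, hk⟩ := orderOf_of_mem_isPGroup c.P.2 hx
  have h4 : orderOf (r * x * r⁻¹) = p ^ k := by
    rw [← hk, ← MulAut.conj_apply]
    exact MulEquiv.orderOf_eq _ _
  exact mem_sylow_of_normalizer c.P h4 h3

end Ctx

end Cfsg.Agent.H19.Sp
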