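import Cfsg.Agent.Lib.H19.Sp5

/-! Groups with cyclic Sylow `p`-subgroups and abelian `p'`-subgroups: counting (helper19). -/

set_option autoImplicit false
set_option linter.style.haveILetI false

namespace Cfsg.Agent.H19.Sp

open Subgroup
open scoped Pointwise

universe u

variable {G : Type u} [Group G] {p : ℕ}

namespace Ctx

variable [Finite G] [Fact p.Prime] (c : Ctx p G)

/-- The action of a subgroup of `N` on `W`. -/
noncomputable def ψ (X : Subgroup G) (hX : X ≤ c.N) : X →* MulAut c.W :=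
  (normalizerMonoidHom c.W).comp (Subgroup.inclusion (hX.trans (le_of_eq c.W_normalizer.symm)))

theorem ψ_eq_one_iff {X : Subgroup G} (hX : X ≤ c.N) (x : X) :
    c.ψ X hX x = 1 ↔ (x : G) ∈ centralizer (c.W : Set G) := by
  have h1 : c.ψ X hX x = 1 ↔ (Subgroup.inclusion (hX.trans (le_of_eq c.W_normalizer.symm)) x) ∈
      (normalizerMonoidHom c.W).ker := by
    rw [MonoidHom.mem_ker]; rfl
  rw [h1, normalizerMonoidHom_ker, Subgroup.mem_subgroupOf]
  rfl

theorem orderOf_of_mem_not_dvd {X : Subgroup G} (hXp : ¬ p ∣ Nat.card X) {x : G} (hx : x ∈ X) :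
    ¬ p ∣ orderOf x := by
  intro hd
  exact hXp (hd.trans (Subgroup.orderOf_dvd_natCard _ hx))

/-- Two elements of `X`, conjugate by `r ∉ N`, cannot both centralize `W`. -/
theorem eq_one_of_centralize {X : Subgroup G} (hX : X ≤ c.N) (hXp : ¬ p ∣ Nat.card X) {r : G}
    (hrN : r ∉ c.N) (hrX : r ∈ normalizer (X : Set G)) {k : G} (hk : k ∈ X)
    (h1 : k ∈ centralizer (c.W : Set G)) (h2 : r * k * r⁻¹ ∈ centralizer (c.W : Set G)) : k = 1 := by
  by_contra hne
  have hrk : r * k * r⁻¹ ∈ X := (mem_normalizer_iff.1 hrX k).1 hk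
  have h3 := c.commute_P_of_commute_W (hX hk) (orderOf_of_mem_not_dvd hXp hk) h1
  have h4 := c.commute_P_of_commute_W (hX hrk) (orderOf_of_mem_not_dvd hXp hrk) h2
  have h5 := c.mem_T (hX hk) (orderOf_of_mem_not_dvd hXp hk) h3
  have h6 := c.mem_T (hX hrk) (orderOf_of_mem_not_dvd hXp hrk) h4
  exact hrN (c.mem_N_of_conj hne h5 h3 h6 h4)

theorem card_split {X : Subgroup G} (hX : X ≤ c.N) (hXp : ¬ p ∣ Nat.card X) {r : G}
    (hrN : r ∉ c.N) (hrX : r ∈ normalizer (X : Set G)) :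
    ∃ B₁ B₂ : Subgroup (MulAut c.W), Nat.card X = Nat.card B₁ * Nat.card B₂ ∧
      ∀ d : ℕ, (∀ x ∈ X, x ^ d = 1) → (∀ y ∈ B₁, y ^ d = 1) ∧ (∀ y ∈ B₂, y ^ d = 1) := by
  let f := c.ψ X hX
  let K := f.ker
  let ρ : K →* X :=
    { toFun := fun k => ⟨r * k * r⁻¹, (mem_normalizer_iff.1 hrX k).1 k.1.2⟩
      map_one' := Subtype.ext (by simp)
      map_mul' := fun a b => Subtype.ext (by
        show r * (((a : X) : G) * ((b : X) : G)) * r⁻¹ =
          (r * ((a : X) : G) * r⁻¹) * (r * ((b : X) : G) * r⁻¹)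
        group) }
  let f₂ := f.comp ρ
  have hinj : Function.Injective f₂ := by
    rw [injective_iff_map_eq_one]
    intro k hk
    have h1 : f₂ k = f (ρ k) := rfl
    rw [h1] at hk
    have h2 := (c.ψ_eq_one_iff hX _).1 hk
    have h3 : f (k : X) = 1 := k.2
    have h4 := (c.ψ_eq_one_iff hX _).1 h3
    have h5 := c.eq_one_of_centralize hX hXp hrN hrX (k : X).2 h4 h2
    exact Subtype.ext (Subtype.ext h5)
  refine ⟨f.range, f₂.range, ?_, ?_⟩
  · have h1 : Nat.card f₂.range = Nat.card K :=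
      (Nat.card_congr (MonoidHom.ofInjective hinj).toEquiv).symm
    rw [h1, mul_comm, ← Subgroup.index_ker f]
    exact (Subgroup.card_mul_index K).symm
  · intro d hd
    constructor
    · rintro _ ⟨x, rfl⟩
      rw [← map_pow]
      have : x ^ d = 1 := Subtype.ext (hd _ x.2)
      rw [this, map_one]
    · rintro _ ⟨x, rfl⟩
      rw [← map_pow]
      have : (x ^ d : K) = 1 := by
        apply Subtype.ext
        apply Subtype.ext
        exact hd _ (x : X).2
      rw [this, map_one]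

/-- Sylow subgroups through `a`. -/
theorem exists_r {q : ℕ} [Fact q.Prime] {a : G} (ha : orderOf a = q) (haT : a ∈ c.T)
    (haC : a ∈ centralizer ((c.P : Subgroup G) : Set G)) :
    q ≠ p ∧ ∃ Q : Sylow q G, a ∈ (Q : Subgroup G) ∧ (Q : Subgroup G) ≤ c.N ∧
      ∃ r : G, ∃ k : ℕ, orderOf r = p ^ k ∧ r ∈ normalizer ((Q : Subgroup G) : Set G) ∧ r ∉ c.N := by
  have ha1 : a ≠ 1 := by
    rintro rfl
    rw [orderOf_one] at ha
    exact (Fact.out : q.Prime).one_lt.ne ha
  have hqp : q ≠ p := by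
    rintro rfl
    exact c.not_dvd_orderOf_of_mem_T haT (by rw [ha])
  refine ⟨hqp, ?_⟩
  obtain ⟨Q, hQ⟩ := exists_sylow_of_orderOf (k := 1) (x := a) (by rw [ha, pow_one])
  have hN := c.centralizer_eq ha1 (c.N_le_centralizer haT haC)
  have hQp := not_dvd_card_of_sylow hqp Q
  refine ⟨Q, hQ, ?_, ?_⟩
  · intro z hz
    rw [← hN, Subgroup.mem_centralizer_singleton_iff]
    exact c.h.2 _ hQp z hz a hQ
  · obtain ⟨R', hR', hR'N, hbot⟩ := sylow_key c.h c.hcomm hqp Q
    have h1 : a ∉ centralizer (R' : Set G) := by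
      intro h2
      have h3 : a ∈ ((Q : Subgroup G) ⊓ centralizer (R' : Set G) : Subgroup G) := ⟨hQ, h2⟩
      rw [hbot] at h3
      exact ha1 h3
    rw [Subgroup.mem_centralizer_iff] at h1
    push_neg at h1
    obtain ⟨r, hr, hr2⟩ := h1
    obtain ⟨k, hk⟩ := orderOf_of_mem_isPGroup hR' hr
    refine ⟨r, k, hk, hR'N hr, ?_⟩
    intro hrN
    rw [← hN, Subgroup.mem_centralizer_singleton_iff] at hrN
    exact hr2 hrN

/-- Powers of `r` below `p` stay outside of `N`. -/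
theorem pow_notMem {r : G} {k d : ℕ} (hrp : orderOf r = p ^ k) (hrN : r ∉ c.N) (hd0 : 0 < d)
    (hdp : d < p) : r ^ d ∉ c.N := by
  intro h
  apply hrN
  apply mem_of_pow_mem h
  rw [hrp]
  apply Nat.Coprime.pow_right
  rw [Nat.coprime_comm, Nat.Prime.coprime_iff_not_dvd Fact.out]
  exact Nat.not_dvd_of_pos_of_lt hd0 hdp

/-- Injectivity of the conjugate powers. -/
theorem inj_aux {q : ℕ} [Fact q.Prime] {a : G} (ha : orderOf a = q) (haT : a ∈ c.T)
    (haC : a ∈ centralizer ((c.P : Subgroup G) : Set G)) {r : G} {k : ℕ} (hrp : orderOf r = p ^ k)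
    (hrN : r ∉ c.N) {j j' i i' : ℕ} (hjj : j ≤ j') (hj' : j' < p) (hi : i < q) (hi' : i' < q)
    (hi0 : 0 < i') (he : r ^ j * a ^ i * (r ^ j)⁻¹ = r ^ j' * a ^ i' * (r ^ j')⁻¹) :
    j = j' ∧ i = i' := by
  have ha1 : a ≠ 1 := by
    rintro rfl
    rw [orderOf_one] at ha
    exact (Fact.out : q.Prime).one_lt.ne ha
  have hN := c.zpowers_normalizer_eq ha1 (c.N_le_centralizer haT haC)
  have hN2 := c.centralizer_eq ha1 (c.N_le_centralizer haT haC)
  set s := r ^ (j' - j) with hs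
  have hrj : r ^ j' = r ^ j * s := by
    rw [hs, ← pow_add]
    congr 1
    omega
  have h1 : a ^ i = s * a ^ i' * s⁻¹ := by
    rw [hrj] at he
    have h2 : r ^ j * a ^ i * (r ^ j)⁻¹ = r ^ j * (s * a ^ i' * s⁻¹) * (r ^ j)⁻¹ := by
      rw [he]; group
    have h3 := mul_right_cancel h2
    exact mul_left_cancel h3
  have hcop : i'.Coprime (orderOf a) := by
    rw [ha, Nat.coprime_comm, Nat.Prime.coprime_iff_not_dvd Fact.out]
    exact Nat.not_dvd_of_pos_of_lt hi0 hi'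
  obtain ⟨m, hm⟩ := exists_pow_eq_self_of_coprime hcop
  have hsN : s ∈ normalizer ((zpowers a : Subgroup G) : Set G) := by
    apply Subgroup.mem_normalizer_fintype
    rintro _ ⟨n, rfl⟩
    have h2 : a = (a ^ i') ^ m := hm.symm
    have h3 : s * a * s⁻¹ = (a ^ i) ^ m := by
      rw [h1, ← conj_pow, ← hm]
      simp only [conj_pow, hm]
    show s * a ^ n * s⁻¹ ∈ zpowers a
    rw [← conj_zpow, h3]
    exact zpow_mem (pow_mem (pow_mem (mem_zpowers a) i) m) n
  rw [hN] at hsN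
  have hjeq : j = j' := by
    by_contra hne
    exact c.pow_notMem hrp hrN (d := j' - j) (by omega) (by omega) hsN
  refine ⟨hjeq, ?_⟩
  subst hjeq
  have h3 : s = 1 := by rw [hs]; simp
  rw [h3] at h1
  simp only [one_mul, inv_one, mul_one] at h1
  have h4 := pow_eq_pow_iff_modEq.1 h1
  rw [ha] at h4
  exact Nat.ModEq.eq_of_lt_of_lt h4 hi hi'

theorem inj {q : ℕ} [Fact q.Prime] {a : G} (ha : orderOf a = q) (haT : a ∈ c.T)
    (haC : a ∈ centralizer ((c.P : Subgroup G) : Set G)) {r : G} {k : ℕ} (hrp : orderOf r = p ^ k)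
    (hrN : r ∉ c.N) {j j' i i' : ℕ} (hj : j < p) (hj' : j' < p) (hi : i < q) (hi' : i' < q)
    (hi0 : 0 < i) (hi0' : 0 < i') (he : r ^ j * a ^ i * (r ^ j)⁻¹ = r ^ j' * a ^ i' * (r ^ j')⁻¹) :
    j = j' ∧ i = i' := by
  rcases le_total j j' with h | h
  · exact c.inj_aux ha haT haC hrp hrN h hj' hi hi' hi0' he
  · have := c.inj_aux ha haT haC hrp hrN h hj hi' hi hi0 he.symm
    exact ⟨this.1.symm, this.2.symm⟩

end Ctx

end Cfsg.Agent.H19.Sp
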