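import Cfsg.Agent.Lib.H19.Sp6

/-! Groups with cyclic Sylow `p`-subgroups and abelian `p'`-subgroups: `p = 3` (helper19). -/

set_option autoImplicit false
set_option linter.style.haveILetI false

namespace Cfsg.Agent.H19.Sp

open Subgroup
open scoped Pointwise

universe u

variable {G : Type u} [Group G] {p : ℕ}

/-- `Ω₁` of an abelian subgroup. -/
def omega1 (Q : Subgroup G) (hQ : ∀ a ∈ Q, ∀ b ∈ Q, a * b = b * a) (q : ℕ) : Subgroup G where
  carrier := {z | z ∈ Q ∧ z ^ q = 1}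
  one_mem' := ⟨one_mem _, one_pow _⟩
  mul_mem' := by
    rintro a b ⟨ha, ha2⟩ ⟨hb, hb2⟩
    refine ⟨mul_mem ha hb, ?_⟩
    rw [(show Commute a b from hQ a ha b hb).mul_pow, ha2, hb2, one_mul]
  inv_mem' := by
    rintro a ⟨ha, ha2⟩
    exact ⟨inv_mem ha, by rw [inv_pow, ha2, inv_one]⟩

theorem num_facts {p q : ℕ} (hp : p.Prime) (hq : q.Prime) (hd : q ∣ p - 1)
    (h : p * (q - 1) + 1 ≤ q * q) : p = 3 ∧ q = 2 := by
  have hp2 := hp.two_le
  have hq2 := hq.two_le
  have h1 : q ≤ p - 1 := Nat.le_of_dvd (by omega) hd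
  have h2 : p = q + 1 := by
    by_contra hne
    have h3 : q + 2 ≤ p := by omega
    obtain ⟨m, rfl⟩ : ∃ m, q = m + 1 := ⟨q - 1, by omega⟩
    have h4 : m + 1 - 1 = m := by omega
    rw [h4] at h
    have h5 : (m + 1 + 2) * m ≤ p * m := Nat.mul_le_mul_right _ h3
    have hm : 1 ≤ m := by omega
    nlinarith
  have h3 : q = 2 := by
    rcases hq.eq_two_or_odd with h3 | h3
    · exact h3
    · rcases hp.eq_two_or_odd with h4 | h4
      · omega
      · omega
  exact ⟨by omega, h3⟩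

namespace Ctx

variable [Finite G] [Fact p.Prime] (c : Ctx p G)

/-- Elements of prime order in `T ∩ C(P)` exist only for `p = 3`, `q = 2`. -/
theorem prime_facts {q : ℕ} [Fact q.Prime] {a : G} (ha : orderOf a = q) (haT : a ∈ c.T)
    (haC : a ∈ centralizer ((c.P : Subgroup G) : Set G)) : p = 3 ∧ q = 2 := by
  classical
  have ha1 : a ≠ 1 := by
    rintro rfl
    rw [orderOf_one] at ha
    exact (Fact.out : q.Prime).one_lt.ne ha
  obtain ⟨hqp, Q, haQ, hQN, r, k, hrp, hrQ, hrN⟩ := c.exists_r ha haT haC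
  have hQp := not_dvd_card_of_sylow hqp Q
  have hQab := c.h.2 _ hQp
  let E := omega1 (Q : Subgroup G) hQab q
  have hEQ : E ≤ (Q : Subgroup G) := fun x hx => hx.1
  have hEN : E ≤ c.N := hEQ.trans hQN
  have hEp : ¬ p ∣ Nat.card E := fun hd => hQp (hd.trans (Subgroup.card_dvd_of_le hEQ))
  have hrE : r ∈ normalizer (E : Set G) := by
    apply Subgroup.mem_normalizer_fintype
    rintro z ⟨hz1, hz2⟩
    refine ⟨(mem_normalizer_iff.1 hrQ z).1 hz1, ?_⟩
    rw [conj_pow, hz2]; simp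
  obtain ⟨B₁, B₂, hcard, hexp⟩ := c.card_split hEN hEp hrN hrE
  obtain ⟨hcyc, hCcard⟩ := mulAut_facts c.hWc
  haveI := hcyc
  have hqpos : 0 < q := (Fact.out : q.Prime).pos
  have h1 : Nat.card B₁ ∣ q := card_dvd_of_exponent B₁ (hexp q (fun x hx => hx.2)).1
  have h2 : Nat.card B₂ ∣ q := card_dvd_of_exponent B₂ (hexp q (fun x hx => hx.2)).2
  have hE : Nat.card E ≤ q * q := by
    rw [hcard]
    exact Nat.mul_le_mul (Nat.le_of_dvd hqpos h1) (Nat.le_of_dvd hqpos h2)
  have haE : a ∈ E := ⟨haQ, by rw [← ha]; exact pow_orderOf_eq_one a⟩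
  have hgE : ∀ x : Fin p × Fin (q - 1), r ^ x.1.1 * a ^ (x.2.1 + 1) * (r ^ x.1.1)⁻¹ ∈ E := by
    intro x
    exact (mem_normalizer_iff.1 (pow_mem hrE x.1.1) _).1 (pow_mem haE _)
  let f : Option (Fin p × Fin (q - 1)) → E := fun o => o.elim 1 (fun x => ⟨_, hgE x⟩)
  have hne1 : ∀ x : Fin p × Fin (q - 1), r ^ x.1.1 * a ^ (x.2.1 + 1) * (r ^ x.1.1)⁻¹ ≠ 1 := by
    intro x h
    have h3 : a ^ (x.2.1 + 1) = 1 := by
      have h4 : a ^ (x.2.1 + 1) = (r ^ x.1.1)⁻¹ * (r ^ x.1.1 * a ^ (x.2.1 + 1) * (r ^ x.1.1)⁻¹) * r ^ x.1.1 := by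
        group
      rw [h4, h]; group
    have h5 := orderOf_dvd_of_pow_eq_one h3
    rw [ha] at h5
    have h6 := x.2.2
    have := Nat.le_of_dvd (by omega) h5
    omega
  have hf : Function.Injective f := by
    rintro (_ | x) (_ | y) h
    · rfl
    · exact absurd (congrArg Subtype.val h).symm (hne1 y)
    · exact absurd (congrArg Subtype.val h) (hne1 x)
    · have h3 : r ^ x.1.1 * a ^ (x.2.1 + 1) * (r ^ x.1.1)⁻¹ = r ^ y.1.1 * a ^ (y.2.1 + 1) * (r ^ y.1.1)⁻¹ :=
        congrArg Subtype.val h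
      have h4 := x.2.2
      have h5 := y.2.2
      obtain ⟨h6, h7⟩ := c.inj ha haT haC hrp hrN x.1.2 y.1.2 (i := x.2.1 + 1) (i' := y.2.1 + 1)
        (by omega) (by omega) (by omega) (by omega) h3
      have : x = y := Prod.ext (Fin.ext h6) (Fin.ext (by omega))
      rw [this]
  have hcount := Nat.card_le_card_of_injective f hf
  rw [Finite.card_option, Nat.card_prod, Nat.card_eq_fintype_card, Nat.card_eq_fintype_card,
    Fintype.card_fin, Fintype.card_fin] at hcount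
  have hdvd : q ∣ p - 1 := by
    have hmem : r * a * r⁻¹ ∈ E := (mem_normalizer_iff.1 hrE a).1 haE
    let y := c.ψ E hEN ⟨r * a * r⁻¹, hmem⟩
    have hy1 : y ≠ 1 := by
      intro hy
      have h3 := (c.ψ_eq_one_iff hEN _).1 hy
      have h4 : a ∈ centralizer (c.W : Set G) := by
        rw [Subgroup.mem_centralizer_iff]
        intro w hw
        exact mem_centralizer_iff.1 haC w (c.hW hw)
      exact ha1 (c.eq_one_of_centralize hEN hEp hrN hrE haE h4 h3)
    have hyq : y ^ q = 1 := by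
      rw [← map_pow]
      have : (⟨r * a * r⁻¹, hmem⟩ : E) ^ q = 1 := Subtype.ext hmem.2
      rw [this, map_one]
    have h3 := orderOf_eq_prime hyq hy1
    rw [← h3, ← hCcard]
    exact orderOf_dvd_natCard y
  exact num_facts Fact.out Fact.out hdvd (hcount.trans hE)

/-- The subgroup `T ∩ C(P)` is nontrivial. -/
theorem exists_central : ∃ a : G, a ≠ 1 ∧ a ∈ c.T ∧ a ∈ centralizer ((c.P : Subgroup G) : Set G) := by
  by_contra hno
  push_neg at hno
  obtain ⟨hcyc, hCcard⟩ := mulAut_facts c.hWc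
  have hinj : Function.Injective (c.ψ c.T c.hTN) := by
    rw [injective_iff_map_eq_one]
    intro x hx
    have h1 := (c.ψ_eq_one_iff c.hTN _).1 hx
    have h2 := c.commute_P_of_commute_W (c.hTN x.2) (c.not_dvd_orderOf_of_mem_T x.2) h1
    by_contra hne
    exact hno _ (fun h => hne (Subtype.ext h)) x.2 h2
  have h1 : Nat.card c.T ∣ p - 1 := by
    rw [← hCcard]
    exact Subgroup.card_dvd_of_injective _ hinj
  have hp2 := (Fact.out : p.Prime).two_le
  have h2 : Nat.card c.T ≤ p - 1 := Nat.le_of_dvd (by omega) h1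
  have h3 := c.hTcard
  have h4 : ((Nat.card c.T : ℕ) : ZMod p) = ((1 : ℕ) : ZMod p) := by simpa using h3
  have h5 := (ZMod.natCast_eq_natCast_iff' _ _ _).1 h4
  rw [Nat.mod_eq_of_lt (by omega), Nat.mod_eq_of_lt (by omega)] at h5
  apply c.hTc
  intro t ht
  have h6 : (⟨t, ht⟩ : c.T) = 1 := by
    haveI : Subsingleton c.T := (Nat.card_eq_one_iff_unique.1 h5).1
    exact Subsingleton.elim _ _
  have h7 : t = 1 := congrArg Subtype.val h6
  rw [h7]
  exact one_mem _

/-- So `p = 3` and there is an involution in `T ∩ C(P)`. -/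
theorem exists_involution : p = 3 ∧ ∃ a : G, orderOf a = 2 ∧ a ∈ c.T ∧
    a ∈ centralizer ((c.P : Subgroup G) : Set G) := by
  obtain ⟨a, ha1, haT, haC⟩ := c.exists_central
  have hord : orderOf a ≠ 1 := fun h => ha1 (orderOf_eq_one_iff.1 h)
  obtain ⟨q, hq, hqd⟩ := Nat.exists_prime_and_dvd hord
  haveI : Fact q.Prime := ⟨hq⟩
  have h1 := orderOf_pow_orderOf_div (orderOf_pos a).ne' hqd
  have h2 := c.prime_facts h1 (pow_mem haT _) (pow_mem haC _)
  refine ⟨h2.1, a ^ (orderOf a / q), ?_, pow_mem haT _, pow_mem haC _⟩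
  rw [h1, h2.2]

end Ctx

end Cfsg.Agent.H19.Sp
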