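import Cfsg.Agent.Lib.H19.Sp7
import Cfsg.Agent.Lib.H19.Sp3

/-! Groups with cyclic Sylow `p`-subgroups and abelian `p'`-subgroups: the friendship graph (helper19). -/

set_option autoImplicit false
set_option linter.style.haveILetI false

namespace Cfsg.Agent.H19.Sp

open Subgroup
open scoped Pointwise

universe u

variable {G : Type u} [Group G] {p : ℕ}

theorem four [Finite G] {S : Subgroup G} (hS : Nat.card S = 4) {w x y z : G} (hw : w ∈ S) (hx : x ∈ S)
    (hy : y ∈ S) (hz : z ∈ S) (h1 : w ≠ x) (h2 : w ≠ y) (h3 : w ≠ z) (h4 : x ≠ y) (h5 : x ≠ z)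
    (h6 : y ≠ z) : ∀ u ∈ S, u = w ∨ u = x ∨ u = y ∨ u = z := by
  classical
  intro u hu
  by_contra hne
  push_neg at hne
  obtain ⟨h7, h8, h9, h10⟩ := hne
  haveI : Fintype S := Fintype.ofFinite _
  let A : Finset S := {⟨u, hu⟩, ⟨w, hw⟩, ⟨x, hx⟩, ⟨y, hy⟩, ⟨z, hz⟩}
  have hA : A.card = 5 := by
    simp only [A]
    rw [Finset.card_insert_of_notMem (by simp [h7, h8, h9, h10]),
      Finset.card_insert_of_notMem (by simp [h1, h2, h3]),
      Finset.card_insert_of_notMem (by simp [h4, h5]),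
      Finset.card_insert_of_notMem (by simp [h6]), Finset.card_singleton]
  have h11 := Finset.card_le_univ A
  rw [hA, ← Nat.card_eq_fintype_card, hS] at h11
  omega

/-- The common neighbour predicate. -/
def CN (s t v : G) : Prop := v * v = 1 ∧ v ≠ 1 ∧ v ≠ s ∧ v ≠ t ∧ v * s = s * v ∧ v * t = t * v

theorem orderOf_of_mul_self {v : G} (hv : v * v = 1) (hv1 : v ≠ 1) : orderOf v = 2 :=
  orderOf_eq_prime (by rw [pow_two, hv]) hv1

theorem inv_eq_of_mul_self {v : G} (hv : v * v = 1) : v⁻¹ = v := inv_eq_of_mul_eq_one_left hv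

/-- Commuting involutions have a unique common neighbour. -/
theorem cn_commuting [Finite G] (hB : ∀ S : Sylow 2 G, Nat.card (S : Subgroup G) = 4) {s t : G}
    (hs : s * s = 1) (hs1 : s ≠ 1) (ht : t * t = 1) (ht1 : t ≠ 1) (hne : s ≠ t)
    (hcm : s * t = t * s) : ∃! v, CN s t v := by
  have hss : s⁻¹ = s := inv_eq_of_mul_self hs
  have hst1 : s * t ≠ 1 := by
    intro h
    apply hne
    have : s = t⁻¹ := eq_inv_of_mul_eq_one_left h
    rw [this, inv_eq_of_mul_self ht]
  have hst2 : s * t ≠ s := fun h => ht1 (mul_eq_left.1 h)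
  have hst3 : s * t ≠ t := fun h => hs1 (mul_eq_right.1 h)
  have hstst : s * t * (s * t) = 1 := by
    calc s * t * (s * t) = s * (t * s) * t := by group
      _ = s * (s * t) * t := by rw [hcm]
      _ = (s * s) * (t * t) := by group
      _ = 1 := by rw [hs, ht, one_mul]
  refine ⟨s * t, ⟨hstst, hst1, hst2, hst3, ?_, ?_⟩, ?_⟩
  · calc s * t * s = t * s * s := by rw [hcm]
      _ = t := by rw [mul_assoc, hs, mul_one]
      _ = s * (s * t) := by rw [← mul_assoc, hs, one_mul]
  · calc s * t * t = s := by rw [mul_assoc, ht, mul_one]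
      _ = t * (s * t) := by rw [hcm, ← mul_assoc, ht, one_mul]
  · rintro v ⟨hv, hv1, hvs, hvt, hcs, hct⟩
    have h2s : IsPGroup 2 (zpowers s) := isPGroup_zpowers_of_orderOf (k := 1)
      (by rw [orderOf_of_mul_self hs hs1, pow_one])
    have h2t : IsPGroup 2 (zpowers t) := isPGroup_zpowers_of_orderOf (k := 1)
      (by rw [orderOf_of_mul_self ht ht1, pow_one])
    have hnorm : zpowers s ≤ normalizer ((zpowers t : Subgroup G) : Set G) := by
      rw [Subgroup.zpowers_le]
      apply Subgroup.mem_normalizer_fintype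
      rintro _ ⟨i, rfl⟩
      refine ⟨i, ?_⟩
      show t ^ i = s * t ^ i * s⁻¹
      have : Commute s t := hcm
      rw [(this.zpow_right i).eq]
      group
    have hD : IsPGroup 2 ((zpowers s) ⊔ (zpowers t) : Subgroup G) := h2s.to_sup_of_normal_right' h2t hnorm
    obtain ⟨S, hS⟩ := hD.exists_le_sylow
    have hsS : s ∈ (S : Subgroup G) := hS (mem_sup_left (mem_zpowers s))
    have htS : t ∈ (S : Subgroup G) := hS (mem_sup_right (mem_zpowers t))
    have hall := four (hB S) (one_mem _) hsS htS (mul_mem hsS htS) hs1.symm ht1.symm hst1.symm hne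
      hst2.symm hst3.symm
    have hvS : v ∈ (S : Subgroup G) := by
      apply mem_sylow_of_normalizer S (k := 1) (by rw [orderOf_of_mul_self hv hv1, pow_one])
      apply Subgroup.mem_normalizer_fintype
      intro x hx
      have hcx : v * x = x * v := by
        rcases hall x hx with rfl | rfl | rfl | rfl
        · simp
        · exact hcs
        · exact hct
        · rw [← mul_assoc, hcs, mul_assoc, hct, mul_assoc]
      rw [hcx]
      simpa using hx
    rcases hall v hvS with h | h | h | h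
    · exact absurd h hv1
    · exact absurd h hvs
    · exact absurd h hvt
    · exact h

namespace Ctx

variable [Finite G] [Fact p.Prime] (c : Ctx p G)

/-- Non-commuting involutions have a unique common neighbour. -/
theorem cn_noncomm (hp3 : p = 3) {a : G} (ha : a * a = 1) (ha1 : a ≠ 1) (haT : a ∈ c.T)
    (haC : a ∈ centralizer ((c.P : Subgroup G) : Set G))
    (hC : ∀ v ∈ c.N, v * v = 1 → v ≠ 1 → v ∈ centralizer ((c.P : Subgroup G) : Set G) → v = a)
    {s t : G} (hs : s * s = 1) (ht : t * t = 1) (hst : s * t ≠ t * s) : ∃! v, CN s t v := by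
  have hNa := c.centralizer_eq ha1 (c.N_le_centralizer haT haC)
  have hss : s⁻¹ = s := inv_eq_of_mul_self hs
  have htt : t⁻¹ = t := inv_eq_of_mul_self ht
  have hs1 : s ≠ 1 := by
    rintro rfl
    exact hst (by simp)
  have ht1 : t ≠ 1 := by
    rintro rfl
    exact hst (by simp)
  set w := s * t with hw
  have hwinv : w⁻¹ = t * s := by
    rw [hw, mul_inv_rev, hss, htt]
  have hsw : s * w * s⁻¹ = w⁻¹ := by
    rw [hss, hwinv, hw, ← mul_assoc, hs, one_mul]
  have htw : t * w * t⁻¹ = w⁻¹ := by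
    rw [htt, hwinv, hw, mul_assoc, mul_assoc, ht, mul_one]
  have hinv : ∀ z : G, z * w * z⁻¹ = w⁻¹ → ∀ x ∈ zpowers w, z * x * z⁻¹ = x⁻¹ := by
    rintro z hz _ ⟨i, rfl⟩
    show z * w ^ i * z⁻¹ = (w ^ i)⁻¹
    rw [← conj_zpow, hz, inv_zpow]
  obtain ⟨y, u, hwy, hcm, ⟨k, hk⟩, hu, hy', hu'⟩ := exists_primary_decomp p w
  have hu2 : u * u = 1 := by
    have hnorm : zpowers s ≤ normalizer ((zpowers u : Subgroup G) : Set G) := by
      rw [Subgroup.zpowers_le]
      apply Subgroup.mem_normalizer_fintype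
      intro x hx
      have hx' : x ∈ zpowers w := (Subgroup.zpowers_le.2 hu') hx
      rw [hinv s hsw x hx']
      exact inv_mem hx
    have hX : ¬ p ∣ Nat.card (zpowers u) := by
      rw [Nat.card_zpowers]
      intro hd
      exact (Nat.Prime.coprime_iff_not_dvd Fact.out).1 hu.symm hd
    have hY : ¬ p ∣ Nat.card (zpowers s) := by
      rw [Nat.card_zpowers, orderOf_of_mul_self hs hs1, hp3]
      omega
    have h1 := c.h.comm_of_normalizes hX hY hnorm u (mem_zpowers u) s (mem_zpowers s)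
    have h2 := hinv s hsw u hu'
    have h3 : s * u * s⁻¹ = u := by
      rw [← h1]; group
    rw [h3] at h2
    have h4 : u * u = u⁻¹ * u := by
      nth_rewrite 1 [h2]
      rfl
    rw [h4]; group
  have hy1 : y ≠ 1 := by
    intro hy
    rw [hy, one_mul] at hwy
    apply hst
    have h1 : w * w = 1 := by rw [hwy, hu2]
    have h2 : w = w⁻¹ := eq_inv_of_mul_eq_one_left h1
    rw [hwinv] at h2
    exact h2
  obtain ⟨S, hyS⟩ := exists_sylow_of_orderOf hk
  obtain ⟨g, hg⟩ := MulAction.exists_smul_eq G c.P S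
  have hy'P : g⁻¹ * y * g ∈ (c.P : Subgroup G) := by
    rw [← hg, Sylow.coe_subgroup_smul] at hyS
    exact H01.mem_conj_smul_iff.1 hyS
  set y₀ := g⁻¹ * y * g with hy₀
  have hy₀1 : y₀ ≠ 1 := by
    intro h
    apply hy1
    have : y = g * y₀ * g⁻¹ := by rw [hy₀]; group
    rw [this, h]; group
  have hXP : zpowers y₀ ≤ (c.P : Subgroup G) := by
    rw [Subgroup.zpowers_le]; exact hy'P
  have hXne : zpowers y₀ ≠ ⊥ := fun h => hy₀1 (Subgroup.zpowers_eq_bot.1 h)
  have hXN := c.normalizer_eq hXP hXne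
  have key : ∀ z : G, z * w * z⁻¹ = w⁻¹ → (g⁻¹ * z * g) * a = a * (g⁻¹ * z * g) := by
    intro z hz
    have h1 : g⁻¹ * z * g ∈ c.N := by
      rw [← hXN]
      apply Subgroup.mem_normalizer_fintype
      rintro _ ⟨i, rfl⟩
      have h2 : (g⁻¹ * z * g) * y₀ * (g⁻¹ * z * g)⁻¹ = y₀⁻¹ := by
        have h3 := hinv z hz y hy'
        calc (g⁻¹ * z * g) * y₀ * (g⁻¹ * z * g)⁻¹ = g⁻¹ * (z * y * z⁻¹) * g := by rw [hy₀]; group
          _ = y₀⁻¹ := by rw [h3, hy₀]; group
      show (g⁻¹ * z * g) * y₀ ^ i * (g⁻¹ * z * g)⁻¹ ∈ zpowers y₀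
      rw [← conj_zpow, h2]
      exact zpow_mem (inv_mem (mem_zpowers y₀)) i
    rw [← hNa, Subgroup.mem_centralizer_singleton_iff] at h1
    exact h1
  have hks := key s hsw
  have hkt := key t htw
  set c₀ := g * a * g⁻¹ with hc₀
  have hc₀1 : c₀ ≠ 1 := by
    intro h
    apply ha1
    have : a = g⁻¹ * c₀ * g := by rw [hc₀]; group
    rw [this, h]; group
  have hc₀s : c₀ * s = s * c₀ := by
    calc c₀ * s = g * (a * (g⁻¹ * s * g)) * g⁻¹ := by rw [hc₀]; group
      _ = g * ((g⁻¹ * s * g) * a) * g⁻¹ := by rw [hks]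
      _ = s * c₀ := by rw [hc₀]; group
  have hc₀t : c₀ * t = t * c₀ := by
    calc c₀ * t = g * (a * (g⁻¹ * t * g)) * g⁻¹ := by rw [hc₀]; group
      _ = g * ((g⁻¹ * t * g) * a) * g⁻¹ := by rw [hkt]
      _ = t * c₀ := by rw [hc₀]; group
  have hc₀2 : c₀ * c₀ = 1 := by
    calc c₀ * c₀ = g * (a * a) * g⁻¹ := by rw [hc₀]; group
      _ = 1 := by rw [ha]; group
  refine ⟨c₀, ⟨hc₀2, hc₀1, ?_, ?_, hc₀s, hc₀t⟩, ?_⟩
  · intro h
    rw [h] at hc₀t
    exact hst hc₀t
  · intro h
    rw [h] at hc₀s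
    exact hst hc₀s.symm
  · rintro v ⟨hv, hv1, hvs, hvt, hcs, hct⟩
    have hvw : Commute v w := by
      rw [hw]
      exact (show Commute v s from hcs).mul_right hct
    have hvy : v * y = y * v := by
      obtain ⟨i, hi⟩ := hy'
      rw [← hi]
      exact (hvw.zpow_right i).eq
    set v₀ := g⁻¹ * v * g with hv₀
    have hv₀y : v₀ * y₀ = y₀ * v₀ := by
      calc v₀ * y₀ = g⁻¹ * (v * y) * g := by rw [hv₀, hy₀]; group
        _ = g⁻¹ * (y * v) * g := by rw [hvy]
        _ = y₀ * v₀ := by rw [hv₀, hy₀]; group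
    have hv₀X : v₀ ∈ centralizer ((zpowers y₀ : Subgroup G) : Set G) := by
      rw [Subgroup.mem_centralizer_iff]
      rintro _ ⟨i, rfl⟩
      exact (((show Commute v₀ y₀ from hv₀y).zpow_right i).eq).symm
    have hv₀N : v₀ ∈ c.N := by
      rw [← hXN]
      exact Subgroup.centralizer_le_normalizer _ hv₀X
    have hWX : c.W ≤ zpowers y₀ := by
      have hsup : c.W ⊔ zpowers y₀ ≤ (c.P : Subgroup G) := sup_le c.hW hXP
      have hp' : IsPGroup p (c.W ⊔ zpowers y₀ : Subgroup G) := c.P.2.to_le hsup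
      rcases le_or_le_of_cyclic (c.h.1 _ hp') hp' with h | h
      · exact h
      · have h1 : Nat.card (zpowers y₀) ∣ p := by
          rw [← c.hWc]; exact Subgroup.card_dvd_of_le h
        rcases (Nat.dvd_prime Fact.out).1 h1 with h2 | h2
        · exact absurd (Subgroup.card_eq_one.1 h2) hXne
        · have h3 : zpowers y₀ = c.W := by
            apply Subgroup.eq_of_le_of_card_ge h
            rw [h2, c.hWc]
          rw [h3]
    have hv₀W : v₀ ∈ centralizer (c.W : Set G) := by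
      rw [Subgroup.mem_centralizer_iff]
      intro z hz
      exact Subgroup.mem_centralizer_iff.1 hv₀X z (hWX hz)
    have hv₀2 : v₀ * v₀ = 1 := by
      calc v₀ * v₀ = g⁻¹ * (v * v) * g := by rw [hv₀]; group
        _ = 1 := by rw [hv]; group
    have hv₀1 : v₀ ≠ 1 := by
      intro h
      apply hv1
      have : v = g * v₀ * g⁻¹ := by rw [hv₀]; group
      rw [this, h]; group
    have hv₀p : ¬ p ∣ orderOf v₀ := by
      rw [orderOf_of_mul_self hv₀2 hv₀1, hp3]
      omega
    have h5 := c.commute_P_of_commute_W hv₀N hv₀p hv₀W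
    have h6 := hC v₀ hv₀N hv₀2 hv₀1 h5
    have : v = g * v₀ * g⁻¹ := by rw [hv₀]; group
    rw [this, h6]

end Ctx

end Cfsg.Agent.H19.Sp
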