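import Cfsg.Agent.Lib.H19.Sp8

/-! Groups with cyclic Sylow `p`-subgroups and abelian `p'`-subgroups: conclusion (helper19). -/

set_option autoImplicit false
set_option linter.style.haveILetI false

namespace Cfsg.Agent.H19.Sp

open Subgroup
open scoped Pointwise

universe u

variable {G : Type u} [Group G] {p : ℕ}

namespace Ctx

variable [Finite G] [Fact p.Prime] (c : Ctx p G)

theorem inv_facts : p = 3 ∧ ∃ a : G, a * a = 1 ∧ a ≠ 1 ∧ a ∈ c.T ∧
    a ∈ centralizer ((c.P : Subgroup G) : Set G) ∧
    (∀ v : G, v * v = 1 → v ≠ 1 → ∃ g : G, v = g * a * g⁻¹) ∧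
    (∀ S : Sylow 2 G, Nat.card (S : Subgroup G) = 4) ∧
    (∀ v ∈ c.N, v * v = 1 → v ≠ 1 → v ∈ centralizer ((c.P : Subgroup G) : Set G) → v = a) ∧
    ∃ b : G, b * b = 1 ∧ b ≠ 1 ∧ b ≠ a ∧ b ∈ c.N ∧ b ∉ centralizer ((c.P : Subgroup G) : Set G) := by
  obtain ⟨hp3, a, hao, haT, haC⟩ := c.exists_involution
  refine ⟨hp3, ?_⟩
  have ha : a * a = 1 := by rw [← pow_two, ← hao]; exact pow_orderOf_eq_one a
  have ha1 : a ≠ 1 := by
    rintro rfl
    rw [orderOf_one] at hao
    omega
  obtain ⟨h2p, Q, haQ, hQN, r, k, hrp, hrQ, hrN⟩ := c.exists_r hao haT haC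
  have hQp := not_dvd_card_of_sylow h2p Q
  have hQab := c.h.2 _ hQp
  obtain ⟨B₁, B₂, hcard, -⟩ := c.card_split hQN hQp hrN hrQ
  obtain ⟨hcyc, hCcard⟩ := mulAut_facts c.hWc
  have hp1 : p - 1 = 2 := by omega
  have h1 : Nat.card B₁ ∣ 2 := by
    have := Subgroup.card_subgroup_dvd_card B₁
    rwa [hCcard, hp1] at this
  have h2 : Nat.card B₂ ∣ 2 := by
    have := Subgroup.card_subgroup_dvd_card B₂
    rwa [hCcard, hp1] at this
  have hQle : Nat.card (Q : Subgroup G) ≤ 4 := by
    rw [hcard]
    exact Nat.mul_le_mul (Nat.le_of_dvd (by omega) h1) (Nat.le_of_dvd (by omega) h2)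
  set b := r * a * r⁻¹ with hb
  set b' := r ^ 2 * a * (r ^ 2)⁻¹ with hb'
  have hbQ : b ∈ (Q : Subgroup G) := (mem_normalizer_iff.1 hrQ a).1 haQ
  have hb'Q : b' ∈ (Q : Subgroup G) := (mem_normalizer_iff.1 (pow_mem hrQ 2) a).1 haQ
  have hconj1 : ∀ g : G, g * a * g⁻¹ ≠ 1 := by
    intro g h
    apply ha1
    have : a = g⁻¹ * (g * a * g⁻¹) * g := by group
    rw [this, h]; group
  have hb1 : b ≠ 1 := hconj1 r
  have hb'1 : b' ≠ 1 := hconj1 (r ^ 2)
  have hinj := fun (j j' : ℕ) (hj : j < 3) (hj' : j' < 3) (he : r ^ j * a ^ 1 * (r ^ j)⁻¹ = r ^ j' * a ^ 1 * (r ^ j')⁻¹) =>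
    (c.inj hao haT haC hrp hrN (hp3 ▸ hj) (hp3 ▸ hj') (i := 1) (i' := 1) (by omega) (by omega)
      (by omega) (by omega) he).1
  have hab : a ≠ b := by
    intro h
    have := hinj 0 1 (by omega) (by omega) (by simpa using h)
    omega
  have hab' : a ≠ b' := by
    intro h
    have := hinj 0 2 (by omega) (by omega) (by simpa using h)
    omega
  have hbb' : b ≠ b' := by
    intro h
    have := hinj 1 2 (by omega) (by omega) (by simpa using h)
    omega
  have hfour4 : 4 ≤ Nat.card (Q : Subgroup G) := by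
    classical
    haveI : Fintype (Q : Subgroup G) := Fintype.ofFinite _
    let A : Finset (Q : Subgroup G) := {⟨1, one_mem _⟩, ⟨a, haQ⟩, ⟨b, hbQ⟩, ⟨b', hb'Q⟩}
    have hA : A.card = 4 := by
      simp only [A]
      rw [Finset.card_insert_of_notMem (by simp [ha1.symm, hb1.symm, hb'1.symm]),
        Finset.card_insert_of_notMem (by simp [hab, hab']),
        Finset.card_insert_of_notMem (by simp [hbb']), Finset.card_singleton]
    have h11 := Finset.card_le_univ A
    rw [hA, ← Nat.card_eq_fintype_card] at h11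
    exact h11
  have hQ4 : Nat.card (Q : Subgroup G) = 4 := le_antisymm hQle hfour4
  have hall := four hQ4 (one_mem _) haQ hbQ hb'Q ha1.symm hb1.symm hb'1.symm hab hab' hbb'
  have hQnot : ∀ g : G, g ∉ c.N → g * a * g⁻¹ ∉ c.T ∨ g * a * g⁻¹ ∉
      centralizer ((c.P : Subgroup G) : Set G) := by
    intro g hg
    by_contra hcon
    push_neg at hcon
    exact hg (c.mem_N_of_conj ha1 haT haC hcon.1 hcon.2)
  have hr2N : r ^ 2 ∉ c.N := c.pow_notMem hrp hrN (by omega) (by omega)
  have hinvN : ∀ v ∈ c.N, v * v = 1 → v ≠ 1 → v ∈ centralizer ((c.P : Subgroup G) : Set G) → v = a := by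
    intro v hvN hv hv1 hvC
    have hvo := orderOf_of_mul_self hv hv1
    have hvp : ¬ p ∣ orderOf v := by
      rw [hvo, hp3]; omega
    have hvT := c.mem_T hvN hvp hvC
    have hvc := c.N_le_centralizer hvT hvC
    have hvQ : v ∈ (Q : Subgroup G) := by
      apply mem_sylow_of_normalizer Q (k := 1) (by rw [hvo, pow_one])
      apply Subgroup.mem_normalizer_fintype
      intro x hx
      have h3 := hvc (hQN hx)
      rw [Subgroup.mem_centralizer_singleton_iff] at h3
      rw [← h3]
      simpa using hx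
    rcases hall v hvQ with h | h | h | h
    · exact absurd h hv1
    · exact h
    · rw [h] at hvT hvC
      rcases hQnot r hrN with h4 | h4
      · exact absurd hvT h4
      · exact absurd hvC h4
    · rw [h] at hvT hvC
      rcases hQnot (r ^ 2) hr2N with h4 | h4
      · exact absurd hvT h4
      · exact absurd hvC h4
  refine ⟨a, ha, ha1, haT, haC, ?_, ?_, hinvN, b, ?_, hb1, hab.symm, hQN hbQ, ?_⟩
  · intro v hv hv1
    have hvo := orderOf_of_mul_self hv hv1
    obtain ⟨S, hS⟩ := exists_sylow_of_orderOf (k := 1) (x := v) (by rw [hvo, pow_one])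
    obtain ⟨g, hg⟩ := MulAction.exists_smul_eq G Q S
    rw [← hg, Sylow.coe_subgroup_smul] at hS
    have hv' := H01.mem_conj_smul_iff.1 hS
    have hconj : v = g * (g⁻¹ * v * g) * g⁻¹ := by group
    rcases hall _ hv' with h | h | h | h
    · exfalso
      apply hv1
      rw [hconj, h]; group
    · exact ⟨g, by rw [hconj, h]⟩
    · refine ⟨g * r, ?_⟩
      rw [hconj, h, hb]; group
    · refine ⟨g * r ^ 2, ?_⟩
      rw [hconj, h, hb']; group
  · intro S
    rw [Sylow.card_eq_multiplicity, ← Sylow.card_eq_multiplicity Q]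
    exact hQ4
  · rw [hb]
    calc r * a * r⁻¹ * (r * a * r⁻¹) = r * (a * a) * r⁻¹ := by group
      _ = 1 := by rw [ha]; group
  · intro hbC
    have hbb : b * b = 1 := by
      rw [hb]
      calc r * a * r⁻¹ * (r * a * r⁻¹) = r * (a * a) * r⁻¹ := by group
        _ = 1 := by rw [ha]; group
    exact hab (hinvN b (hQN hbQ) hbb hb1 hbC).symm

include c in
theorem false_of_ctx : False := by
  classical
  obtain ⟨hp3, a, ha, ha1, haT, haC, hA, hB, hC, b, hb, hb1, hba, hbN, hbC⟩ := c.inv_facts
  have hNa := c.centralizer_eq ha1 (c.N_le_centralizer haT haC)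
  have hcomN : ∀ n ∈ c.N, n * a = a * n := by
    intro n hn
    have := c.N_le_centralizer haT haC hn
    exact Subgroup.mem_centralizer_singleton_iff.1 this
  let Ω := {v : G // v * v = 1 ∧ v ≠ 1}
  haveI : Fintype Ω := Fintype.ofFinite _
  let Adj : Ω → Ω → Prop := fun i j => i ≠ j ∧ i.1 * j.1 = j.1 * i.1
  let a₀ : Ω := ⟨a, ha, ha1⟩
  have hsymm : ∀ i j, Adj i j → Adj j i := fun i j h => ⟨h.1.symm, h.2.symm⟩
  have hirr : ∀ i, ¬ Adj i i := fun i h => h.1 rfl
  have hconj : ∀ g v : G, v * v = 1 → v ≠ 1 → (g * v * g⁻¹) * (g * v * g⁻¹) = 1 ∧ g * v * g⁻¹ ≠ 1 := by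
    intro g v hv hv1
    constructor
    · calc (g * v * g⁻¹) * (g * v * g⁻¹) = g * (v * v) * g⁻¹ := by group
        _ = 1 := by rw [hv]; group
    · intro h
      apply hv1
      have : v = g⁻¹ * (g * v * g⁻¹) * g := by group
      rw [this, h]; group
  have hdeg : ∀ i, (Finset.univ.filter (Adj i)).card = (Finset.univ.filter (Adj a₀)).card := by
    intro i
    obtain ⟨g, hg⟩ := hA i.1 i.2.1 i.2.2
    let e : Ω → Ω := fun v => ⟨g * v.1 * g⁻¹, hconj g v.1 v.2.1 v.2.2⟩
    have he : Function.Bijective e := by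
      constructor
      · intro x y hxy
        have h1 : g * x.1 * g⁻¹ = g * y.1 * g⁻¹ := congrArg Subtype.val hxy
        apply Subtype.ext
        have h2 := mul_right_cancel h1
        exact mul_left_cancel h2
      · intro y
        have h3 := hconj g⁻¹ y.1 y.2.1 y.2.2
        refine ⟨⟨g⁻¹ * y.1 * g⁻¹⁻¹, h3⟩, Subtype.ext ?_⟩
        show g * (g⁻¹ * y.1 * g⁻¹⁻¹) * g⁻¹ = y.1
        group
    have hia : e a₀ = i := Subtype.ext hg.symm
    symm
    apply Finset.card_bijective e he
    intro v
    rw [Finset.mem_filter, Finset.mem_filter, ← hia]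
    simp only [Finset.mem_univ, true_and]
    constructor
    · rintro ⟨h1, h2⟩
      refine ⟨fun h3 => h1 (he.1 h3), ?_⟩
      show (g * a * g⁻¹) * (g * v.1 * g⁻¹) = (g * v.1 * g⁻¹) * (g * a * g⁻¹)
      calc (g * a * g⁻¹) * (g * v.1 * g⁻¹) = g * (a * v.1) * g⁻¹ := by group
        _ = g * (v.1 * a) * g⁻¹ := by rw [show a * v.1 = v.1 * a from h2]
        _ = (g * v.1 * g⁻¹) * (g * a * g⁻¹) := by group
    · rintro ⟨h1, h2⟩
      refine ⟨fun h3 => h1 (by rw [h3]), ?_⟩
      have h3 : (g * a * g⁻¹) * (g * v.1 * g⁻¹) = (g * v.1 * g⁻¹) * (g * a * g⁻¹) := h2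
      have h4 : g * (a * v.1) * g⁻¹ = g * (v.1 * a) * g⁻¹ := by
        calc g * (a * v.1) * g⁻¹ = (g * a * g⁻¹) * (g * v.1 * g⁻¹) := by group
          _ = (g * v.1 * g⁻¹) * (g * a * g⁻¹) := h3
          _ = g * (v.1 * a) * g⁻¹ := by group
      have h5 := mul_right_cancel h4
      exact mul_left_cancel h5
  have hk : 3 ≤ (Finset.univ.filter (Adj a₀)).card := by
    obtain ⟨x, hx, hxb⟩ : ∃ x ∈ (c.P : Subgroup G), x * b ≠ b * x := by
      rw [Subgroup.mem_centralizer_iff] at hbC
      push_neg at hbC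
      obtain ⟨x, hx, hxb⟩ := hbC
      exact ⟨x, hx, hxb⟩
    have hab : b * a = a * b := hcomN b hbN
    have hab2 : (a * b) * (a * b) = 1 := by
      calc (a * b) * (a * b) = a * (b * a) * b := by group
        _ = a * (a * b) * b := by rw [hab]
        _ = (a * a) * (b * b) := by group
        _ = 1 := by rw [ha, hb, one_mul]
    have hab1 : a * b ≠ 1 := by
      intro h
      apply hba
      have h1 : b = a⁻¹ := eq_inv_of_mul_eq_one_right h
      rw [h1, inv_eq_of_mul_self ha]
    obtain ⟨hb₂2, hb₂1⟩ := hconj x b hb hb1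
    have hxN : x ∈ c.N := c.P_le_N hx
    have hb₂N : x * b * x⁻¹ ∈ c.N := mul_mem (mul_mem hxN hbN) (inv_mem hxN)
    let i₁ : Ω := ⟨b, hb, hb1⟩
    let i₂ : Ω := ⟨a * b, hab2, hab1⟩
    let i₃ : Ω := ⟨x * b * x⁻¹, hb₂2, hb₂1⟩
    have hP3 : a ∉ (c.P : Subgroup G) := by
      intro haP
      apply ha1
      apply eq_one_of_pow c.P.2 haP (o := 2) (by rw [pow_two, ha])
      rw [hp3]; omega
    have hne12 : i₁ ≠ i₂ := by
      intro h
      have h1 : b = a * b := congrArg Subtype.val h
      exact ha1 (by simpa using h1.symm)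
    have hne13 : i₁ ≠ i₃ := by
      intro h
      have h1 : b = x * b * x⁻¹ := congrArg Subtype.val h
      apply hxb
      rw [eq_mul_inv_iff_mul_eq] at h1
      exact h1.symm
    have hne23 : i₂ ≠ i₃ := by
      intro h
      have h1 : a * b = x * b * x⁻¹ := congrArg Subtype.val h
      apply hP3
      have h2 : a = x * (b * x⁻¹ * b⁻¹) := by
        have : a = a * b * b⁻¹ := by group
        rw [this, h1]; group
      rw [h2]
      exact mul_mem hx (c.conj_mem_P hbN (inv_mem hx))
    have h12 : 2 < (Finset.univ.filter (Adj a₀)).card := by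
      rw [Finset.two_lt_card_iff]
      refine ⟨i₁, i₂, i₃, ?_, ?_, ?_, hne12, hne13, hne23⟩
      · rw [Finset.mem_filter]
        refine ⟨Finset.mem_univ _, fun h => hba (congrArg Subtype.val h).symm, (hcomN b hbN).symm⟩
      · rw [Finset.mem_filter]
        refine ⟨Finset.mem_univ _, fun h => hb1 ?_, ?_⟩
        · have h1 : a = a * b := congrArg Subtype.val h
          simpa using h1.symm
        · show a * (a * b) = a * b * a
          rw [mul_assoc a b a, hab]
      · rw [Finset.mem_filter]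
        refine ⟨Finset.mem_univ _, fun h => hba ?_, (hcomN _ hb₂N).symm⟩
        have h1 : a = x * b * x⁻¹ := congrArg Subtype.val h
        have h2 : b = x⁻¹ * a * x := by rw [h1]; group
        rw [h2, hcomN x⁻¹ (inv_mem hxN)]
        group
    exact h12
  have hfr : ∀ i j, i ≠ j → (Finset.univ.filter (fun v => Adj i v ∧ Adj v j)).card = 1 := by
    intro i j hij
    have hij' : i.1 ≠ j.1 := fun h => hij (Subtype.ext h)
    have hex : ∃! v, CN i.1 j.1 v := by
      by_cases hcm : i.1 * j.1 = j.1 * i.1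
      · exact cn_commuting hB i.2.1 i.2.2 j.2.1 j.2.2 hij' hcm
      · exact c.cn_noncomm hp3 ha ha1 haT haC hC i.2.1 j.2.1 hcm
    obtain ⟨v, hv, huniq⟩ := hex
    rw [Finset.card_eq_one]
    refine ⟨⟨v, hv.1, hv.2.1⟩, ?_⟩
    ext w
    rw [Finset.mem_filter, Finset.mem_singleton]
    simp only [Finset.mem_univ, true_and]
    constructor
    · rintro ⟨⟨h1, h2⟩, h3, h4⟩
      apply Subtype.ext
      apply huniq
      exact ⟨w.2.1, w.2.2, fun h => h1 (Subtype.ext h.symm), fun h => h3 (Subtype.ext h), h2.symm, h4⟩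
    · rintro rfl
      obtain ⟨_, _, h3, h4, h5, h6⟩ := hv
      exact ⟨⟨fun h => h3 (congrArg Subtype.val h).symm, h5.symm⟩, fun h => h4 (congrArg Subtype.val h),
        h6⟩
  exact no_friend a₀ Adj hsymm hirr _ hk hdeg hfr

end Ctx

/-- The simple case. -/
theorem simple_case [Finite G] [Fact p.Prime] (h : Hyp p G)
    (hsimple : ∀ X : Subgroup G, X.Normal → X = ⊥ ∨ X = ⊤)
    (ih : ∀ M : Subgroup G, M ≠ ⊤ → Conc p M) : Conc p G := by
  by_contra hconc
  obtain ⟨P⟩ : Nonempty (Sylow p G) := Sylow.nonempty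
  have hPn : ¬ (P : Subgroup G).Normal := by
    intro hn
    exact hconc (Or.inr ⟨P, hn, P.2, P.not_dvd_index⟩)
  have hPbot : (P : Subgroup G) ≠ ⊥ := by
    intro hb
    apply hPn
    rw [hb]
    infer_instance
  have hNtop : normalizer ((P : Subgroup G) : Set G) ≠ ⊤ := by
    intro htop
    exact hPn (Subgroup.normalizer_eq_top_iff.1 htop)
  -- not abelian
  have hcomm : commutator G = ⊤ := by
    rcases hsimple (commutator G) inferInstance with h1 | h1
    · exfalso
      apply hPn
      constructor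
      intro n hn g
      have h2 : g * n * g⁻¹ * n⁻¹ = 1 := by
        have h3 : g * n * g⁻¹ * n⁻¹ ∈ commutator G := by
          rw [commutator_def]
          exact Subgroup.commutator_mem_commutator (mem_top g) (mem_top n)
        rw [h1] at h3
        exact h3
      rw [mul_inv_eq_one] at h2
      rw [h2]
      exact hn
    · exact h1
  have hburn : ¬ normalizer ((P : Subgroup G) : Set G) ≤ centralizer ((P : Subgroup G) : Set G) :=
    fun hle => hconc (conc_of_burnside P hle)
  let N := normalizer ((P : Subgroup G) : Set G)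
  have hPN : (P : Subgroup G) ≤ N := Subgroup.le_normalizer
  -- complement
  haveI hP' : ((P : Subgroup G).subgroupOf N).Normal :=
    (normal_subgroupOf_iff_le_normalizer hPN).mpr le_rfl
  have hidx : ((P : Subgroup G).subgroupOf N).index = (P : Subgroup G).relIndex N := rfl
  have hnd : ¬ p ∣ (P : Subgroup G).relIndex N := by
    intro hd
    apply P.not_dvd_index
    rw [← Subgroup.relIndex_mul_index hPN]
    exact hd.mul_right _
  have hcop : (Nat.card ((P : Subgroup G).subgroupOf N)).Coprime ((P : Subgroup G).subgroupOf N).index := by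
    rw [H01.card_subgroupOf_of_le hPN, hidx]
    obtain ⟨a, ha⟩ := IsPGroup.iff_card.1 P.2
    rw [ha]
    apply Nat.Coprime.pow_left
    exact (Nat.Prime.coprime_iff_not_dvd Fact.out).2 hnd
  obtain ⟨T₀, hT₀⟩ := Subgroup.exists_right_complement'_of_coprime hcop
  let T := T₀.map N.subtype
  have hTN : T ≤ N := by
    rintro _ ⟨x, _, rfl⟩
    exact x.2
  have hTcard : Nat.card T = (P : Subgroup G).relIndex N := by
    rw [Subgroup.card_map_of_injective N.subtype_injective, ← hidx]
    exact hT₀.symm.index_eq_card.symm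
  have hTp : ¬ p ∣ Nat.card T := by rwa [hTcard]
  have hdec : ∀ n ∈ N, ∃ x ∈ (P : Subgroup G), ∃ t ∈ T, n = x * t := by
    intro n hn
    obtain ⟨⟨v, b⟩, hvb⟩ := (hT₀.existsUnique ⟨n, hn⟩).exists
    refine ⟨((v : N) : G), v.2, ((b : N) : G), ⟨b, b.2, rfl⟩, ?_⟩
    exact (congrArg Subtype.val hvb).symm
  have hTcomm := h.2 T hTp
  have hTc : ¬ T ≤ centralizer ((P : Subgroup G) : Set G) := by
    intro hT
    apply hburn
    intro n hn
    obtain ⟨x, hx, t, ht, rfl⟩ := hdec n hn
    apply mul_mem _ (hT ht)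
    rw [Subgroup.mem_centralizer_iff]
    intro y hy
    haveI := h.1 _ P.2
    have : (⟨y, hy⟩ * ⟨x, hx⟩ : (P : Subgroup G)) = ⟨x, hx⟩ * ⟨y, hy⟩ :=
      (IsCyclic.commGroup (α := (P : Subgroup G))).mul_comm _ _
    exact congrArg Subtype.val this
  obtain ⟨u, huT, huC⟩ := SetLike.not_le_iff_exists.1 hTc
  have hmax : ∀ M : Subgroup G, N ≤ M → M ≠ ⊤ → M = N := by
    intro M hNM hMtop
    have hPM : (P : Subgroup G) ≤ M := hPN.trans hNM
    rcases ih M hMtop with ⟨K, hKn, hK, n, hn⟩ | ⟨S, hSn, hS, hSi⟩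
    · -- the complement contains `T`
      exfalso
      apply huC
      rw [Subgroup.mem_centralizer_iff]
      intro x hx
      have huM : u ∈ M := hNM (hTN huT)
      have hxM : x ∈ M := hPM hx
      have huK : (⟨u, huM⟩ : M) ∈ K := by
        have h1 : (⟨u, huM⟩ : M) ^ K.index ∈ K := Subgroup.pow_index_mem _ _
        apply mem_of_pow_mem h1
        rw [hn]
        apply Nat.Coprime.pow_left
        rw [Subgroup.orderOf_mk]
        rw [Nat.Prime.coprime_iff_not_dvd Fact.out]
        intro hd
        exact hTp (hd.trans (Subgroup.orderOf_dvd_natCard _ huT))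
      have h1 : (⟨x, hxM⟩ : M) * (⟨u, huM⟩ : M)⁻¹ * (⟨x, hxM⟩ : M)⁻¹ ∈ K :=
        hKn.conj_mem _ (inv_mem huK) _
      have h2 : (⟨u, huM⟩ : M) * ((⟨x, hxM⟩ : M) * (⟨u, huM⟩ : M)⁻¹ * (⟨x, hxM⟩ : M)⁻¹) ∈ K :=
        mul_mem huK h1
      have h3 : u * (x * u⁻¹ * x⁻¹) ∈ (P : Subgroup G) := by
        have h4 : u * (x * u⁻¹ * x⁻¹) = (u * x * u⁻¹) * x⁻¹ := by group
        rw [h4]
        exact mul_mem ((Subgroup.mem_normalizer_iff.1 (hTN huT) x).1 hx) (inv_mem hx)
      have h4 : (u * (x * u⁻¹ * x⁻¹)) ^ Nat.card K = 1 := by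
        have h5 : (⟨_, h2⟩ : K) ^ Nat.card K = 1 := pow_card_eq_one'
        have h6 := congrArg Subtype.val h5
        have h7 := congrArg Subtype.val h6
        exact h7
      have h5 := eq_one_of_pow P.2 h3 h4 hK
      have h6 : u * x * u⁻¹ * x⁻¹ = 1 := by
        rw [← h5]; group
      rw [mul_inv_eq_one, mul_inv_eq_iff_eq_mul] at h6
      exact h6.symm
    · apply le_antisymm _ hNM
      -- `P` is the normal Sylow subgroup of `M`
      have hPS : (P : Subgroup G).subgroupOf M ≤ S := by
        intro x hx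
        have hxP : (x : G) ∈ (P : Subgroup G) := Subgroup.mem_subgroupOf.1 hx
        obtain ⟨k, hk⟩ := orderOf_of_mem_isPGroup P.2 hxP
        have h1 : x ^ S.index ∈ S := Subgroup.pow_index_mem _ _
        apply mem_of_pow_mem h1
        rw [← Subgroup.orderOf_coe, hk]
        apply Nat.Coprime.pow_right
        rw [Nat.coprime_comm, Nat.Prime.coprime_iff_not_dvd Fact.out]
        exact hSi
      have hSP : S.map M.subtype ≤ (P : Subgroup G) := by
        have h1 : IsPGroup p (S.map M.subtype) := hS.map _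
        have h2 : (P : Subgroup G) ≤ S.map M.subtype := by
          intro x hx
          exact ⟨⟨x, hPM hx⟩, hPS (Subgroup.mem_subgroupOf.2 hx), rfl⟩
        exact le_of_eq (P.is_maximal' h1 h2)
      intro m hm
      apply Subgroup.mem_normalizer_fintype
      intro x hx
      have h1 : (⟨m, hm⟩ : M) * ⟨x, hPM hx⟩ * (⟨m, hm⟩ : M)⁻¹ ∈ S :=
        hSn.conj_mem _ (hPS (Subgroup.mem_subgroupOf.2 hx)) _
      exact hSP ⟨_, h1, rfl⟩
  -- the subgroup of order `p`
  obtain ⟨W, hW, hWc⟩ : ∃ W : Subgroup G, W ≤ (P : Subgroup G) ∧ Nat.card W = p := by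
    have hne : Nat.card (P : Subgroup G) ≠ 1 := fun h1 => hPbot (Subgroup.card_eq_one.1 h1)
    obtain ⟨a, ha⟩ := IsPGroup.iff_card.1 P.2
    have ha0 : a ≠ 0 := by
      rintro rfl
      exact hne (by rw [ha, pow_zero])
    obtain ⟨y, hy⟩ := exists_prime_orderOf_dvd_card' (G := (P : Subgroup G)) p
      (by rw [ha]; exact dvd_pow_self p ha0)
    refine ⟨zpowers (y : G), ?_, ?_⟩
    · rw [Subgroup.zpowers_le]; exact y.2
    · rw [Nat.card_zpowers, Subgroup.orderOf_coe, hy]
  have hcardT : (Nat.card T : ZMod p) = 1 := by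
    have h1 := index_modEq h hcomm P
    have h2 : (P : Subgroup G).index = (P : Subgroup G).relIndex N * N.index :=
      (Subgroup.relIndex_mul_index hPN).symm
    have h3 : (N.index : ZMod p) = 1 := by
      have h4 := card_sylow_modEq_one p G
      have h6 : N.index = Nat.card (Sylow p G) := (Sylow.card_eq_index_normalizer P).symm
      rw [h6]
      have h5 := (ZMod.natCast_eq_natCast_iff _ _ _).2 h4
      simpa using h5
    rw [h2, Nat.cast_mul, h3, mul_one] at h1
    rw [hTcard]
    exact h1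
  let c : Ctx p G :=
    { h := h, hcomm := hcomm, simple := hsimple, P := P, W := W, T := T, hW := hW, hWc := hWc,
      hTN := hTN, hTp := hTp, hdec := hdec, hTc := hTc, hmax := hmax, hTcard := hcardT }
  exact c.false_of_ctx

/-- The main theorem. -/
theorem main [Fact p.Prime] : ∀ (n : ℕ) (G : Type u) [Group G] [Finite G], Nat.card G = n → Hyp p G →
    Conc p G := by
  intro n
  induction n using Nat.strong_induction_on with
  | _ n ih =>
    intro G _ _ hn h
    by_contra hconc
    have hcardq : ∀ V : Subgroup G, V ≠ ⊥ → Nat.card (G ⧸ V) < n := by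
      intro V hV
      have h1 := Subgroup.card_mul_index V
      have h2 : 1 < Nat.card V := by
        have h3 : Nat.card V ≠ 1 := fun h4 => hV (Subgroup.card_eq_one.1 h4)
        have h4 : 0 < Nat.card V := Nat.card_pos
        omega
      have h5 : 0 < V.index := Nat.pos_of_ne_zero Subgroup.index_ne_zero_of_finite
      rw [← hn, ← h1]
      show V.index < _
      nlinarith
    have hV1 : ∀ V : Subgroup G, V.Normal → ¬ p ∣ Nat.card V → V = ⊥ := by
      intro V hVn hV
      by_contra hne
      haveI := hVn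
      exact hconc (step1 h V hV (ih _ (hcardq V hne) (G ⧸ V) rfl (h.quot_pprime V hV)))
    have hV2 : ∀ V : Subgroup G, V.Normal → IsPGroup p V → V = ⊥ := by
      intro V hVn hV
      by_contra hne
      haveI := hVn
      exact hconc (step2 h V hV (ih _ (hcardq V hne) (G ⧸ V) rfl (h.quot_p V hV)))
    have hcardM : ∀ M : Subgroup G, M ≠ ⊤ → Nat.card M < n := by
      intro M hM
      rw [← hn]
      apply Nat.lt_of_le_of_ne (Subgroup.card_le_card_group M)
      intro h1
      exact hM (Subgroup.eq_top_of_card_eq M h1)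
    have ihM : ∀ M : Subgroup G, M ≠ ⊤ → Conc p M := fun M hM =>
      ih _ (hcardM M hM) M rfl (h.subgroup M)
    have hsimple : ∀ X : Subgroup G, X.Normal → X = ⊥ ∨ X = ⊤ := by
      intro M hM
      by_contra hcon
      push_neg at hcon
      obtain ⟨hbot, htop⟩ := hcon
      rcases ihM M htop with ⟨K, hKn, hK, m, hm⟩ | ⟨S, hSn, hS, hSi⟩
      · -- the complement in `M`
        let K' := K.map M.subtype
        have hK'card : Nat.card K' = Nat.card K := Subgroup.card_map_of_injective M.subtype_injective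
        have hK'M : K' ≤ M := by
          rintro _ ⟨x, _, rfl⟩
          exact x.2
        have hK'sub : K'.subgroupOf M = K := Subgroup.comap_map_eq_self_of_injective M.subtype_injective _
        have hK'n : K'.Normal := by
          apply normal_of_normal_hall hM hK'M
          · intro x hx
            apply Subgroup.mem_normalizer_fintype
            rintro _ ⟨y, hy, rfl⟩
            exact ⟨_, hKn.conj_mem y hy ⟨x, hx⟩, rfl⟩
          · rw [hK'card, Subgroup.relIndex, hK'sub, hm]
            apply Nat.Coprime.pow_right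
            rw [Nat.coprime_comm, Nat.Prime.coprime_iff_not_dvd Fact.out]
            exact hK
        have hK'bot := hV1 K' hK'n (by rw [hK'card]; exact hK)
        have hKbot : K = ⊥ := by
          rw [← hK'sub, hK'bot]
          simp
        have hMp : IsPGroup p M := by
          apply IsPGroup.of_card (n := m)
          rw [← hm, hKbot, Subgroup.index_bot]
        exact hbot (hV2 M hM (hMp))
      · -- the Sylow subgroup of `M`
        let S' := S.map M.subtype
        have hS'card : Nat.card S' = Nat.card S := Subgroup.card_map_of_injective M.subtype_injective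
        have hS'M : S' ≤ M := by
          rintro _ ⟨x, _, rfl⟩
          exact x.2
        have hS'sub : S'.subgroupOf M = S := Subgroup.comap_map_eq_self_of_injective M.subtype_injective _
        have hS'n : S'.Normal := by
          apply normal_of_normal_hall hM hS'M
          · intro x hx
            apply Subgroup.mem_normalizer_fintype
            rintro _ ⟨y, hy, rfl⟩
            exact ⟨_, hSn.conj_mem y hy ⟨x, hx⟩, rfl⟩
          · rw [hS'card, Subgroup.relIndex, hS'sub]
            obtain ⟨a, ha⟩ := IsPGroup.iff_card.1 hS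
            rw [ha]
            apply Nat.Coprime.pow_left
            exact (Nat.Prime.coprime_iff_not_dvd Fact.out).2 hSi
        have hS'bot := hV2 S' hS'n (hS.map _)
        have hSbot : S = ⊥ := by
          rw [← hS'sub, hS'bot]
          simp
        have hMp : ¬ p ∣ Nat.card M := by
          rw [hSbot, Subgroup.index_bot] at hSi
          exact hSi
        exact hbot (hV1 M hM hMp)
    exact hconc (simple_case h hsimple ihM)

end Cfsg.Agent.H19.Sp
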