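import Cfsg.Agent.Lib.H19.Lifts
import Mathlib

set_option autoImplicit false
open scoped Pointwise

namespace Cfsg.Agent.H19

variable {G : Type*} [Group G] [Finite G] {p : ℕ} [Fact p.Prime]

/-- If a Sylow `p`-subgroup is TI, two Sylow `p`-subgroups sharing a nontrivial element coincide. -/
theorem ti_sylow_eq (P : Sylow p G)
    (hTI : ∀ g : G, g ∉ Subgroup.normalizer ((P : Subgroup G) : Set G) →
      (P : Subgroup G) ⊓ (MulAut.conj g • (P : Subgroup G)) = ⊥)
    (P₁ P₂ : Sylow p G) (x : G) (hx : x ≠ 1) (hx1 : x ∈ (P₁ : Subgroup G)) (hx2 : x ∈ (P₂ : Subgroup G)) :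
    P₁ = P₂ := by
  obtain ⟨a, rfl⟩ := MulAction.exists_smul_eq G P P₁
  obtain ⟨b, rfl⟩ := MulAction.exists_smul_eq G P P₂
  rw [Sylow.coe_subgroup_smul, mem_conj_smul] at hx1 hx2
  by_cases h : a⁻¹ * b ∈ Subgroup.normalizer ((P : Subgroup G) : Set G)
  · have h1 : (a⁻¹ * b) • P = P := Sylow.smul_eq_iff_mem_normalizer.2 h
    have h2 : b • P = a • P := by
      conv_rhs => rw [← h1, smul_smul, mul_inv_cancel_left]
    exact h2.symm
  · exfalso
    have h1 := hTI _ h
    have h2 : a⁻¹ * x * a ∈ (P : Subgroup G) ⊓ (MulAut.conj (a⁻¹ * b) • (P : Subgroup G)) := by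
      refine Subgroup.mem_inf.2 ⟨hx1, ?_⟩
      rw [mem_conj_smul]
      convert hx2 using 1
      group
    rw [h1, Subgroup.mem_bot] at h2
    apply hx
    have : x = a * (a⁻¹ * x * a) * a⁻¹ := by group
    rw [this, h2]
    group

end Cfsg.Agent.H19

namespace Cfsg.Agent.H19

variable {G : Type*} [Group G] [Finite G] {p : ℕ} [Fact p.Prime]

/-- A `p`-element normalizing a subgroup containing a Sylow `p`-subgroup lies in it. -/
theorem mem_of_mem_normalizer_of_sylow_le (S : Sylow p G) (C : Subgroup G)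
    (hSC : (S : Subgroup G) ≤ C) (h : G) (k : ℕ) (hk : orderOf h = p ^ k)
    (hhN : h ∈ Subgroup.normalizer (C : Set G)) : h ∈ C := by
  classical
  have hp := (Fact.out : p.Prime)
  have hidx : ¬ p ∣ C.index := by
    intro h2
    exact S.not_dvd_index (h2.trans (Subgroup.index_dvd_of_le hSC))
  set N := Subgroup.normalizer (C : Set G) with hN
  let C' : Subgroup N := C.subgroupOf N
  have hC'n : C'.Normal := Subgroup.normal_in_normalizer
  let hh : N := ⟨h, hhN⟩
  have hord : orderOf ((hh : N) : N ⧸ C') ∣ Nat.card (N ⧸ C') := orderOf_dvd_natCard _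
  have hrel : Nat.card (N ⧸ C') ∣ C.index := by
    have h1 : C.relIndex N * N.index = C.index := Subgroup.relIndex_mul_index Subgroup.le_normalizer
    have h2 : Nat.card (N ⧸ C') = C.relIndex N := rfl
    rw [h2]
    exact Dvd.intro _ h1
  have hord2 : orderOf ((hh : N) : N ⧸ C') ∣ p ^ k := by
    apply orderOf_dvd_of_pow_eq_one
    rw [← QuotientGroup.mk_pow]
    have : hh ^ p ^ k = 1 := by
      apply Subtype.ext
      show h ^ p ^ k = 1
      rw [← hk]; exact pow_orderOf_eq_one h
    rw [this]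
    rfl
  have hone : orderOf ((hh : N) : N ⧸ C') = 1 := by
    obtain ⟨j, -, hj⟩ := (Nat.dvd_prime_pow hp).1 hord2
    by_cases hj0 : j = 0
    · rw [hj, hj0, pow_zero]
    · exfalso
      apply hidx
      refine Dvd.dvd.trans ?_ (hord.trans hrel)
      rw [hj]
      exact dvd_pow_self p hj0
  rw [orderOf_eq_one_iff, QuotientGroup.eq_one_iff, Subgroup.mem_subgroupOf] at hone
  exact hone

/-- If a `p`-element commutes with all of its conjugates, it lies in every Sylow `p`-subgroup. -/
theorem mem_sylow_of_commute_conj (w : G) (k : ℕ) (hk : orderOf w = p ^ k)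
    (hcomm : ∀ g : G, (g * w * g⁻¹) * w = w * (g * w * g⁻¹)) (R : Sylow p G) :
    w ∈ (R : Subgroup G) := by
  classical
  have hgen : ∀ x ∈ Group.conjugatesOfSet ({w} : Set G), ∀ y ∈ Group.conjugatesOfSet ({w} : Set G),
      x * y = y * x := by
    intro x hx y hy
    rw [Group.mem_conjugatesOfSet_iff] at hx hy
    obtain ⟨a, ha, ha'⟩ := hx
    obtain ⟨b, hb, hb'⟩ := hy
    rw [Set.mem_singleton_iff] at ha hb
    rw [ha] at ha'
    rw [hb] at hb'
    obtain ⟨c, rfl⟩ := isConj_iff.1 ha'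
    obtain ⟨d, rfl⟩ := isConj_iff.1 hb'
    have h1 := hcomm (c⁻¹ * d)
    have e1 : c⁻¹ * d * w * (c⁻¹ * d)⁻¹ = c⁻¹ * (d * w * d⁻¹) * c := by group
    rw [e1] at h1
    calc c * w * c⁻¹ * (d * w * d⁻¹) = c * (w * (c⁻¹ * (d * w * d⁻¹) * c)) * c⁻¹ := by group
      _ = c * ((c⁻¹ * (d * w * d⁻¹) * c) * w) * c⁻¹ := by rw [h1]
      _ = d * w * d⁻¹ * (c * w * c⁻¹) := by group
  set A := Subgroup.normalClosure ({w} : Set G) with hA
  have hAdef : A = Subgroup.closure (Group.conjugatesOfSet ({w} : Set G)) := rfl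
  have hAcomm : ∀ x ∈ A, ∀ y ∈ A, x * y = y * x := by
    intro x hx y hy
    have h1 := Subgroup.isMulCommutative_closure hgen
    rw [hAdef] at hx hy
    have := h1.is_comm.comm (⟨x, hx⟩ : Subgroup.closure (Group.conjugatesOfSet ({w} : Set G))) ⟨y, hy⟩
    exact congrArg Subtype.val this
  have hApow : ∀ x ∈ A, x ^ (p ^ k) = 1 := by
    intro x hx
    rw [hAdef] at hx
    induction hx using Subgroup.closure_induction with
    | mem x hx =>
      rw [Group.mem_conjugatesOfSet_iff] at hx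
      obtain ⟨a, ha, ha'⟩ := hx
      rw [Set.mem_singleton_iff] at ha
      rw [ha] at ha'
      obtain ⟨c, rfl⟩ := isConj_iff.1 ha'
      rw [conj_pow, ← hk, pow_orderOf_eq_one]
      group
    | one => simp
    | mul x y hx hy hx1 hy1 =>
      have hc : Commute x y := hAcomm x hx y hy
      rw [hc.mul_pow, hx1, hy1, one_mul]
    | inv x hx hx1 => rw [inv_pow, hx1, inv_one]
  have hAp : IsPGroup p A := by
    intro x
    refine ⟨k, ?_⟩
    apply Subtype.ext
    simpa using hApow x x.2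
  have hAn : A.Normal := Subgroup.normalClosure_normal
  exact hAp.le_sylow_of_normal R (Subgroup.subset_normalClosure (Set.mem_singleton w))

end Cfsg.Agent.H19
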