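import Cfsg.Agent.Lib.H19.Lifts
import Cfsg.Agent.Lib.H13.FrobOdd

/-!
`p`-groups with two cyclic maximal subgroups; `p`-groups with exactly one subgroup of some order
(helper19).
-/

set_option autoImplicit false
set_option linter.style.haveILetI false

universe u

namespace Cfsg.Agent.H19

open Cfsg.Agent.H13

/-- A group of order `p ^ (n+1)` with two distinct cyclic subgroups of index `p`. -/
theorem exists_small_outside {X : Type*} [Group X] [Finite X] {p n : ℕ} [Fact p.Prime]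
    (hX : Nat.card X = p ^ (n + 1)) {M₁ M₂ : Subgroup X} (h1 : Nat.card M₁ = p ^ n)
    (h2 : Nat.card M₂ = p ^ n) (hne : M₁ ≠ M₂) (hc1 : IsCyclic M₁) (hc2 : IsCyclic M₂) :
    (∀ d ∈ M₁ ⊓ M₂, ∀ g : X, g * d = d * g) ∧
    ∃ t, t ∉ M₁ ∧ (p ≠ 2 → t ^ p = 1) ∧ (p = 2 → t ^ 4 = 1) := by
  have hpp : p.Prime := Fact.out
  have hidx : ∀ M : Subgroup X, Nat.card M = p ^ n → M.index = p := by
    intro M hM
    have h3 := M.card_mul_index
    rw [hM, hX, pow_succ] at h3
    exact Nat.eq_of_mul_eq_mul_left (pow_pos hpp.pos n) h3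
  have hnorm : ∀ M : Subgroup X, Nat.card M = p ^ n → M.Normal := by
    intro M hM
    apply Subgroup.normal_of_index_eq_minFac_card
    rw [hidx M hM, hX, Nat.Prime.pow_minFac hpp (Nat.succ_ne_zero n)]
  haveI hn1 := hnorm M₁ h1
  haveI hn2 := hnorm M₂ h2
  have hnle : ∀ {M M' : Subgroup X}, Nat.card M = p ^ n → Nat.card M' = p ^ n → M ≤ M' → M = M' := by
    intro M M' hM hM' hle
    exact Subgroup.eq_of_le_of_card_ge hle (by rw [hM, hM'])
  -- generators
  obtain ⟨a₀, ha₀⟩ := hc1.exists_generator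
  obtain ⟨b₀, hb₀⟩ := hc2.exists_generator
  set a : X := a₀.1 with ha
  set b : X := b₀.1 with hb
  have haM : a ∈ M₁ := a₀.2
  have hbM : b ∈ M₂ := b₀.2
  have hgen1 : ∀ x ∈ M₁, ∃ k : ℕ, a ^ k = x := by
    intro x hx
    have h3 := ha₀ ⟨x, hx⟩
    rw [← mem_powers_iff_mem_zpowers, Submonoid.mem_powers_iff] at h3
    obtain ⟨k, hk⟩ := h3
    exact ⟨k, congrArg Subtype.val hk⟩
  have hgen2 : ∀ x ∈ M₂, ∃ k : ℕ, b ^ k = x := by
    intro x hx
    have h3 := hb₀ ⟨x, hx⟩
    rw [← mem_powers_iff_mem_zpowers, Submonoid.mem_powers_iff] at h3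
    obtain ⟨k, hk⟩ := h3
    exact ⟨k, congrArg Subtype.val hk⟩
  have hsup : M₁ ⊔ M₂ = ⊤ := by
    have h3 : Nat.card (M₁ ⊔ M₂ : Subgroup X) ∣ p ^ (n + 1) := by
      rw [← hX]; exact Subgroup.card_subgroup_dvd_card _
    obtain ⟨j, hj, hj2⟩ := (Nat.dvd_prime_pow hpp).1 h3
    have h4 : p ^ n ∣ p ^ j := by
      rw [← hj2, ← h2]; exact Subgroup.card_dvd_of_le le_sup_right
    have h5 : n ≤ j := (Nat.pow_dvd_pow_iff_le_right hpp.one_lt).1 h4
    rcases Nat.lt_or_ge j (n + 1) with h6 | h6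
    · have h7 : j = n := by omega
      subst h7
      have h8 : M₂ = M₁ ⊔ M₂ := hnle h2 hj2 le_sup_right
      have h9 : M₁ ≤ M₂ := by rw [h8]; exact le_sup_left
      exact absurd (hnle h1 h2 h9) hne
    · have h7 : j = n + 1 := by omega
      subst h7
      exact Subgroup.eq_top_of_card_eq _ (by rw [hj2, hX])
  have hcentral : ∀ d ∈ M₁ ⊓ M₂, ∀ g : X, g * d = d * g := by
    intro d hd g
    have hg : g ∈ M₁ ⊔ M₂ := by rw [hsup]; trivial
    obtain ⟨u, hu, v, hv, rfl⟩ := Subgroup.mem_sup_of_normal_left.1 hg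
    obtain ⟨k1, hk1⟩ := hgen1 u hu
    obtain ⟨k2, hk2⟩ := hgen1 d hd.1
    obtain ⟨k3, hk3⟩ := hgen2 v hv
    obtain ⟨k4, hk4⟩ := hgen2 d hd.2
    have e1 : u * d = d * u := by
      rw [← hk1, ← hk2, ← pow_add, ← pow_add, add_comm]
    have e2 : v * d = d * v := by
      rw [← hk3, ← hk4, ← pow_add, ← pow_add, add_comm]
    calc u * v * d = u * (v * d) := by group
      _ = u * (d * v) := by rw [e2]
      _ = (u * d) * v := by group
      _ = (d * u) * v := by rw [e1]
      _ = d * (u * v) := by group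
  refine ⟨hcentral, ?_⟩
  have hbM1 : b ∉ M₁ := by
    intro hb1
    have : M₂ ≤ M₁ := by
      intro x hx
      obtain ⟨k, rfl⟩ := hgen2 x hx
      exact M₁.pow_mem hb1 k
    exact hne (hnle h2 h1 this).symm
  have hbp1 : b ^ p ∈ M₁ := by
    have := Subgroup.pow_index_mem M₁ b
    rwa [hidx M₁ h1] at this
  have hbp2 : b ^ p ∈ M₂ := M₂.pow_mem hbM p
  obtain ⟨w, hw⟩ := hgen1 _ hbp1
  have hpw : p ∣ w := by
    by_contra hpw
    have h3 : (orderOf a).Coprime w := by
      have h4 : orderOf a ∣ p ^ n := by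
        rw [← h1, ← Subgroup.orderOf_mk a haM]
        exact orderOf_dvd_natCard _
      exact Nat.Coprime.coprime_dvd_left h4 (Nat.Coprime.pow_left n ((Nat.Prime.coprime_iff_not_dvd hpp).2 hpw))
    have h4 := mem_zpowers_pow_of_coprime h3
    rw [hw] at h4
    have h5 : a ∈ M₂ := by
      have : Subgroup.zpowers (b ^ p) ≤ M₂ := by
        rw [Subgroup.zpowers_le]; exact hbp2
      exact this h4
    have : M₁ ≤ M₂ := by
      intro x hx
      obtain ⟨k, rfl⟩ := hgen1 x hx
      exact M₂.pow_mem h5 k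
    exact hne (hnle h1 h2 this)
  obtain ⟨k', rfl⟩ := hpw
  set y : X := (a ^ k')⁻¹ with hy
  have hyM : y ∈ M₁ := M₁.inv_mem (M₁.pow_mem haM k')
  set c : X := y * b * y⁻¹ * b⁻¹ with hc
  have hcD : c ∈ M₁ ⊓ M₂ := by
    constructor
    · have : c = y * (b * y⁻¹ * b⁻¹) := by rw [hc]; group
      rw [this]
      exact M₁.mul_mem hyM (hn1.conj_mem _ (M₁.inv_mem hyM) b)
    · exact M₂.mul_mem (hn2.conj_mem _ hbM y) (M₂.inv_mem hbM)
  have h3 : y * b = c * b * y := by rw [hc]; group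
  have hcb : Commute c b := (hcentral c hcD b).symm
  have hcy : Commute c y := (hcentral c hcD y).symm
  have h4 := mul_pow_of_central h3 hcb hcy
  have hyp : y ^ p = (b ^ p)⁻¹ := by
    rw [hy, inv_pow, ← pow_mul, mul_comm, hw]
  have hbpD : b ^ p ∈ M₁ ⊓ M₂ := ⟨hbp1, hbp2⟩
  have hcp : c ^ p = 1 := by
    have h5 := (h4 p).1
    rw [hyp] at h5
    have h6 : (b ^ p)⁻¹ * b = b * (b ^ p)⁻¹ :=
      (hcentral _ ((M₁ ⊓ M₂).inv_mem hbpD) b).symm
    rw [h6] at h5
    have h7 : b * (b ^ p)⁻¹ = c ^ p * (b * (b ^ p)⁻¹) := by rw [← mul_assoc]; exact h5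
    exact mul_eq_right.1 h7.symm
  refine ⟨b * y, ?_, ?_, ?_⟩
  · intro h5
    apply hbM1
    have := M₁.mul_mem h5 (M₁.inv_mem hyM)
    simpa using this
  · intro hp2
    have hdvd : p ∣ p.choose 2 := hpp.dvd_choose_self (by norm_num) (lt_of_le_of_ne hpp.two_le (Ne.symm hp2))
    obtain ⟨j, hj⟩ := hdvd
    rw [(h4 p).2, hj, pow_mul, hcp, one_pow, mul_one, hyp]
    simp
  · intro hp2
    subst hp2
    have h5 := (h4 2).2
    rw [hyp] at h5
    have h6 : (2 : ℕ).choose 2 = 1 := by decide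
    rw [h6, pow_one, mul_inv_cancel, one_mul] at h5
    rw [show (4 : ℕ) = 2 * 2 by norm_num, pow_mul, h5, hcp]

/-- A `p`-group with exactly one subgroup of order `p ^ s`. -/
theorem isCyclic_of_unique_subgroup {p s : ℕ} [Fact p.Prime] (hs : 1 ≤ s) (h2 : p ≠ 2 ∨ 2 ≤ s) :
    ∀ (m : ℕ) (X : Type u) [Group X] [Finite X], Nat.card X = p ^ m → s < m →
      (∀ H K : Subgroup X, Nat.card H = p ^ s → Nat.card K = p ^ s → H = K) → IsCyclic X := by
  have hpp : p.Prime := Fact.out
  intro m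
  induction m with
  | zero => intro X _ _ _ h; omega
  | succ m ih =>
    intro X _ _ hX hsm huniq
    by_contra hnc
    obtain ⟨M₁, hM₁⟩ := Sylow.exists_subgroup_card_pow_prime (G := X) p (n := m)
      (by rw [hX]; exact pow_dvd_pow p (Nat.le_succ m))
    have hM₁top : M₁ ≠ ⊤ := by
      rintro rfl
      rw [Subgroup.card_top, hX] at hM₁
      have := Nat.pow_right_injective hpp.two_le hM₁
      omega
    obtain ⟨x, hx⟩ : ∃ x, x ∉ M₁ := by
      by_contra hcon
      push_neg at hcon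
      exact hM₁top (eq_top_iff.2 (fun y _ => hcon y))
    have hxord : orderOf x ∣ p ^ (m + 1) := by rw [← hX]; exact orderOf_dvd_natCard x
    obtain ⟨j, hj, hj2⟩ := (Nat.dvd_prime_pow hpp).1 hxord
    have hjm : j ≤ m := by
      by_contra hcon
      have hj' : j = m + 1 := by omega
      subst hj'
      exact hnc (isCyclic_of_orderOf_eq_card x (by rw [hj2, hX]))
    obtain ⟨M₂, hM₂, hxM₂⟩ := Sylow.exists_subgroup_card_pow_prime_le p (n := j) (m := m)
      (by rw [hX]; exact pow_dvd_pow p (Nat.le_succ m)) (Subgroup.zpowers x)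
      (by rw [Nat.card_zpowers, hj2]) hjm
    have hxM₂' : x ∈ M₂ := hxM₂ (Subgroup.mem_zpowers x)
    have hne : M₁ ≠ M₂ := by
      rintro rfl
      exact hx hxM₂'
    have hsm' : s < m := by
      rcases Nat.lt_or_ge s m with h | h
      · exact h
      · have : s = m := by omega
        subst this
        exact absurd (huniq M₁ M₂ hM₁ hM₂) hne
    have hrestrict : ∀ M : Subgroup X, Nat.card M = p ^ m → IsCyclic M := by
      intro M hM
      apply ih M hM hsm'
      intro H K hH hK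
      apply Subgroup.map_injective M.subtype_injective
      apply huniq
      · rw [← hH]
        exact Nat.card_congr (H.equivMapOfInjective _ M.subtype_injective).toEquiv.symm
      · rw [← hK]
        exact Nat.card_congr (K.equivMapOfInjective _ M.subtype_injective).toEquiv.symm
    obtain ⟨-, t, ht, ht2, ht3⟩ := exists_small_outside hX hM₁ hM₂ hne (hrestrict M₁ hM₁) (hrestrict M₂ hM₂)
    -- the order of `t`
    obtain ⟨e, hes, he⟩ : ∃ e, e ≤ s ∧ t ^ p ^ e = 1 := by
      by_cases hp2 : p = 2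
      · refine ⟨2, ?_, ?_⟩
        · rcases h2 with h | h
          · exact absurd hp2 h
          · exact h
        · rw [hp2]; exact ht3 hp2
      · exact ⟨1, hs, by simpa using ht2 hp2⟩
    obtain ⟨i, hi, hi2⟩ := (Nat.dvd_prime_pow hpp).1 (orderOf_dvd_of_pow_eq_one he)
    obtain ⟨K, hK, htK⟩ := Sylow.exists_subgroup_card_pow_prime_le p (n := i) (m := s)
      (by rw [hX]; exact pow_dvd_pow p (by omega)) (Subgroup.zpowers t)
      (by rw [Nat.card_zpowers, hi2]) (by omega)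
    -- a subgroup of order `p ^ s` of `M₁`
    obtain ⟨H₁, hH₁⟩ := Sylow.exists_subgroup_card_pow_prime (G := M₁) p (n := s)
      (by rw [hM₁]; exact pow_dvd_pow p hsm'.le)
    have hH₁' : Nat.card (H₁.map M₁.subtype) = p ^ s := by
      rw [← hH₁]
      exact Nat.card_congr (H₁.equivMapOfInjective _ M₁.subtype_injective).toEquiv.symm
    have hKeq := huniq K _ hK hH₁'
    apply ht
    have h5 : t ∈ H₁.map M₁.subtype := by
      rw [← hKeq]; exact htK (Subgroup.mem_zpowers t)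
    obtain ⟨y, -, hy⟩ := h5
    rw [← hy]
    exact y.2

end Cfsg.Agent.H19
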